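import Cfsg.Agent.H85.AltDeg.Core

/-!
Restrictions of modules of alternating groups to smaller alternating groups, and some more
identities between double transpositions.
-/

set_option autoImplicit false
set_option linter.unusedSectionVars false

namespace Cfsg.Agent.H85.AltDeg

open Module Submodule Equiv

variable {α : Type*} [Fintype α] [DecidableEq α] {k : Type*} [Field k]
  {V : Type*} [AddCommGroup V] [Module k V] {ρ : alternatingGroup α →* Module.End k V}

section Points

variable {a b c d : α}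

/-- Four distinct points. -/
structure Quad (a b c d : α) : Prop where
  ab : a ≠ b
  ac : a ≠ c
  ad : a ≠ d
  bc : b ≠ c
  bd : b ≠ d
  cd : c ≠ d

theorem Quad.map (q : Quad a b c d) (g : Perm α) : Quad (g a) (g b) (g c) (g d) :=
  ⟨g.injective.ne q.ab, g.injective.ne q.ac, g.injective.ne q.ad, g.injective.ne q.bc,
    g.injective.ne q.bd, g.injective.ne q.cd⟩

theorem Quad.rot (q : Quad a b c d) : Quad a c d b :=
  ⟨q.ac, q.ad, q.ab, q.cd, q.bc.symm, q.bd.symm⟩

theorem Quad.injective (q : Quad a b c d) : Function.Injective ![a, b, c, d] := by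
  intro i j h
  fin_cases i <;> fin_cases j <;>
    first
      | rfl
      | exact absurd h q.ab
      | exact absurd h q.ac
      | exact absurd h q.ad
      | exact absurd h q.bc
      | exact absurd h q.bd
      | exact absurd h q.cd
      | exact absurd h.symm q.ab
      | exact absurd h.symm q.ac
      | exact absurd h.symm q.ad
      | exact absurd h.symm q.bc
      | exact absurd h.symm q.bd
      | exact absurd h.symm q.cd

theorem Quad.move (q : Quad a b c d) {a' b' c' d' : α} (q' : Quad a' b' c' d')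
    (h6 : 6 ≤ Fintype.card α) : ∃ g : alternatingGroup α, (g : Perm α) a = a' ∧ (g : Perm α) b = b' ∧
      (g : Perm α) c = c' ∧ (g : Perm α) d = d' := by
  obtain ⟨g, hg⟩ := exists_move (by omega) ![a, b, c, d] ![a', b', c', d'] q.injective q'.injective
  exact ⟨g, hg 0, hg 1, hg 2, hg 3⟩

theorem dt_swap_right (hab : a ≠ b) (hcd : c ≠ d) : dt a b d c = dt a b c d :=
  Subtype.ext (by rw [dt_coe hab hcd.symm, dt_coe hab hcd, swap_comm d c])

theorem dt_mul_dt (q : Quad a b c d) : dt a b c d * dt a c b d = dt a d b c := by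
  obtain ⟨hab, hac, had, hbc, hbd, hcd⟩ := q
  apply Subtype.ext
  refine Equiv.ext fun x => ?_
  rw [Subgroup.coe_mul, Perm.mul_apply, dt_apply hac hbd, dt_apply hab hcd, dt_apply had hbc]
  simp only [swap_apply_def]
  split_ifs <;> simp_all

theorem dt_mul_dt' (q : Quad a b c d) : dt a c b d * dt a b c d = dt a d b c := by
  rw [dt_mul_dt ⟨q.ac, q.ab, q.ad, q.bc.symm, q.cd, q.bd⟩, dt_swap_right q.ad q.bc]

theorem dt_commute (q : Quad a b c d) : Commute (dt a b c d) (dt a c b d) :=
  (dt_mul_dt q).trans (dt_mul_dt' q).symm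

theorem dt_sq (q : Quad a b c d) : dt a b c d * dt a b c d = 1 :=
  dt_mul_self q.ab q.cd q.ac q.ad q.bc q.bd

theorem commute_dt {g : alternatingGroup α} (ha : (g : Perm α) a = a) (hb : (g : Perm α) b = b)
    (hc : (g : Perm α) c = c) (hd : (g : Perm α) d = d) : Commute g (dt a b c d) := by
  have h := conj_dt g a b c d
  rw [ha, hb, hc, hd] at h
  exact mul_inv_eq_iff_eq_mul.1 h

theorem dt_apply_other (hab : a ≠ b) (hcd : c ≠ d) {x : α}
    (h : x ≠ a ∧ x ≠ b ∧ x ≠ c ∧ x ≠ d) : ((dt a b c d : alternatingGroup α) : Perm α) x = x := by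
  rw [dt_apply hab hcd, swap_apply_of_ne_of_ne h.2.2.1 h.2.2.2, swap_apply_of_ne_of_ne h.1 h.2.1]

theorem card_avoid (s : Finset α) : Fintype.card {x // x ∉ s} = Fintype.card α - s.card := by
  rw [Fintype.card_subtype_compl, Fintype.card_coe]

end Points

variable (ρ)

/-- Some three-cycle acts non-trivially. -/
def Nontriv : Prop := ∃ a b c : α, a ≠ b ∧ b ≠ c ∧ a ≠ c ∧ ρ (cy a b c) ≠ 1

variable {ρ}

theorem eq_one_of_not_nontriv (h : ¬ Nontriv ρ) (g : alternatingGroup α) : ρ g = 1 := by
  have hg : g ∈ Subgroup.closure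
      {g : alternatingGroup α | ∃ a b c, a ≠ b ∧ b ≠ c ∧ a ≠ c ∧ g = cy a b c} := by
    rw [closure_cy]; trivial
  induction hg using Subgroup.closure_induction with
  | mem y hy =>
    obtain ⟨x, y, z, h1, h2, h3, rfl⟩ := hy
    by_contra hne
    exact h ⟨x, y, z, h1, h2, h3, hne⟩
  | one => exact map_one ρ
  | mul x y _ _ hx hy => rw [map_mul, hx, hy, one_mul]
  | inv x _ hx =>
    have h1 : ρ x⁻¹ * ρ x = 1 := by rw [← map_mul, inv_mul_cancel, map_one]
    rwa [hx, mul_one] at h1

theorem nontriv_of_ne_one {g : alternatingGroup α} (h : ρ g ≠ 1) : Nontriv ρ :=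
  by_contra fun hn => h (eq_one_of_not_nontriv hn g)

theorem cy_ne_one_of_nontriv (hn : Nontriv ρ) (h5 : 5 ≤ Fintype.card α) {a b c : α} (hab : a ≠ b)
    (hbc : b ≠ c) (hac : a ≠ c) : ρ (cy a b c) ≠ 1 := by
  obtain ⟨a', b', c', h1, h2, h3, hne⟩ := hn
  obtain ⟨g, hg⟩ := exists_move (j := 3) (by omega) ![a, b, c] ![a', b', c']
    (List.nodup_ofFn.1 (by simp [List.ofFn_succ, hab, hbc, hac]))
    (List.nodup_ofFn.1 (by simp [List.ofFn_succ, h1, h2, h3]))
  intro h
  apply hne
  have hc := conj_cy g a b c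
  rw [show (g : Perm α) a = a' from hg 0, show (g : Perm α) b = b' from hg 1,
    show (g : Perm α) c = c' from hg 2] at hc
  rw [← hc, map_mul, map_mul, h, mul_one, ← map_mul, mul_inv_cancel, map_one]

theorem apply_mul (g h : alternatingGroup α) (v : V) : ρ g (ρ h v) = ρ (g * h) v := by
  rw [map_mul, Module.End.mul_apply]

theorem apply_comm {g h : alternatingGroup α} (hc : Commute g h) (v : V) :
    ρ g (ρ h v) = ρ h (ρ g v) := by rw [apply_mul, apply_mul, hc.eq]

variable (ρ) in
/-- The action of the alternating group of the points satisfying `p` on an invariant subspace. -/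
def restr (p : α → Prop) [DecidablePred p] (T : Submodule k V)
    (h : ∀ g : alternatingGroup {x // p x}, ∀ v ∈ T, ρ (incl p g) v ∈ T) :
    alternatingGroup {x // p x} →* Module.End k T where
  toFun g := (ρ (incl p g)).restrict (h g)
  map_one' := LinearMap.ext fun v => Subtype.ext (by
    rw [LinearMap.coe_restrict_apply, map_one, map_one]; rfl)
  map_mul' g g' := LinearMap.ext fun v => Subtype.ext (by
    rw [LinearMap.coe_restrict_apply, map_mul, map_mul]; rfl)

theorem apply_eq_of_not_nontriv {p : α → Prop} [DecidablePred p] {T : Submodule k V}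
    {h : ∀ g : alternatingGroup {x // p x}, ∀ v ∈ T, ρ (incl p g) v ∈ T}
    (hn : ¬ Nontriv (restr ρ p T h)) {e f g : α} (he : p e) (hf : p f) (hg : p g) {v : V}
    (hv : v ∈ T) : ρ (cy e f g) v = v := by
  have h1 := eq_one_of_not_nontriv hn (cy ⟨e, he⟩ ⟨f, hf⟩ ⟨g, hg⟩)
  have h2 := congrArg Subtype.val (LinearMap.congr_fun h1 ⟨v, hv⟩)
  change ρ (incl p (cy ⟨e, he⟩ ⟨f, hf⟩ ⟨g, hg⟩)) v = v at h2
  rwa [incl_cy] at h2

/-- Enumeration of the points. -/
theorem exists_points (hpos : 0 < Fintype.card α) : ∃ p : ℕ → α, ∀ i j, i < Fintype.card α →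
    j < Fintype.card α → i ≠ j → p i ≠ p j := by
  refine ⟨fun i => (Fintype.equivFin α).symm ⟨i % Fintype.card α, Nat.mod_lt _ hpos⟩,
    fun i j hi hj hij h => hij ?_⟩
  have h' := congrArg Fin.val ((Fintype.equivFin α).symm.injective h)
  simpa [Nat.mod_eq_of_lt hi, Nat.mod_eq_of_lt hj] using h'

end Cfsg.Agent.H85.AltDeg
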