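import Cfsg.Agent.H85.AltDeg.Minimal
import Mathlib.Algebra.Module.ZMod
import Mathlib.Algebra.Field.ZMod
import Mathlib.FieldTheory.Finiteness
import Mathlib.FieldTheory.IsAlgClosed.AlgebraicClosure
import Mathlib.LinearAlgebra.Matrix.ToLin
import Mathlib.LinearAlgebra.FreeModule.Finite.Matrix
import Mathlib.GroupTheory.Perm.Cycle.Type

/-!
In a minimal irreducible cover the kernel is central: otherwise a group of symplectic type would
give a section of a much smaller linear group.
-/

set_option autoImplicit false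
set_option linter.unusedSectionVars false

namespace Cfsg.Agent.H85.AltDeg

open Module
open scoped commutatorElement

/-- An action on a small elementary abelian group cannot have an alternating section. -/
theorem no_small_action {H : Type} [Group H] [Finite H] {r : ℕ}
    {π : H →* alternatingGroup (Fin r)} (hπ : Function.Surjective π) (hr : 9 ≤ r) {n : ℕ}
    (IH : ∀ m < n, SectionBound m) (hn : n + 2 ≤ r) (q : ℕ) [Fact q.Prime] (C : Type)
    [AddCommGroup C] [Finite C] [Module (ZMod q) C] (hcard : Nat.card C ≤ n * n)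
    (θ : H →* Module.End (ZMod q) C) (hθ : ∀ h, θ h = 1 → π h = 1) : False := by
  classical
  have : Fintype C := Fintype.ofFinite C
  have hq := (Fact.out : q.Prime).two_le
  set w := finrank (ZMod q) C with hw
  have hqw : q ^ w ≤ n * n := by
    have h := Module.natCard_eq_pow_finrank (K := ZMod q) (V := C)
    rw [Nat.card_zmod] at h
    rw [hw, ← h]
    exact hcard
  have h2w : 2 ^ w ≤ n * n := le_trans (Nat.pow_le_pow_left hq w) hqw
  -- the endomorphisms are few
  set B := Module.finBasis (ZMod q) C with hB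
  have hA : Nat.card (alternatingGroup (Fin r)) ≤ Nat.card C ^ w := by
    have hle : θ.toHomUnits.ker ≤ π.ker := fun h hh => hθ h (congrArg Units.val (MonoidHom.mem_ker.1 hh))
    have c1 := Nat.card_le_card_of_surjective (QuotientGroup.lift θ.toHomUnits.ker π hle) (fun x => by
      obtain ⟨g, rfl⟩ := hπ x
      exact ⟨g, rfl⟩)
    have c2 := Nat.card_le_card_of_injective
      (fun x : H ⧸ θ.toHomUnits.ker => fun i => (QuotientGroup.kerLift θ.toHomUnits x).val (B i))
      (fun x y hxy => QuotientGroup.kerLift_injective _ (Units.ext (B.ext fun i => congrFun hxy i)))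
    rw [Nat.card_fun, Nat.card_fin] at c2
    exact c1.trans c2
  by_cases hn4 : n ≤ 4
  · have hw4 : w ≤ 4 := by
      by_contra h
      have : 2 ^ 5 ≤ 2 ^ w := Nat.pow_le_pow_right two_pos (by omega)
      nlinarith
    have : Nontrivial (Fin r) := Fin.nontrivial_iff_two_le.2 (by omega)
    have c3 := two_mul_nat_card_alternatingGroup (α := Fin r)
    rw [Nat.card_perm, Nat.card_fin] at c3
    have c4 : Nat.card C ^ w ≤ 16 ^ 4 :=
      le_trans (Nat.pow_le_pow_left (by nlinarith : Nat.card C ≤ 16) w)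
        (Nat.pow_le_pow_right (by norm_num) hw4)
    have c5 : Nat.factorial 9 ≤ r.factorial := Nat.factorial_le hr
    generalize Nat.card C ^ w = M at hA c4
    norm_num [Nat.factorial] at c4 c5
    omega
  have hwn : w < n := by
    by_contra h
    have h1 : 2 ^ n ≤ 2 ^ w := Nat.pow_le_pow_right two_pos (by omega)
    have h2 : ∀ m : ℕ, 5 ≤ m → m * m < 2 ^ m := fun m hm => by
      induction m, hm using Nat.le_induction with
      | base => norm_num
      | succ m hm ih => rw [pow_succ]; nlinarith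
    have := h2 n (by omega)
    omega
  let K := AlgebraicClosure (ZMod q)
  let Φ : Module.End (ZMod q) C →* Module.End K (Fin w → K) :=
    (Matrix.toLinAlgEquiv' : Matrix (Fin w) (Fin w) K ≃ₐ[K] Module.End K (Fin w → K)).toMonoidHom.comp
      (((algebraMap (ZMod q) K).mapMatrix : Matrix (Fin w) (Fin w) (ZMod q) →+* _).toMonoidHom.comp
        (LinearMap.toMatrixAlgEquiv B).toMonoidHom)
  have hΦ : Function.Injective Φ := fun M N hMN =>
    (LinearMap.toMatrixAlgEquiv B).injective (Matrix.map_injective (algebraMap (ZMod q) K).injective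
      ((Matrix.toLinAlgEquiv' : Matrix (Fin w) (Fin w) K ≃ₐ[K] _).injective hMN))
  have hfin : finrank K (Fin w → K) = w := Module.finrank_fin_fun K
  obtain ⟨b1, -⟩ := descend IH (Φ.comp θ) hπ hr
    (fun h hh => hθ h (hΦ (hh.trans (map_one Φ).symm))) (hfin.symm ▸ hwn)
  rw [hfin] at b1
  have h2 : ∀ m : ℕ, 7 ≤ m → m * m < 2 ^ m := fun m hm => by
    induction m, hm using Nat.le_induction with
    | base => norm_num
    | succ m hm ih => rw [pow_succ]; nlinarith
  have h3 := h2 (r - 2) (by omega)
  have h4 : 2 ^ (r - 2) ≤ 2 ^ w := Nat.pow_le_pow_right two_pos b1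
  have h5 : n * n ≤ (r - 2) * (r - 2) := Nat.mul_le_mul (by omega) (by omega)
  omega

theorem no_small_add {H : Type} [Group H] [Finite H] {r : ℕ}
    {π : H →* alternatingGroup (Fin r)} (hπ : Function.Surjective π) (hr : 9 ≤ r) {n : ℕ}
    (IH : ∀ m < n, SectionBound m) (hn : n + 2 ≤ r) (q : ℕ) [Fact q.Prime] (A : Type)
    [AddCommGroup A] [Finite A] [Module (ZMod q) A] (hcard : Nat.card A ≤ n * n)
    (T : H → A →+ A) (h1 : ∀ a, T 1 a = a) (hmul : ∀ g h a, T (g * h) a = T g (T h a))
    (hT : ∀ h, (∀ a, T h a = a) → π h = 1) : False :=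
  no_small_action hπ hr IH hn q A hcard
    { toFun := fun h => (T h).toZModLinearMap q
      map_one' := LinearMap.ext fun a => h1 a
      map_mul' := fun g h => LinearMap.ext fun a => hmul g h a }
    fun h hh => hT h fun a => LinearMap.congr_fun hh a

/-- The same for an action by automorphisms on an abelian group of exponent `q`. -/
theorem no_small_aut {H : Type} [Group H] [Finite H] {r : ℕ}
    {π : H →* alternatingGroup (Fin r)} (hπ : Function.Surjective π) (hr : 9 ≤ r) {n : ℕ}
    (IH : ∀ m < n, SectionBound m) (hn : n + 2 ≤ r) (q : ℕ) [Fact q.Prime] (C : Type)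
    [CommGroup C] [Finite C] (hexp : ∀ c : C, c ^ q = 1) (hcard : Nat.card C ≤ n * n)
    (β : H →* MulAut C) (hβ : ∀ h : H, β h = 1 → π h = 1) : False := by
  refine @no_small_add H _ _ r π hπ hr n IH hn q _ (Additive C) _ _
    (AddCommGroup.zmodModule fun x => by
      refine Additive.toMul.injective ?_
      rw [toMul_nsmul, toMul_zero]
      exact hexp _) ?_ (fun h => MonoidHom.toAdditive (β h).toMonoidHom) (fun a => ?_)
    (fun g h a => ?_) (fun h hh => hβ h (MulEquiv.ext fun c => ?_))
  · rwa [Nat.card_congr Additive.toMul]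
  · refine Additive.toMul.injective ?_
    show β 1 a.toMul = a.toMul
    rw [map_one]
    rfl
  · refine Additive.toMul.injective ?_
    show β (g * h) a.toMul = β g (β h a.toMul)
    rw [map_mul]
    rfl
  · exact congrArg Additive.toMul (hh (Additive.ofMul c))

variable {k : Type} [Field k] [IsAlgClosed k] {V : Type} [AddCommGroup V] [Module k V]
  [FiniteDimensional k V] {H : Type} [Group H] [Finite H] {ρ : H →* Module.End k V}
  {r : ℕ} {π : H →* alternatingGroup (Fin r)}

/-- The kernel of a minimal irreducible cover is central. -/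
theorem ker_le_center (hπ : Function.Surjective π) (hr : 9 ≤ r)
    (hmin : ∀ H' : Subgroup H, H'.map π = ⊤ → H' = ⊤) (hρ : Function.Injective ρ) {n : ℕ}
    (IH : ∀ m < n, SectionBound m) (hdim : finrank k V = n) (hn : n + 2 ≤ r) (hn0 : 0 < n)
    (hirr : ∀ W : Submodule k V, (∀ h, ∀ v ∈ W, ρ h v ∈ W) → W = ⊥ ∨ W = ⊤) :
    π.ker ≤ Subgroup.center H := by
  classical
  by_contra hnc
  have hlt : finrank k V < r := by omega
  have hpos : 0 < finrank k V := by omega
  have hsc : ∀ z : H, z ∈ Subgroup.center H → ∃ μ : k, ρ z = μ • 1 := fun z hz =>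
    scalar_of_commute hpos hirr fun h => by rw [← map_mul, ← map_mul, Subgroup.mem_center_iff.1 hz h]
  have hab := fun (A : Subgroup H) [A.Normal] (hA : ∀ a ∈ A, ∀ b ∈ A, a * b = b * a) =>
    abelian_normal_le_center hπ hr hmin hρ hlt hpos hirr hA
  set f := QuotientGroup.mk' (Subgroup.center H) with hf
  set D := π.ker.map f with hD
  have hDn : D.Normal := (MonoidHom.normal_ker π).map f (QuotientGroup.mk'_surjective _)
  have hZker : Subgroup.center H ≤ π.ker := normal_le_ker hπ hr hmin inferInstance fun htop => by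
    apply hnc
    rw [htop]
    exact le_top
  have hDne : D ≠ ⊥ := fun h => hnc (by
    rw [Subgroup.map_eq_bot_iff, hf, QuotientGroup.ker_mk'] at h
    exact h)
  have := ker_nilpotent hπ hr hmin
  have hDnil : Group.IsNilpotent D :=
    Group.nilpotent_of_surjective (f.subgroupMap π.ker) (MonoidHom.subgroupMap_surjective f π.ker)
  have : Nontrivial D := (Subgroup.nontrivial_iff_ne_bot D).2 hDne
  obtain ⟨⟨c0, hc0⟩, hne0⟩ :=
    Subgroup.ne_bot_iff_exists_ne_one.1 (Group.IsNilpotent.center_ne_bot (G := D))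
  have hc0ne : c0 ≠ 1 := fun h => hne0 (Subtype.ext h)
  set q := (orderOf c0).minFac with hqdef
  have ho : orderOf c0 ≠ 1 := fun h => hc0ne (orderOf_eq_one_iff.1 h)
  haveI : Fact q.Prime := ⟨Nat.minFac_prime ho⟩
  let C : Subgroup (H ⧸ Subgroup.center H) :=
    { carrier := {c | c ∈ D ∧ (∀ d ∈ D, c * d = d * c) ∧ c ^ q = 1}
      one_mem' := ⟨one_mem D, fun d _ => by rw [one_mul, mul_one], one_pow q⟩
      mul_mem' := by
        rintro a b ⟨ha, ha', haq⟩ ⟨hb, hb', hbq⟩
        refine ⟨mul_mem ha hb, fun d hd => ?_, ?_⟩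
        · rw [mul_assoc, hb' d hd, ← mul_assoc, ha' d hd, mul_assoc]
        · rw [(show Commute a b from ha' b hb).mul_pow, haq, hbq, one_mul]
      inv_mem' := by
        rintro a ⟨ha, ha', haq⟩
        exact ⟨inv_mem ha, fun d hd => ((show Commute a d from ha' d hd).inv_left).eq,
          by rw [inv_pow, haq, inv_one]⟩ }
  have hmemC : ∀ {c}, c ∈ C ↔ c ∈ D ∧ (∀ d ∈ D, c * d = d * c) ∧ c ^ q = 1 := Iff.rfl
  have hCne : C ≠ ⊥ := by
    set c1 := c0 ^ (orderOf c0 / q) with hc1
    have hq1 : c1 ^ q = 1 := by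
      rw [hc1, ← pow_mul, Nat.div_mul_cancel (Nat.minFac_dvd _), pow_orderOf_eq_one]
    have hc1ne : c1 ≠ 1 := by
      refine pow_ne_one_of_lt_orderOf ?_ (Nat.div_lt_self (orderOf_pos c0) (Nat.minFac_prime ho).one_lt)
      exact (Nat.div_pos (Nat.le_of_dvd (orderOf_pos c0) (Nat.minFac_dvd _))
        (Nat.minFac_prime ho).pos).ne'
    intro hbot
    refine hc1ne (Subtype.ext (Subgroup.mem_bot.1 (hbot ▸ hmemC.2 ⟨c1.2, fun d hd => ?_, ?_⟩)))
    · have hcen : c1 ∈ Subgroup.center D := Subgroup.pow_mem _ hc0 _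
      exact (congrArg Subtype.val (Subgroup.mem_center_iff.1 hcen ⟨d, hd⟩)).symm
    · exact congrArg Subtype.val hq1
  have hCn : C.Normal := ⟨fun c hc g => by
    obtain ⟨h1, h2, h3⟩ := hmemC.1 hc
    refine hmemC.2 ⟨hDn.conj_mem c h1 g, fun d hd => ?_, by rw [conj_pow, h3, mul_one, mul_inv_cancel]⟩
    have h := h2 _ (hDn.conj_mem d hd g⁻¹)
    calc g * c * g⁻¹ * d = g * (c * (g⁻¹ * d * g⁻¹⁻¹)) * g⁻¹ := by group
      _ = g * ((g⁻¹ * d * g⁻¹⁻¹) * c) * g⁻¹ := by rw [h]
      _ = _ := by group⟩
  set Y : Subgroup H := C.comap f with hY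
  have hYker : Y ≤ π.ker := fun y hy => by
    obtain ⟨⟨x, hx, hxy⟩, -, -⟩ := hmemC.1 (Subgroup.mem_comap.1 hy)
    have hm : x⁻¹ * y ∈ Subgroup.center H := by
      rw [← QuotientGroup.eq]; exact hxy
    simpa using mul_mem hx (hZker hm)
  have hYcomm : ∀ u ∈ Y, ∀ y ∈ Y, ⁅u, y⁆ ∈ Subgroup.center H := by
    intro u hu y hy
    rw [← QuotientGroup.eq_one_iff]
    show f ⁅u, y⁆ = 1
    rw [map_commutatorElement, commutatorElement_eq_one_iff_mul_comm]
    exact (hmemC.1 (Subgroup.mem_comap.1 hu)).2.1 _ (hmemC.1 (Subgroup.mem_comap.1 hy)).1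
  have hYn : Y.Normal := hCn.comap f
  -- the centre of `Y` is central
  set A : Subgroup H := Y ⊓ Subgroup.centralizer (Y : Set H) with hA
  have hAc : A ≤ Subgroup.center H := by
    haveI : A.Normal := ⟨fun a ha g => by
      obtain ⟨ha1, ha2⟩ := Subgroup.mem_inf.1 ha
      refine Subgroup.mem_inf.2 ⟨hYn.conj_mem a ha1 g, Subgroup.mem_centralizer_iff.2 fun y hy => ?_⟩
      have h := Subgroup.mem_centralizer_iff.1 ha2 (g⁻¹ * y * g⁻¹⁻¹) (hYn.conj_mem y hy g⁻¹)
      calc y * (g * a * g⁻¹) = g * ((g⁻¹ * y * g⁻¹⁻¹) * a) * g⁻¹ := by group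
        _ = g * (a * (g⁻¹ * y * g⁻¹⁻¹)) * g⁻¹ := by rw [h]
        _ = _ := by group⟩
    exact hab A fun a ha b hb =>
      (Subgroup.mem_centralizer_iff.1 (Subgroup.mem_inf.1 ha).2 b (Subgroup.mem_inf.1 hb).1).symm
  -- coset representatives are linearly independent
  have hsec : ∀ c : C, ∃ y : H, f y = c := fun c => QuotientGroup.mk'_surjective _ _
  choose y hy using hsec
  have hyY : ∀ c, y c ∈ Y := fun c => Subgroup.mem_comap.2 (by rw [hy]; exact c.2)
  set T : C → Module.End k V := fun c => ρ (y c) with hT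
  have hcardC : Nat.card C ≤ n * n := by
    have hscal : ∀ (u : Y) (c : C), ∃ μ : k, ρ u * T c = μ • (T c * ρ u) := by
      intro u c
      obtain ⟨μ, hμ⟩ := hsc _ (hYcomm u u.2 (y c) (hyY c))
      refine ⟨μ, ?_⟩
      rw [hT, ← map_mul, ← map_mul,
        show (u : H) * y c = ⁅(u : H), y c⁆ * (y c * u) by rw [commutatorElement_def]; group,
        map_mul, hμ, smul_mul_assoc, one_mul]
    choose ψ hψ using hscal
    have hne : ∀ (u : H) (c : C), T c * ρ u ≠ 0 := fun u c h => by
      have h' := congrArg (fun z => z * ρ u⁻¹) h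
      simp only [hT, ← map_mul, mul_inv_cancel_right, zero_mul] at h'
      have h'' : ρ (y c) * ρ (y c)⁻¹ = 0 := by rw [h', zero_mul]
      rw [← map_mul, mul_inv_cancel, map_one] at h''
      have : Nontrivial V := Module.nontrivial_of_finrank_pos hpos
      exact one_ne_zero h''
    have hψmul : ∀ u u' c, ψ (u * u') c = ψ u c * ψ u' c := by
      intro u u' c
      refine smul_left_injective k (hne ((u * u' : Y) : H) c) ?_
      show ψ (u * u') c • _ = (ψ u c * ψ u' c) • _
      rw [← hψ (u * u') c, Subgroup.coe_mul, map_mul, mul_assoc, hψ u' c, mul_smul_comm, ← mul_assoc,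
        hψ u c, smul_mul_assoc, smul_smul, mul_comm (ψ u' c), mul_assoc]
    have hψone : ∀ c, ψ 1 c = 1 := fun c => by
      refine smul_left_injective k (hne ((1 : Y) : H) c) ?_
      show ψ 1 c • _ = (1 : k) • _
      rw [← hψ 1 c, OneMemClass.coe_one, map_one, one_mul, mul_one, one_smul]
    let χ : C → Y →* k := fun c =>
      { toFun := fun u => ψ u c, map_one' := hψone c, map_mul' := fun u u' => hψmul u u' c }
    have hχinj : Function.Injective χ := by
      intro c c' hcc
      have hm : y c * (y c')⁻¹ ∈ A := by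
        refine Subgroup.mem_inf.2 ⟨mul_mem (hyY c) (inv_mem (hyY c')),
          Subgroup.mem_centralizer_iff.2 fun u hu => ?_⟩
        have e : ψ ⟨u, hu⟩ c = ψ ⟨u, hu⟩ c' := DFunLike.congr_fun hcc ⟨u, hu⟩
        have h1 := hψ ⟨u, hu⟩ c
        have h2 := hψ ⟨u, hu⟩ c'
        simp only [hT] at h1 h2
        rw [e] at h1
        -- `u y u⁻¹ y⁻¹` is the same scalar for both representatives
        have key : ∀ x : C, ρ (u * y x * u⁻¹ * (y x)⁻¹) = ρ (u * y x) * ρ (u⁻¹ * (y x)⁻¹) := fun x => by
          rw [← map_mul, mul_assoc (u * y x)]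
        have h3 : u * y c * u⁻¹ * (y c)⁻¹ = u * y c' * u⁻¹ * (y c')⁻¹ := hρ (by
          rw [key c, key c', map_mul ρ u (y c), h1, map_mul ρ u (y c'), h2, smul_mul_assoc,
            smul_mul_assoc, ← map_mul ρ (y c), ← map_mul ρ (y c'), ← map_mul, ← map_mul,
            show y c * u * (u⁻¹ * (y c)⁻¹) = 1 by group,
            show y c' * u * (u⁻¹ * (y c')⁻¹) = 1 by group])
        have hz : u * y c' * u⁻¹ * (y c')⁻¹ ∈ Subgroup.center H := hYcomm u hu (y c') (hyY c')
        set z := u * y c' * u⁻¹ * (y c')⁻¹ with hzdef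
        have e1 : u * y c * u⁻¹ = z * y c := by rw [← h3]; group
        have e2 : u * y c' * u⁻¹ = z * y c' := by rw [hzdef]; group
        have e3 : u * (y c * (y c')⁻¹) * u⁻¹ = y c * (y c')⁻¹ := by
          calc u * (y c * (y c')⁻¹) * u⁻¹ = (u * y c * u⁻¹) * (u * y c' * u⁻¹)⁻¹ := by group
            _ = z * (y c * (y c')⁻¹) * z⁻¹ := by rw [e1, e2]; group
            _ = _ := by rw [← Subgroup.mem_center_iff.1 hz, mul_inv_cancel_right]
        exact mul_inv_eq_iff_eq_mul.1 e3
      have hm2 := hAc hm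
      refine Subtype.ext ?_
      rw [← hy c, ← hy c']
      show (y c : H ⧸ Subgroup.center H) = y c'
      refine (QuotientGroup.eq.2 ?_).symm
      have := Subgroup.Normal.mem_comm (inferInstance : (Subgroup.center H).Normal) hm2
      exact this
    have hli : LinearIndependent k T := by
      have : Fintype C := Fintype.ofFinite C
      rw [Fintype.linearIndependent_iff]
      intro a ha c
      have hu : ∀ u : Y, ∑ x : C, (a x * ψ u x) • T x = 0 := by
        intro u
        have h1 := congrArg (fun z => ρ (u : H) * z) ha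
        simp only [Finset.mul_sum, mul_smul_comm, hψ, smul_smul, mul_zero] at h1
        have h2 := congrArg (fun z => z * ρ (u : H)⁻¹) h1
        simp only [Finset.sum_mul, smul_mul_assoc, mul_assoc, ← map_mul, mul_inv_cancel, map_one,
          mul_one, zero_mul] at h2
        exact h2
      by_contra hac
      have : Nontrivial V := Module.nontrivial_of_finrank_pos hpos
      have hTne : T c ≠ 0 := fun h => hne 1 c (by rw [h, zero_mul])
      refine hTne ((Module.forall_dual_apply_eq_zero_iff k _).1 fun φ => ?_)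
      have hfun : ∑ x : C, (a x * φ (T x)) • (χ x : Y → k) = 0 := by
        funext u
        simp only [Finset.sum_apply, Pi.smul_apply, Pi.zero_apply, smul_eq_mul]
        have h := congrArg φ (hu u)
        simp only [map_sum, map_smul, map_zero, smul_eq_mul] at h
        rw [← h]
        exact Finset.sum_congr rfl fun x _ => by
          show a x * φ (T x) * ψ u x = a x * ψ u x * φ (T x)
          ring
      exact (mul_eq_zero.1 (Fintype.linearIndependent_iff.1
        ((linearIndependent_monoidHom Y k).comp χ hχinj) _ hfun c)).resolve_left hac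
    have : Fintype C := Fintype.ofFinite C
    have h := hli.fintype_card_le_finrank
    rwa [Module.finrank_linearMap, hdim, ← Nat.card_eq_fintype_card] at h
  -- the action on `C`
  letI : CommGroup C :=
    { (inferInstance : Group C) with
      mul_comm := fun a b => Subtype.ext ((hmemC.1 a.2).2.1 _ (hmemC.1 b.2).1) }
  haveI : C.Normal := hCn
  let β : H →* MulAut C := (MulAut.conjNormal : (H ⧸ Subgroup.center H) →* MulAut C).comp f
  have hθ1 : ∀ h : H, β h = 1 → ∀ c : C, f h * c * (f h)⁻¹ = c := fun h hh c => by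
    have h1 := congrArg Subtype.val (DFunLike.congr_fun hh c)
    simpa [β] using h1
  refine no_small_aut hπ hr IH hn q C (fun c => Subtype.ext (by
    rw [Subgroup.coe_pow]; exact (hmemC.1 c.2).2.2)) hcardC β fun h hh => ?_
  -- the kernel of the action is in the kernel
  let N : Subgroup H :=
    { carrier := {h | ∀ c ∈ C, f h * c = c * f h}
      one_mem' := fun c _ => by rw [map_one, one_mul, mul_one]
      mul_mem' := fun {a b} ha hb c hc => by rw [map_mul, mul_assoc, hb c hc, ← mul_assoc, ha c hc, mul_assoc]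
      inv_mem' := fun {a} ha c hc => by
        rw [map_inv]
        exact ((show Commute (f a) c from ha c hc).inv_left).eq }
  have hNn : N.Normal := ⟨fun a ha g c hc => by
    have h := ha _ (hCn.conj_mem c hc (f g)⁻¹)
    rw [map_mul, map_mul, map_inv]
    calc f g * f a * (f g)⁻¹ * c = f g * (f a * ((f g)⁻¹ * c * (f g)⁻¹⁻¹)) * (f g)⁻¹ := by group
      _ = f g * (((f g)⁻¹ * c * (f g)⁻¹⁻¹) * f a) * (f g)⁻¹ := by rw [h]
      _ = _ := by group⟩
  have hNne : N ≠ ⊤ := by
    intro htop
    apply hCne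
    rw [Subgroup.eq_bot_iff_forall]
    intro c hc
    obtain ⟨u, rfl⟩ := QuotientGroup.mk'_surjective (Subgroup.center H) c
    have hcom : ∀ g : H, ⁅g, u⁆ ∈ Subgroup.center H := fun g => by
      rw [← QuotientGroup.eq_one_iff]
      show f ⁅g, u⁆ = 1
      rw [map_commutatorElement, commutatorElement_eq_one_iff_mul_comm]
      exact (show g ∈ N from htop ▸ Subgroup.mem_top g) _ hc
    let φ : H →* Subgroup.center H :=
      MonoidHom.mk' (fun g => ⟨⁅g, u⁆, hcom g⟩) fun g h => Subtype.ext (by
        show ⁅g * h, u⁆ = ⁅g, u⁆ * ⁅h, u⁆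
        calc ⁅g * h, u⁆ = g * ⁅h, u⁆ * g⁻¹ * ⁅g, u⁆ := by simp only [commutatorElement_def]; group
          _ = ⁅h, u⁆ * ⁅g, u⁆ := by rw [Subgroup.mem_center_iff.1 (hcom h) g, mul_inv_cancel_right]
          _ = _ := (Subgroup.mem_center_iff.1 (hcom h) _).symm)
    letI : CommGroup (Subgroup.center H) :=
      { (inferInstance : Group (Subgroup.center H)) with
        mul_comm := fun a b => Subtype.ext (Subgroup.mem_center_iff.1 b.2 a) }
    have hu : u ∈ Subgroup.center H := Subgroup.mem_center_iff.2 fun g => by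
      have h1 := congrArg Subtype.val (eq_one_of_hom_comm hπ hr hmin φ g)
      exact commutatorElement_eq_one_iff_mul_comm.1 h1
    exact (QuotientGroup.eq_one_iff u).2 hu
  exact normal_le_ker hπ hr hmin hNn hNne (fun c hc => mul_inv_eq_iff_eq_mul.1 (hθ1 h hh ⟨c, hc⟩))

end Cfsg.Agent.H85.AltDeg
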