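import Cfsg.Agent.H85.AltDeg.SpinBasic

/-!
Quadratic three-cycles in a representation up to sign give anticommuting families.
-/

set_option autoImplicit false
set_option linter.unusedSectionVars false

namespace Cfsg.Agent.H85.AltDeg

open Module Submodule Equiv

universe u v w

variable {α : Type u} [Fintype α] [DecidableEq α] {k : Type w} [Field k] [IsAlgClosed k]
  {V : Type v} [AddCommGroup V] [Module k V] [FiniteDimensional k V]
  {σ : alternatingGroup α → Module.End k V}

/-- The form of the family `2 X + 1`. -/
def cliffForm {m : ℕ} (v w : Fin m → ℤ) : ℤ :=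
  -4 * ∑ i, v i * w i - 2 * ((∑ i, v i) * ∑ i, w i)

/-- An orthogonal family for `cliffForm` gives an exponential bound. -/
theorem clifford_bound [Nontrivial V] (S : Spin σ) (h2 : (2 : k) ≠ 0)
    (hX : ∀ a b c : α, a ≠ b → b ≠ c → a ≠ c → cyS σ a b c * cyS σ a b c + cyS σ a b c + 1 = 0)
    {j m : ℕ} (hm : m + 2 ≤ Fintype.card α) (F : Fin (2 * j) → Fin m → ℤ) (N : ℤ)
    (horth : ∀ i i', i ≠ i' → cliffForm (F i) (F i') = 0) (hdvd : ∀ i, cliffForm (F i) (F i) ∣ N)
    (hN : (N : k) ≠ 0) : 2 ^ j ≤ finrank k V := by
  classical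
  obtain ⟨p, hp⟩ := exists_points (α := α) (by omega)
  set e : Fin m → Module.End k V := fun i => (2 : k) • cyS σ (p 0) (p 1) (p (i.val + 2)) + 1 with he
  have hee : ∀ i i', e i * e i' + e i' * e i = ((if i = i' then -6 else -2 : ℤ) : k) • 1 := by
    intro i i'
    have hi := i.isLt
    have hi' := i'.isLt
    have hab : p 0 ≠ p 1 := hp _ _ (by omega) (by omega) (by omega)
    have hbc : p 1 ≠ p (i.val + 2) := hp _ _ (by omega) (by omega) (by omega)
    have hac : p 0 ≠ p (i.val + 2) := hp _ _ (by omega) (by omega) (by omega)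
    have hbd : p 1 ≠ p (i'.val + 2) := hp _ _ (by omega) (by omega) (by omega)
    have had : p 0 ≠ p (i'.val + 2) := hp _ _ (by omega) (by omega) (by omega)
    set X := cyS σ (p 0) (p 1) (p (i.val + 2)) with hXd
    set Y := cyS σ (p 0) (p 1) (p (i'.val + 2)) with hYd
    have qX : X * X + X + 1 = 0 := hX _ _ _ hab hbc hac
    simp only [he, ← hXd, ← hYd, add_mul, mul_add, one_mul, mul_one, smul_mul_assoc, mul_smul_comm]
    by_cases hii : i = i'
    · have hXY : Y = X := by rw [hYd, hXd, hii]
      rw [if_pos hii, hXY]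
      push_cast
      linear_combination (norm := module) (8 : k) • qX
    · have hcd : p (i.val + 2) ≠ p (i'.val + 2) :=
        hp _ _ (by omega) (by omega) (fun h => hii (Fin.ext (by omega)))
      have qY : Y * Y + Y + 1 = 0 := hX _ _ _ hab hbd had
      have hXY := (cyS_mul_cyS S hab hbc hac had hbd hcd).2
      rw [← hXd, ← hYd] at hXY
      have hswap : X * Y = -((Y * Y) * (X * X)) := by
        calc X * Y = X * Y * (X * X * X) := by rw [hXd, cyS_cube S, mul_one]
          _ = X * Y * (X * (Y * Y * Y) * (X * X)) := by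
              rw [hYd, cyS_cube S (p 0) (p 1) (p (i'.val + 2)), mul_one, ← mul_assoc X X X, hXd,
                cyS_cube S (p 0) (p 1) (p (i.val + 2)), mul_one]
          _ = X * Y * (X * Y) * ((Y * Y) * (X * X)) := by simp only [mul_assoc]
          _ = _ := by rw [hXY, neg_one_mul]
      have hX2 : X * X = -(X + 1) := by linear_combination (norm := module) qX
      have hY2 : Y * Y = -(Y + 1) := by linear_combination (norm := module) qY
      rw [hX2, hY2, neg_mul_neg] at hswap
      simp only [add_mul, mul_add, one_mul, mul_one] at hswap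
      rw [if_neg hii]
      push_cast
      linear_combination (norm := module) (4 : k) • hswap
  set E : (Fin m → ℤ) → Module.End k V := fun v => ∑ i, (v i : k) • e i with hE
  have hEE : ∀ v w, E v * E w + E w * E v = (cliffForm v w : k) • 1 := by
    intro v w
    have e1 : E v * E w + E w * E v =
        ∑ i, ∑ i', ((v i : k) * (w i' : k)) • (e i * e i' + e i' * e i) := by
      have eA : E v * E w = ∑ i, ∑ i', ((v i : k) * (w i' : k)) • (e i * e i') := by
        simp only [hE, Finset.sum_mul, Finset.mul_sum, smul_mul_assoc, mul_smul_comm, smul_smul,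
          Finset.smul_sum]
        rw [Finset.sum_comm]
        exact Finset.sum_congr rfl fun i _ => Finset.sum_congr rfl fun i' _ => by rw [mul_comm]
      have eB : E w * E v = ∑ i, ∑ i', ((v i : k) * (w i' : k)) • (e i' * e i) := by
        simp only [hE, Finset.sum_mul, Finset.mul_sum, smul_mul_assoc, mul_smul_comm, smul_smul,
          Finset.smul_sum]
      simp only [eA, eB, smul_add, Finset.sum_add_distrib]
    have e2 : ∀ i i', ((v i : k) * (w i' : k)) • (e i * e i' + e i' * e i) =
        (((-4 : ℤ) * (if i = i' then v i * w i' else 0) - 2 * (v i * w i') : ℤ) : k) •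
          (1 : Module.End k V) := by
      intro i i'
      rw [hee, smul_smul]
      congr 1
      split_ifs <;> push_cast <;> ring
    rw [e1, Finset.sum_congr rfl fun i _ => Finset.sum_congr rfl fun i' _ => e2 i i']
    simp only [← Finset.sum_smul, ← Int.cast_sum]
    congr 2
    simp only [cliffForm, Finset.sum_sub_distrib, ← Finset.mul_sum, Finset.sum_ite_eq,
      Finset.mem_univ, if_true, Finset.sum_mul]
  refine two_pow_le_of_anticommute h2 j (2 * j) le_rfl (fun i => E (F i))
    (fun i => (cliffForm (F i) (F i) : k) / 2) (fun i h => ?_) (fun i => ?_) (fun i i' hne => ?_)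
  · rw [div_eq_zero_iff, or_iff_left h2] at h
    obtain ⟨t, ht⟩ := hdvd i
    exact hN (by rw [ht, Int.cast_mul, h, zero_mul])
  · have h := hEE (F i) (F i)
    rw [← two_smul k] at h
    rw [div_eq_inv_mul, ← smul_smul, ← h, smul_smul, inv_mul_cancel₀ h2, one_smul]
  · have h := hEE (F i) (F i')
    rw [horth i i' hne, Int.cast_zero, zero_smul] at h
    exact eq_neg_of_add_eq_zero_left h

end Cfsg.Agent.H85.AltDeg
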