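import Cfsg.Agent.H85.AltDeg.Perm
import Mathlib.LinearAlgebra.FiniteDimensional.Lemmas
import Mathlib.LinearAlgebra.Dimension.Constructions
import Mathlib.Tactic.LinearCombination

/-!
The degree bound for a module of the alternating group in which the three-cycles move only a plane:
the lines attached to transpositions carry a chain of vectors whose relations form an arithmetic
progression.
-/

set_option autoImplicit false
set_option linter.unusedSectionVars false

namespace Cfsg.Agent.H85.AltDeg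

open Module Submodule

variable {α : Type*} [Fintype α] [DecidableEq α] {k : Type*} [Field k]
  {V : Type*} [AddCommGroup V] [Module k V] (ρ : alternatingGroup α →* Module.End k V)

/-- The subspace moved by the cycle `(a b c)`. -/
def moved (a b c : α) : Submodule k V := LinearMap.range (ρ (cy a b c) - 1)

/-- The hypotheses on the planes. -/
structure Planar : Prop where
  card : 9 ≤ Fintype.card α
  plane : ∀ a b c : α, a ≠ b → b ≠ c → a ≠ c → finrank k (moved ρ a b c) = 2
  nonquad : ∀ a b c : α, a ≠ b → b ≠ c → a ≠ c → (ρ (cy a b c) - 1) * (ρ (cy a b c) - 1) ≠ 0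
  fixed : ∀ a b c e f g : α, [a, b, c, e, f, g].Nodup →
    ∀ u ∈ moved ρ a b c, ρ (cy e f g) u = u
  nofix : ∀ a b c : α, a ≠ b → b ≠ c → a ≠ c →
    ∀ u ∈ moved ρ a b c, (∀ g, ρ g u = u) → u = 0

variable {ρ} {a b c d e : α}

theorem apply_inv_self (g : alternatingGroup α) (v : V) : ρ g⁻¹ (ρ g v) = v := by
  rw [← Module.End.mul_apply, ← map_mul, inv_mul_cancel, map_one, Module.End.one_apply]

theorem rho_injective (g : alternatingGroup α) : Function.Injective (ρ g) :=
  Function.LeftInverse.injective (apply_inv_self g)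

theorem map_moved (g : alternatingGroup α) (a b c : α) :
    (moved ρ a b c).map (ρ g) =
      moved ρ ((g : Equiv.Perm α) a) ((g : Equiv.Perm α) b) ((g : Equiv.Perm α) c) := by
  have h : ρ g * (ρ (cy a b c) - 1) =
      (ρ (cy ((g : Equiv.Perm α) a) ((g : Equiv.Perm α) b) ((g : Equiv.Perm α) c)) - 1) * ρ g := by
    rw [← conj_cy, mul_sub, sub_mul, ← map_mul, ← map_mul, mul_one, one_mul, inv_mul_cancel_right]
  ext v
  constructor
  · rintro ⟨_, ⟨u, rfl⟩, rfl⟩
    exact ⟨ρ g u, (LinearMap.congr_fun h u).symm⟩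
  · rintro ⟨u, rfl⟩
    refine ⟨_, ⟨ρ g⁻¹ u, rfl⟩, ?_⟩
    refine (LinearMap.congr_fun h (ρ g⁻¹ u)).trans ?_
    show _ = _
    rw [Module.End.mul_apply]
    congr 1
    simpa using apply_inv_self (ρ := ρ) g⁻¹ u

theorem moved_rotate (hab : a ≠ b) (hbc : b ≠ c) (hac : a ≠ c) : moved ρ b c a = moved ρ a b c := by
  rw [moved, moved, cy_rotate hab hbc hac]

theorem moved_rev (hab : a ≠ b) (hbc : b ≠ c) (hac : a ≠ c) : moved ρ c b a = moved ρ a b c := by
  have h1 := cy_mul_cy_rev hab hbc hac
  have h2 := cy_mul_cy_rev hbc.symm hab.symm hac.symm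
  have key : ∀ p q : alternatingGroup α, p * q = 1 → q * p = 1 →
      LinearMap.range (ρ q - 1) ≤ LinearMap.range (ρ p - 1) := by
    rintro p q hpq hqp _ ⟨u, rfl⟩
    refine ⟨-ρ q u, ?_⟩
    have hp1 : ρ p (ρ q u) = u := by
      rw [← Module.End.mul_apply, ← map_mul, hpq, map_one, Module.End.one_apply]
    simp [hp1, sub_eq_add_neg, add_comm]
  exact le_antisymm (key _ _ h1 h2) (key _ _ h2 h1)

theorem moved_swap (hab : a ≠ b) (hbc : b ≠ c) (hac : a ≠ c) : moved ρ b a c = moved ρ a b c := by
  rw [moved_rotate hbc.symm hab.symm hac.symm, moved_rev hab hbc hac]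

theorem apply_mem_moved {v : V} (hv : v ∈ moved ρ a b c) :
    ρ (cy a b c) v ∈ moved ρ a b c := by
  obtain ⟨u, rfl⟩ := hv
  exact ⟨ρ (cy a b c) u, by simp [map_sub]⟩

theorem sub_mem_moved (v : V) : ρ (cy a b c) v - v ∈ moved ρ a b c := ⟨v, by simp⟩

theorem sum_eq_zero {v : V} (hv : v ∈ moved ρ a b c) :
    v + ρ (cy a b c) v + ρ (cy a b c) (ρ (cy a b c) v) = 0 := by
  obtain ⟨u, rfl⟩ := hv
  have h3 : ρ (cy a b c) (ρ (cy a b c) (ρ (cy a b c) u)) = u := by
    rw [← Module.End.mul_apply, ← Module.End.mul_apply, ← map_mul, ← map_mul]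
    rw [show cy a b c * cy a b c * cy a b c = 1 by rw [← pow_three', cy_pow_three], map_one,
      Module.End.one_apply]
  simp only [LinearMap.sub_apply, Module.End.one_apply, map_sub, h3]
  abel

variable [FiniteDimensional k V] (P : Planar ρ)
include P

theorem moved_ne (hab : a ≠ b) (hbc : b ≠ c) (hac : a ≠ c) (had : a ≠ d) (hbd : b ≠ d) (hcd : c ≠ d) :
    moved ρ a b c ≠ moved ρ a b d := by
  intro heq
  have h4 : 4 + 2 ≤ Fintype.card α := by have := P.card; omega
  have tr : ∀ a' b' c' d' : α, [a', b', c', d'].Nodup → moved ρ a' b' c' = moved ρ a' b' d' := by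
    intro a' b' c' d' hnd
    obtain ⟨g, hg⟩ := exists_move h4 ![a, b, c, d] ![a', b', c', d']
      (List.nodup_ofFn.1 (by simp [List.ofFn_succ, hab, hbc, hac, had, hbd, hcd]))
      (List.nodup_ofFn.1 (by simpa [List.ofFn_succ] using hnd))
    have h := congrArg (Submodule.map (ρ g)) heq
    rwa [map_moved, map_moved, show (g : Equiv.Perm α) a = a' from hg 0,
      show (g : Equiv.Perm α) b = b' from hg 1, show (g : Equiv.Perm α) c = c' from hg 2,
      show (g : Equiv.Perm α) d = d' from hg 3] at h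
  obtain ⟨e, he⟩ := exists_avoid [a, b, c, d] (by have := P.card; simp; omega)
  obtain ⟨f, hf⟩ := exists_avoid [a, b, c, d, e] (by have := P.card; simp; omega)
  simp only [List.mem_cons, List.not_mem_nil, or_false, not_or] at he hf
  obtain ⟨hea, heb, hec, hed⟩ := he
  obtain ⟨hfa, hfb, hfc, hfd, hfe⟩ := hf
  have h1 : moved ρ a b d = moved ρ a d e := by
    rw [← tr a d b e (by simp [had, hab, hbd.symm, Ne.symm hea, Ne.symm heb, Ne.symm hed])]
    rw [← moved_rotate hab hbd had, moved_rev had hbd.symm hab]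
  have h2 : moved ρ a d e = moved ρ d e f := by
    rw [← moved_rotate had (Ne.symm hed) (Ne.symm hea),
      tr d e a f (by simp [had.symm, Ne.symm hed, hea, Ne.symm hfd, Ne.symm hfe, Ne.symm hfa])]
  have hU : moved ρ d e f = moved ρ a b c := by rw [← h2, ← h1, heq]
  refine P.nonquad d e f (Ne.symm hed) (Ne.symm hfe) (Ne.symm hfd) (LinearMap.ext fun v => ?_)
  have hfix := P.fixed a b c d e f (by
    simp [hab, hac, hbc, had, hbd, hcd, Ne.symm hea, Ne.symm heb, Ne.symm hec, Ne.symm hed,
      Ne.symm hfa, Ne.symm hfb, Ne.symm hfc, Ne.symm hfd, Ne.symm hfe])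
    ((ρ (cy d e f) - 1) v) (hU ▸ ⟨v, rfl⟩)
  simp [Module.End.mul_apply] at hfix ⊢
  simpa [sub_eq_zero] using hfix

theorem moved_inf_ne_bot (hab : a ≠ b) (hbc : b ≠ c) (hac : a ≠ c) (had : a ≠ d) (hbd : b ≠ d)
    (hcd : c ≠ d) : moved ρ a b c ⊓ moved ρ a b d ≠ ⊥ := by
  intro hbot
  have h4 : 4 + 2 ≤ Fintype.card α := by have := P.card; omega
  set x := cy a b c with hx
  set y := cy a b d with hy
  have hrel : x * y * (x * y) = 1 := by
    rw [hx, hy, cy_mul_cy hab hbc hac had hbd hcd]
    exact dt_mul_self hac hbd hab had hbc.symm hcd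
  have hCC : LinearMap.ker (ρ x - 1) ≤ LinearMap.ker (ρ y - 1) := by
    intro v hv
    have hxv : ρ x v = v := by simpa [sub_eq_zero] using hv
    have e1 : ρ x (ρ y v) = ρ y⁻¹ v := by
      have h1 : x * y = y⁻¹ * x⁻¹ := by rw [← mul_inv_rev]; exact eq_inv_of_mul_eq_one_left hrel
      have h2 : ρ x⁻¹ v = v := by conv_lhs => rw [← hxv, apply_inv_self]
      rw [← Module.End.mul_apply, ← map_mul, h1, map_mul, Module.End.mul_apply, h2]
    have hw : ρ y v - v ∈ moved ρ a b d := sub_mem_moved v
    have hw' : ρ y⁻¹ v - v ∈ moved ρ a b d := by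
      have h : ρ y (ρ y⁻¹ v) = v := by simpa using apply_inv_self (ρ := ρ) y⁻¹ v
      have := Submodule.neg_mem _ (sub_mem_moved (ρ := ρ) (a := a) (b := b) (c := d) (ρ y⁻¹ v))
      rw [← hy, h, neg_sub] at this
      exact this
    have hz : ρ x (ρ y v - v) - (ρ y v - v) ∈ moved ρ a b c ⊓ moved ρ a b d := by
      refine ⟨sub_mem_moved _, ?_⟩
      have : ρ x (ρ y v - v) - (ρ y v - v) = (ρ y⁻¹ v - v) - (ρ y v - v) := by
        rw [map_sub, e1, hxv]
      rw [this]
      exact Submodule.sub_mem _ hw' hw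
    rw [hbot, Submodule.mem_bot, map_sub, e1, hxv, sub_sub_sub_cancel_right, sub_eq_zero] at hz
    have h2 : ρ y (ρ y v) = v := by
      conv_rhs => rw [show v = ρ y (ρ y⁻¹ v) by simpa using (apply_inv_self (ρ := ρ) y⁻¹ v).symm]
      rw [hz]
    have h3 : ρ y (ρ y (ρ y v)) = v := by
      rw [← Module.End.mul_apply, ← Module.End.mul_apply, ← map_mul, ← map_mul,
        show y * y * y = 1 by rw [← pow_three', hy, cy_pow_three], map_one, Module.End.one_apply]
    rw [h2] at h3
    simpa [sub_eq_zero] using h3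
  have hker : ∀ a' b' c' : α, a' ≠ b' → b' ≠ c' → a' ≠ c' →
      finrank k (LinearMap.ker (ρ (cy a' b' c') - 1)) + 2 = finrank k V := fun a' b' c' h1 h2 h3 => by
    have e1 := LinearMap.finrank_range_add_finrank_ker (ρ (cy a' b' c') - 1 : Module.End k V)
    have e2 : finrank k ↥(LinearMap.range (ρ (cy a' b' c') - 1 : Module.End k V)) = 2 :=
      P.plane a' b' c' h1 h2 h3
    omega
  have heq : LinearMap.ker (ρ x - 1) = LinearMap.ker (ρ y - 1) :=
    Submodule.eq_of_le_of_finrank_le hCC (by
      have := hker a b c hab hbc hac; have := hker a b d hab hbd had; rw [hx, hy]; omega)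
  -- transport the equality to a disjoint cycle
  have hmapker : ∀ (g : alternatingGroup α) (a' b' c' : α) (v : V),
      v ∈ LinearMap.ker (ρ (cy a' b' c') - 1) →
      ρ g v ∈ LinearMap.ker (ρ (cy ((g : Equiv.Perm α) a') ((g : Equiv.Perm α) b')
        ((g : Equiv.Perm α) c')) - 1) := fun g a' b' c' v hv => by
    have : ρ (cy a' b' c') v = v := by simpa [sub_eq_zero] using hv
    rw [LinearMap.mem_ker, LinearMap.sub_apply, Module.End.one_apply, sub_eq_zero, ← conj_cy,
      ← Module.End.mul_apply, ← map_mul, inv_mul_cancel_right, map_mul, Module.End.mul_apply, this]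
  have tr : ∀ a' b' c' d' : α, [a', b', c', d'].Nodup →
      LinearMap.ker (ρ (cy a' b' c') - 1) ≤ LinearMap.ker (ρ (cy a' b' d') - 1) := by
    intro a' b' c' d' hnd v hv
    obtain ⟨g, hg⟩ := exists_move h4 ![a', b', c', d'] ![a, b, c, d]
      (List.nodup_ofFn.1 (by simpa [List.ofFn_succ] using hnd))
      (List.nodup_ofFn.1 (by simp [List.ofFn_succ, hab, hbc, hac, had, hbd, hcd]))
    have h1 := hmapker g a' b' c' v hv
    rw [show (g : Equiv.Perm α) a' = a from hg 0, show (g : Equiv.Perm α) b' = b from hg 1,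
      show (g : Equiv.Perm α) c' = c from hg 2, ← hx, heq, hy] at h1
    have h2 := hmapker g⁻¹ a b d _ h1
    rw [apply_inv_self] at h2
    have hinv : ∀ x y : α, (g : Equiv.Perm α) x = y →
        ((g⁻¹ : alternatingGroup α) : Equiv.Perm α) y = x := fun x y h => by
      rw [Subgroup.coe_inv, ← h, Equiv.Perm.inv_def, Equiv.symm_apply_apply]
    rwa [hinv a' a (hg 0), hinv b' b (hg 1), hinv d' d (hg 3)] at h2
  obtain ⟨e, he⟩ := exists_avoid [a, b, c, d] (by have := P.card; simp; omega)
  obtain ⟨f, hf⟩ := exists_avoid [a, b, c, d, e] (by have := P.card; simp; omega)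
  simp only [List.mem_cons, List.not_mem_nil, or_false, not_or] at he hf
  obtain ⟨hea, heb, hec, hed⟩ := he
  obtain ⟨hfa, hfb, hfc, hfd, hfe⟩ := hf
  have hC : LinearMap.ker (ρ x - 1) ≤ LinearMap.ker (ρ (cy e d f) - 1) := by
    intro v hv
    have h1 : v ∈ LinearMap.ker (ρ (cy d a b) - 1) := by
      rw [← cy_rotate had.symm hab hbd.symm, ← hy]
      exact hCC hv
    have h2 := tr d a b e (by simp [had.symm, hbd.symm, Ne.symm hed, hab, Ne.symm hea, Ne.symm heb]) h1
    rw [cy_rotate hed had.symm hea] at h2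
    exact tr e d a f (by simp [hed, hea, Ne.symm hfe, had.symm, Ne.symm hfd, Ne.symm hfa]) h2
  refine P.nonquad e d f hed (Ne.symm hfd) (Ne.symm hfe) (LinearMap.ext fun v => ?_)
  have hnd : [a, b, c, e, d, f].Nodup := by
    simp [hab, hac, hbc, had, hbd, hcd, Ne.symm hea, Ne.symm heb, Ne.symm hec, hed,
      Ne.symm hfa, Ne.symm hfb, Ne.symm hfc, Ne.symm hfd, Ne.symm hfe]
  have hcom : Commute (cy e d f) x :=
    commute_cy_cy ⟨Ne.symm hea, had, Ne.symm hfa⟩ ⟨Ne.symm heb, hbd, Ne.symm hfb⟩
      ⟨Ne.symm hec, hcd, Ne.symm hfc⟩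
  set z := cy e d f with hzdef
  have hmem : ρ z v - v ∈ LinearMap.ker (ρ x - 1) := by
    have h := P.fixed a b c e d f hnd (ρ x v - v) (sub_mem_moved v)
    rw [← hzdef, map_sub, ← Module.End.mul_apply, ← map_mul, hcom.eq, map_mul,
      Module.End.mul_apply] at h
    simp [map_sub, h]
  have := hC hmem
  simpa [Module.End.mul_apply, sub_eq_zero] using this

theorem finrank_inf (hab : a ≠ b) (hbc : b ≠ c) (hac : a ≠ c) (had : a ≠ d) (hbd : b ≠ d)
    (hcd : c ≠ d) : finrank k ↥(moved ρ a b c ⊓ moved ρ a b d) = 1 := by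
  refine le_antisymm ?_ (Submodule.one_le_finrank_iff.2 (moved_inf_ne_bot P hab hbc hac had hbd hcd))
  by_contra h
  have h1 := P.plane a b c hab hbc hac
  have h2 := P.plane a b d hab hbd had
  have e1 := Submodule.eq_of_le_of_finrank_le
    (inf_le_left : moved ρ a b c ⊓ moved ρ a b d ≤ moved ρ a b c) (by omega)
  have e2 := Submodule.eq_of_le_of_finrank_le
    (inf_le_right : moved ρ a b c ⊓ moved ρ a b d ≤ moved ρ a b d) (by omega)
  exact moved_ne P hab hbc hac had hbd hcd (e1.symm.trans e2)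

theorem inf_moved_eq_aux (hab : a ≠ b) (hbc : b ≠ c) (hac : a ≠ c) (hd : d ≠ a ∧ d ≠ b ∧ d ≠ c)
    (he : e ≠ a ∧ e ≠ b ∧ e ≠ c) :
    moved ρ a b c ⊓ moved ρ a b d ≤ moved ρ a b e := by
  by_cases hde : d = e
  · exact hde ▸ inf_le_right
  obtain ⟨f, hf⟩ := exists_avoid [a, b, c, d, e] (by have := P.card; simp; omega)
  simp only [List.mem_cons, List.not_mem_nil, or_false, not_or] at hf
  obtain ⟨hfa, hfb, hfc, hfd, hfe⟩ := hf
  intro v hv
  have hg := P.fixed a b c d e f (by
    simp [hab, hac, hbc, Ne.symm hd.1, Ne.symm hd.2.1, Ne.symm hd.2.2, Ne.symm he.1, Ne.symm he.2.1,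
      Ne.symm he.2.2, hde, Ne.symm hfa, Ne.symm hfb, Ne.symm hfc, Ne.symm hfd, Ne.symm hfe]) v hv.1
  have h := Submodule.mem_map_of_mem (f := ρ (cy d e f)) hv.2
  rw [hg, map_moved, cy_apply_fst hde (Ne.symm hfe) (Ne.symm hfd),
    cy_apply_other (Ne.symm hd.1) (Ne.symm he.1) (Ne.symm hfa),
    cy_apply_other (Ne.symm hd.2.1) (Ne.symm he.2.1) (Ne.symm hfb)] at h
  exact h

variable (ρ) in
omit P [FiniteDimensional k V] in
/-- The line attached to the transposition `(a b)`. -/
def line (a b : α) : Submodule k V := ⨅ c : {c // c ≠ a ∧ c ≠ b}, moved ρ a b c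

omit P [FiniteDimensional k V] in
theorem line_le (hca : c ≠ a) (hcb : c ≠ b) : line ρ a b ≤ moved ρ a b c :=
  iInf_le (fun x : {c // c ≠ a ∧ c ≠ b} => moved ρ a b x) ⟨c, hca, hcb⟩

theorem line_eq (hab : a ≠ b) (hbc : b ≠ c) (hac : a ≠ c) (had : a ≠ d) (hbd : b ≠ d) (hcd : c ≠ d) :
    line ρ a b = moved ρ a b c ⊓ moved ρ a b d := by
  refine le_antisymm (le_inf (line_le hac.symm hbc.symm) (line_le had.symm hbd.symm))
    (le_iInf fun x => ?_)
  obtain ⟨x, hxa, hxb⟩ := x
  by_cases hxc : x = c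
  · exact hxc ▸ inf_le_left
  · exact inf_moved_eq_aux P hab hbc hac ⟨had.symm, hbd.symm, hcd.symm⟩ ⟨hxa, hxb, hxc⟩

theorem line_comm (hab : a ≠ b) : line ρ b a = line ρ a b := by
  obtain ⟨c, hc⟩ := exists_avoid [a, b] (by have := P.card; simp; omega)
  obtain ⟨d, hd⟩ := exists_avoid [a, b, c] (by have := P.card; simp; omega)
  simp only [List.mem_cons, List.not_mem_nil, or_false, not_or] at hc hd
  rw [line_eq P hab (Ne.symm hc.2) (Ne.symm hc.1) (Ne.symm hd.1) (Ne.symm hd.2.1) (Ne.symm hd.2.2),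
    line_eq P hab.symm (Ne.symm hc.1) (Ne.symm hc.2) (Ne.symm hd.2.1) (Ne.symm hd.1) (Ne.symm hd.2.2),
    moved_swap hab (Ne.symm hc.2) (Ne.symm hc.1), moved_swap hab (Ne.symm hd.2.1) (Ne.symm hd.1)]

theorem finrank_line (hab : a ≠ b) : finrank k (line ρ a b) = 1 := by
  obtain ⟨c, hc⟩ := exists_avoid [a, b] (by have := P.card; simp; omega)
  obtain ⟨d, hd⟩ := exists_avoid [a, b, c] (by have := P.card; simp; omega)
  simp only [List.mem_cons, List.not_mem_nil, or_false, not_or] at hc hd
  rw [line_eq P hab (Ne.symm hc.2) (Ne.symm hc.1) (Ne.symm hd.1) (Ne.symm hd.2.1) (Ne.symm hd.2.2),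
    finrank_inf P hab (Ne.symm hc.2) (Ne.symm hc.1) (Ne.symm hd.1) (Ne.symm hd.2.1) (Ne.symm hd.2.2)]

omit P [FiniteDimensional k V] in
theorem apply_mem_line (g : alternatingGroup α) {v : V} (hv : v ∈ line ρ a b) :
    ρ g v ∈ line ρ ((g : Equiv.Perm α) a) ((g : Equiv.Perm α) b) := by
  refine Submodule.mem_iInf _ |>.2 fun x => ?_
  obtain ⟨x, hxa, hxb⟩ := x
  have h : v ∈ moved ρ a b ((g : Equiv.Perm α).symm x) :=
    line_le (fun h => hxa (by rw [← h, Equiv.apply_symm_apply]))
      (fun h => hxb (by rw [← h, Equiv.apply_symm_apply])) hv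
  have h' := Submodule.mem_map_of_mem (f := ρ g) h
  rwa [map_moved, Equiv.apply_symm_apply] at h'

theorem eq_smul_of_mem_line (hab : a ≠ b) {v w : V} (hv : v ∈ line ρ a b) (hv0 : v ≠ 0)
    (hw : w ∈ line ρ a b) : ∃ t : k, w = t • v := by
  obtain ⟨t, ht⟩ := (finrank_eq_one_iff_of_nonzero' (⟨v, hv⟩ : line ρ a b) (by simpa using hv0)).1
    (finrank_line P hab) ⟨w, hw⟩
  exact ⟨t, (congrArg Subtype.val ht).symm⟩

theorem line_ne (hab : a ≠ b) (hbc : b ≠ c) (hac : a ≠ c) : line ρ a b ≠ line ρ b c := by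
  intro heq
  have h3 : 3 + 2 ≤ Fintype.card α := by have := P.card; omega
  have tr : ∀ a' b' c' : α, a' ≠ b' → b' ≠ c' → a' ≠ c' → line ρ a' b' ≤ line ρ b' c' := by
    intro a' b' c' h1 h2 h3' v hv
    obtain ⟨g, hg⟩ := exists_move h3 ![a', b', c'] ![a, b, c]
      (List.nodup_ofFn.1 (by simp [List.ofFn_succ, h1, h2, h3']))
      (List.nodup_ofFn.1 (by simp [List.ofFn_succ, hab, hbc, hac]))
    have h := apply_mem_line g hv
    rw [show (g : Equiv.Perm α) a' = a from hg 0, show (g : Equiv.Perm α) b' = b from hg 1, heq] at h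
    have h' := apply_mem_line g⁻¹ h
    rw [apply_inv_self] at h'
    have hinv : ∀ x y : α, (g : Equiv.Perm α) x = y →
        ((g⁻¹ : alternatingGroup α) : Equiv.Perm α) y = x := fun x y h => by
      rw [Subgroup.coe_inv, ← h, Equiv.Perm.inv_def, Equiv.symm_apply_apply]
    rwa [hinv b' b (hg 1), hinv c' c (hg 2)] at h'
  -- a common vector
  have hne : line ρ a b ≠ ⊥ := fun h => by
    have := finrank_line P hab
    rw [h, finrank_bot] at this
    omega
  obtain ⟨v, hv, hv0⟩ := Submodule.exists_mem_ne_zero_of_ne_bot hne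
  have hfix : ∀ x y z : α, x ≠ y → y ≠ z → x ≠ z → v ∈ line ρ x y → ρ (cy x y z) v = v := by
    intro x y z hxy hyz hxz hvx
    have hm := line_le (ρ := ρ) hxz.symm hyz.symm hvx
    obtain ⟨μ, hμ⟩ := eq_smul_of_mem_line P hxy hvx hv0
      (w := ρ (cy x y z) v) (by
        have h := apply_mem_line (cy x y z) hvx
        rw [cy_apply_fst hxy hyz hxz, cy_apply_snd hxy hyz hxz] at h
        rw [← line_comm P hxy]
        exact tr z y x hyz.symm hxy.symm hxz.symm (by rw [line_comm P hyz]; exact h))
    have h3c : μ ^ 3 = 1 := by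
      have h3 : ρ (cy x y z) (ρ (cy x y z) (ρ (cy x y z) v)) = v := by
        rw [← Module.End.mul_apply, ← Module.End.mul_apply, ← map_mul, ← map_mul,
          show cy x y z * cy x y z * cy x y z = 1 by rw [← pow_three', cy_pow_three], map_one,
          Module.End.one_apply]
      rw [hμ, map_smul, hμ, map_smul, map_smul, hμ, smul_smul, smul_smul] at h3
      have : (μ * μ * μ - 1) • v = 0 := by rw [sub_smul, one_smul, h3, sub_self]
      rw [smul_eq_zero, or_iff_left hv0, sub_eq_zero] at this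
      rw [pow_three', this]
    obtain ⟨w, hw⟩ := exists_avoid [x, y, z] (by have := P.card; simp; omega)
    simp only [List.mem_cons, List.not_mem_nil, or_false, not_or] at hw
    -- the inverse cycle acts by the same scalar
    obtain ⟨g, hg⟩ := exists_move h3 ![x, y, z] ![y, x, z]
      (List.nodup_ofFn.1 (by simp [List.ofFn_succ, hxy, hyz, hxz]))
      (List.nodup_ofFn.1 (by simp [List.ofFn_succ, hxy.symm, hyz, hxz]))
    have hgv : ∃ t : k, ρ g v = t • v := by
      have h := apply_mem_line g hvx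
      rw [show (g : Equiv.Perm α) x = y from hg 0, show (g : Equiv.Perm α) y = x from hg 1,
        line_comm P hxy] at h
      exact eq_smul_of_mem_line P hxy hvx hv0 h
    obtain ⟨t, ht⟩ := hgv
    have hconj : g * cy x y z = (cy x y z)⁻¹ * g := by
      have h := conj_cy g x y z
      rw [show (g : Equiv.Perm α) x = y from hg 0, show (g : Equiv.Perm α) y = x from hg 1,
        show (g : Equiv.Perm α) z = z from hg 2] at h
      rw [mul_inv_eq_iff_eq_mul.1 h, cy_inv hxy hyz hxz, cy_rotate hyz.symm hxy.symm hxz.symm]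
    have h5 : ρ g (ρ (cy x y z) v) = ρ (cy x y z)⁻¹ (ρ g v) := by
      rw [← Module.End.mul_apply, ← map_mul, hconj, map_mul, Module.End.mul_apply]
    have hinvv : ρ (cy x y z)⁻¹ v = μ⁻¹ • v := by
      have h := apply_inv_self (ρ := ρ) (cy x y z) v
      rw [hμ, map_smul] at h
      rw [← h, smul_smul, inv_mul_cancel₀ (fun h0 => by simp [h0] at h3c), one_smul, h]
    have ht0 : t ≠ 0 := fun h0 => hv0 (rho_injective g (by rw [ht, h0, zero_smul, map_zero]))
    rw [hμ, map_smul, ht, map_smul, hinvv, smul_comm t] at h5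
    have h6 : μ = μ⁻¹ := smul_left_injective k (smul_ne_zero ht0 hv0) h5
    have h7 : μ * μ = 1 := by
      nth_rewrite 2 [h6]
      exact mul_inv_cancel₀ (fun h0 => by simp [h0] at h3c)
    rw [hμ, show μ = 1 by rw [pow_three', h7, one_mul] at h3c; exact h3c, one_smul]
  exact hv0 (P.nofix a b c hab hbc hac v (line_le hac.symm hbc.symm hv) fun g => by
    have hall : ∀ x y : α, x ≠ y → v ∈ line ρ x y := by
      intro x y hxy
      obtain ⟨p, hp⟩ := exists_avoid [a, b, x] (by have := P.card; simp; omega)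
      simp only [List.mem_cons, List.not_mem_nil, or_false, not_or] at hp
      have h1 : v ∈ line ρ b p := tr a b p hab (Ne.symm hp.2.1) (Ne.symm hp.1) hv
      by_cases hxb : x = b
      · subst hxb
        by_cases hya : y = a
        · subst hya; rw [line_comm P hxy.symm]; exact hv
        · exact tr a x y hab (by exact hxy) (Ne.symm hya) hv
      · have h2 : v ∈ line ρ p x := tr b p x (Ne.symm hp.2.1) hp.2.2 (Ne.symm hxb) h1
        by_cases hyp : y = p
        · subst hyp; rw [line_comm P hxy.symm]; exact h2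
        · exact tr p x y hp.2.2 hxy (Ne.symm hyp) h2
    have hclose : g ∈ Subgroup.closure {g : alternatingGroup α | ∃ a b c, a ≠ b ∧ b ≠ c ∧ a ≠ c ∧ g = cy a b c} := by
      rw [closure_cy]; trivial
    induction hclose using Subgroup.closure_induction with
    | mem y hy =>
      obtain ⟨x, y, z, h1, h2, h3', rfl⟩ := hy
      exact hfix x y z h1 h2 h3' (hall x y h1)
    | one => rw [map_one, Module.End.one_apply]
    | mul x y _ _ hx hy => rw [map_mul, Module.End.mul_apply, hy, hx]
    | inv x _ hx => conv_lhs => rw [← hx]; rw [apply_inv_self])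

theorem moved_inf_eq (hab : a ≠ b) (hbc : b ≠ c) (hac : a ≠ c) (had : a ≠ d) (hbd : b ≠ d)
    (hcd : c ≠ d) : moved ρ a b c ⊓ moved ρ b c d = line ρ b c := by
  rw [line_eq P hbc hac.symm hab.symm hbd hcd had, moved_rotate hab hbc hac]

theorem not_mem_next (hab : a ≠ b) (hbc : b ≠ c) (hac : a ≠ c) (had : a ≠ d) (hbd : b ≠ d)
    (hcd : c ≠ d) {v : V} (hv : v ∈ line ρ a b) (hv0 : v ≠ 0) : v ∉ moved ρ b c d := by
  intro h
  have h1 : v ∈ line ρ b c := moved_inf_eq P hab hbc hac had hbd hcd ▸
    ⟨line_le hac.symm hbc.symm hv, h⟩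
  obtain ⟨t, ht⟩ := eq_smul_of_mem_line P hbc h1 hv0 h1
  refine line_ne P hab hbc hac (le_antisymm (fun w hw => ?_) (fun w hw => ?_))
  · obtain ⟨μ, rfl⟩ := eq_smul_of_mem_line P hab hv hv0 hw
    exact Submodule.smul_mem _ μ h1
  · obtain ⟨μ, rfl⟩ := eq_smul_of_mem_line P hbc h1 hv0 hw
    exact Submodule.smul_mem _ μ hv

theorem not_mem_prev (hab : a ≠ b) (hbc : b ≠ c) (hac : a ≠ c) (had : a ≠ d) (hbd : b ≠ d)
    (hcd : c ≠ d) {u : V} (hu : u ∈ line ρ c d) (hu0 : u ≠ 0) : u ∉ moved ρ a b c := by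
  rw [← moved_rev hab hbc hac]
  rw [← line_comm P hcd] at hu
  exact not_mem_next P hcd.symm hbc.symm hbd.symm had.symm hac.symm hab.symm hu hu0

omit P [FiniteDimensional k V] in
theorem next_mem_line (hab : a ≠ b) (hbc : b ≠ c) (hac : a ≠ c) {v : V} (hv : v ∈ line ρ a b) :
    ρ (cy a b c) v ∈ line ρ b c := by
  have h := apply_mem_line (cy a b c) hv
  rwa [cy_apply_fst hab hbc hac, cy_apply_snd hab hbc hac] at h

theorem third_mem_line (hab : a ≠ b) (hbc : b ≠ c) (hac : a ≠ c) {v : V} (hv : v ∈ line ρ a b) :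
    v + ρ (cy a b c) v ∈ line ρ a c := by
  have h1 := next_mem_line hab hbc hac hv
  have h2 := next_mem_line hbc hac.symm hab.symm h1
  rw [cy_rotate hab hbc hac, line_comm P hac] at h2
  have h3 := sum_eq_zero (line_le (ρ := ρ) hac.symm hbc.symm hv)
  rw [eq_neg_of_add_eq_zero_left h3]
  exact Submodule.neg_mem _ h2

/-- The value of the next cycle on the previous line. -/
theorem apply_next (hab : a ≠ b) (hbc : b ≠ c) (hac : a ≠ c) (had : a ≠ d) (hbd : b ≠ d)
    (hcd : c ≠ d) {v : V} (hv : v ∈ line ρ a b) (hv0 : v ≠ 0) :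
    ρ (cy b c d) v = v + ρ (cy a b c) v := by
  set w := ρ (cy a b c) v with hw
  have hwl := next_mem_line hab hbc hac hv
  have hne : v + w ≠ 0 := fun h0 => by
    refine not_mem_next P hab hbc hac had hbd hcd hv hv0 ?_
    rw [eq_neg_of_add_eq_zero_left h0]
    exact Submodule.neg_mem _ (line_le hbd.symm hcd.symm hwl)
  have hy : ρ (cy b c d) v ∈ line ρ a c := by
    have h := apply_mem_line (cy b c d) hv
    rwa [cy_apply_other hab hac had, cy_apply_fst hbc hcd hbd] at h
  obtain ⟨μ, hμ⟩ := eq_smul_of_mem_line P hac (third_mem_line P hab hbc hac hv) hne hy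
  by_cases hμ1 : μ = 1
  · rw [hμ, hμ1, one_smul]
  exfalso
  refine not_mem_next P hab hbc hac had hbd hcd hv hv0 ?_
  have h1 : (μ - 1) • v ∈ moved ρ b c d := by
    have h2 := sub_mem_moved (ρ := ρ) (a := b) (b := c) (c := d) v
    rw [hμ] at h2
    have h3 : (μ - 1) • v = (μ • (v + w) - v) - μ • w := by
      rw [sub_smul, one_smul, smul_add]; abel
    rw [h3]
    exact Submodule.sub_mem _ h2 (Submodule.smul_mem _ _ (line_le hbd.symm hcd.symm hwl))
  simpa [smul_smul, inv_mul_cancel₀ (sub_ne_zero.2 hμ1)] using Submodule.smul_mem _ (μ - 1)⁻¹ h1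

/-- The value of a cycle on the line after next. -/
theorem apply_prev (hab : a ≠ b) (hbc : b ≠ c) (hac : a ≠ c) (had : a ≠ d) (hbd : b ≠ d)
    (hcd : c ≠ d) {v : V} (hv : v ∈ line ρ a b) (hv0 : v ≠ 0) :
    ρ (cy a b c) (ρ (cy b c d) (ρ (cy a b c) v)) =
      v + ρ (cy a b c) v + ρ (cy b c d) (ρ (cy a b c) v) := by
  set w := ρ (cy a b c) v with hw
  set u := ρ (cy b c d) w with hu
  have hwl := next_mem_line hab hbc hac hv
  have hul := next_mem_line hbc hcd hbd hwl
  have hw0 : w ≠ 0 := fun h => hv0 (rho_injective _ (h.trans (map_zero _).symm))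
  have hu0 : u ≠ 0 := fun h => hw0 (rho_injective _ (h.trans (map_zero _).symm))
  have huU := not_mem_prev P hab hbc hac had hbd hcd hul hu0
  have hvw : ∀ s t : k, s • v + t • w = 0 → s = 0 ∧ t = 0 := by
    intro s t h
    by_cases hs : s = 0
    · rw [hs, zero_smul, zero_add, smul_eq_zero, or_iff_left hw0] at h
      exact ⟨hs, h⟩
    exfalso
    refine not_mem_next P hab hbc hac had hbd hcd hv hv0 ?_
    have h1 : s • v ∈ moved ρ b c d := by
      rw [eq_neg_of_add_eq_zero_left h]
      exact Submodule.neg_mem _ (Submodule.smul_mem _ _ (line_le hbd.symm hcd.symm hwl))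
    simpa [smul_smul, inv_mul_cancel₀ hs] using Submodule.smul_mem _ s⁻¹ h1
  have hvm := line_le (ρ := ρ) hac.symm hbc.symm hv
  have hwm : w ∈ moved ρ a b c := by rw [hw]; exact apply_mem_moved hvm
  have hind : ∀ r s t : k, r • v + s • w + t • u = 0 → r = 0 ∧ s = 0 ∧ t = 0 := by
    intro r s t h
    by_cases ht : t = 0
    · rw [ht, zero_smul, add_zero] at h
      exact ⟨(hvw r s h).1, (hvw r s h).2, ht⟩
    exfalso
    refine huU ?_
    have h1 : t • u ∈ moved ρ a b c := by
      rw [eq_neg_of_add_eq_zero_right h]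
      exact Submodule.neg_mem _ (Submodule.add_mem _ (Submodule.smul_mem _ _ hvm)
        (Submodule.smul_mem _ _ hwm))
    simpa [smul_smul, inv_mul_cancel₀ ht] using Submodule.smul_mem _ t⁻¹ h1
  -- the two planes through the line of `(a d)`
  have htarget : ρ (cy a b c) u ∈ line ρ a d := by
    have h := apply_mem_line (cy a b c) hul
    rwa [cy_apply_thd hab hbc hac, cy_apply_other had.symm hbd.symm hcd.symm] at h
  have span : ∀ (x y z : α) (p q : V), x ≠ y → y ≠ z → x ≠ z → p ∈ line ρ x y → q ∈ line ρ y z →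
      (∀ s t : k, s • p + t • q = 0 → s = 0 ∧ t = 0) →
      ∀ m ∈ moved ρ x y z, ∃ s t : k, m = s • p + t • q := by
    intro x y z p q hxy hyz hxz hp hq hi m hm
    have hp' : p ∈ moved ρ x y z := line_le hxz.symm hyz.symm hp
    have hq' : q ∈ moved ρ x y z := by
      rw [← moved_rotate hxy hyz hxz]
      exact line_le hxy hxz hq
    have hli : LinearIndependent k ![(⟨p, hp'⟩ : moved ρ x y z), ⟨q, hq'⟩] := by
      rw [LinearIndependent.pair_iff]
      exact fun s t h => hi s t (by simpa using congrArg Subtype.val h)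
    have hsp := hli.span_eq_top_of_card_eq_finrank (by rw [Fintype.card_fin, P.plane x y z hxy hyz hxz])
    have h := (hsp ▸ Submodule.mem_top : (⟨m, hm⟩ : moved ρ x y z) ∈ Submodule.span k (Set.range _))
    simp only [Matrix.range_cons, Matrix.range_empty, Set.union_empty, Set.singleton_union,
      Submodule.mem_span_pair] at h
    obtain ⟨s, t, hst⟩ := h
    exact ⟨s, t, (congrArg Subtype.val hst).symm⟩
  obtain ⟨γ, δ, h1⟩ := span a b d v (w + u) hab hbd had hv (third_mem_line P hbc hcd hbd hwl)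
    (fun s t h => by
      obtain ⟨h1, h2, -⟩ := hind s t t (by rw [← h, smul_add]; abel)
      exact ⟨h1, h2⟩) _
      ((show moved ρ a d b = moved ρ a b d by
        rw [← moved_rev had hbd.symm hab, moved_rotate hab hbd had]) ▸ line_le hab.symm hbd htarget)
  obtain ⟨α', β, h2⟩ := span a c d (v + w) u hac hcd had (third_mem_line P hab hbc hac hv) hul
    (fun s t h => by
      obtain ⟨h1, -, h3⟩ := hind s s t (by rw [← h, smul_add])
      exact ⟨h1, h3⟩) _
      ((show moved ρ a d c = moved ρ a c d by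
        rw [← moved_rev had hcd.symm hac, moved_rotate hac hcd had]) ▸ line_le hac.symm hcd htarget)
  obtain ⟨e1, e2, e3⟩ := hind (γ - α') (δ - α') (δ - β) (by
    have h := h1.symm.trans h2
    rw [← sub_eq_zero] at h
    rw [← h, sub_smul, sub_smul, sub_smul, smul_add, smul_add]; abel)
  have hβ : β = 1 := by
    by_contra hne
    refine huU ?_
    have h3 : (β - 1) • u ∈ moved ρ a b c := by
      have h4 := sub_mem_moved (ρ := ρ) (a := a) (b := b) (c := c) u
      rw [h2] at h4
      have h5 : (β - 1) • u = (α' • (v + w) + β • u - u) - α' • (v + w) := by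
        rw [sub_smul, one_smul]; abel
      rw [h5]
      exact Submodule.sub_mem _ h4 (Submodule.smul_mem _ _ (Submodule.add_mem _ hvm hwm))
    simpa [smul_smul, inv_mul_cancel₀ (sub_ne_zero.2 hne)] using Submodule.smul_mem _ (β - 1)⁻¹ h3
  rw [h2, hβ, one_smul, show α' = 1 by linear_combination e3 - e2 + hβ, one_smul]

/-- A cycle disjoint from a line fixes it. -/
theorem fix_line (hab : a ≠ b) (hcd : c ≠ d) (hde : d ≠ e) (hce : c ≠ e)
    (ha : a ≠ c ∧ a ≠ d ∧ a ≠ e) (hb : b ≠ c ∧ b ≠ d ∧ b ≠ e) {v : V} (hv : v ∈ line ρ a b) :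
    ρ (cy c d e) v = v := by
  obtain ⟨f, hf⟩ := exists_avoid [a, b, c, d, e] (by have := P.card; simp; omega)
  simp only [List.mem_cons, List.not_mem_nil, or_false, not_or] at hf
  obtain ⟨hfa, hfb, hfc, hfd, hfe⟩ := hf
  exact P.fixed a b f c d e (by
    simp [hab, Ne.symm hfa, Ne.symm hfb, ha.1, ha.2.1, ha.2.2, hb.1, hb.2.1, hb.2.2, hfc, hfd, hfe,
      hcd, hde, hce]) v (line_le hfa hfb hv)

omit P [FiniteDimensional k V] in
variable (k V) in
/-- `dim V ≥ r - 1 - [r = 0 in k]`. -/
def Bound (r : ℕ) : Prop := r - 2 ≤ finrank k V ∧ ((r : k) ≠ 0 → r - 1 ≤ finrank k V)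

/-- A module in which three-cycles move planes has at least `r - 1 - [r = 0 in k]` dimensions. -/
theorem planar_bound : Bound k V (Fintype.card α) := by
  have hr : 9 ≤ Fintype.card α := P.card
  obtain ⟨p, hp⟩ : ∃ p : ℕ → α, ∀ i j, i < Fintype.card α → j < Fintype.card α → i ≠ j →
      p i ≠ p j := by
    refine ⟨fun i => (Fintype.equivFin α).symm ⟨i % Fintype.card α, Nat.mod_lt _ (by omega)⟩,
      fun i j hi hj hij h => hij ?_⟩
    have h' := congrArg Fin.val ((Fintype.equivFin α).symm.injective h)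
    simpa [Nat.mod_eq_of_lt hi, Nat.mod_eq_of_lt hj] using h'
  generalize hrn : Fintype.card α = r at hr hp ⊢
  have h01 : p 0 ≠ p 1 := hp 0 1 (by omega) (by omega) (by omega)
  obtain ⟨v0, hv0, hv00⟩ := Submodule.exists_mem_ne_zero_of_ne_bot
    (p := line ρ (p 0) (p 1)) (fun h => by
      have := finrank_line P h01
      rw [h, finrank_bot] at this
      omega)
  obtain ⟨v, hvz, hvs⟩ : ∃ v : ℕ → V, v 0 = v0 ∧
      ∀ i, v (i + 1) = ρ (cy (p i) (p (i + 1)) (p (i + 2))) (v i) :=
    ⟨Nat.rec v0 fun i w => ρ (cy (p i) (p (i + 1)) (p (i + 2))) w, rfl, fun _ => rfl⟩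
  have hmem : ∀ i, i + 1 < r → v i ∈ line ρ (p i) (p (i + 1)) ∧ v i ≠ 0 := by
    intro i
    induction i with
    | zero => exact fun _ => ⟨hvz ▸ hv0, hvz ▸ hv00⟩
    | succ i ih =>
      intro hi
      obtain ⟨h1, h2⟩ := ih (by omega)
      rw [hvs]
      exact ⟨next_mem_line (hp _ _ (by omega) (by omega) (by omega))
          (hp _ _ (by omega) (by omega) (by omega)) (hp _ _ (by omega) (by omega) (by omega)) h1,
        fun h => h2 (rho_injective _ (h.trans (map_zero _).symm))⟩
  -- the values of `x_j - 1` on the chain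
  have hval : ∀ j, j + 2 < r → ∀ i, i + 1 < r →
      ρ (cy (p j) (p (j + 1)) (p (j + 2))) (v i) - v i =
        (if i = j - 1 then (if 1 ≤ j then v j else 0) else 0) +
        (if i = j then v (j + 1) - v j else 0) +
        (if i = j + 1 then -(v j) - (2 : k) • v (j + 1) else 0) +
        (if i = j + 2 then v j + v (j + 1) else 0) := by
    intro j hj i hi
    by_cases e1 : i = j
    · subst e1
      rw [if_pos rfl, if_neg (by omega : ¬ i = i + 1), if_neg (by omega : ¬ i = i + 2), hvs]
      by_cases hz : i = i - 1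
      · rw [if_pos hz, if_neg (by omega : ¬ 1 ≤ i)]; abel
      · rw [if_neg hz]; abel
    by_cases e2 : i = j + 1
    · subst e2
      rw [if_neg (by omega : ¬ j + 1 = j - 1), if_neg (by omega : ¬ j + 1 = j), if_pos rfl,
        if_neg (by omega : ¬ j + 1 = j + 2)]
      have h := sum_eq_zero (line_le (ρ := ρ) (c := p (j + 2))
        (hp _ _ (by omega) (by omega) (by omega)) (hp _ _ (by omega) (by omega) (by omega))
        (hmem j (by omega)).1)
      rw [← hvs j] at h
      rw [eq_neg_of_add_eq_zero_right h, two_smul]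
      abel
    by_cases e3 : i = j + 2
    · subst e3
      rw [if_neg (by omega : ¬ j + 2 = j - 1), if_neg (by omega : ¬ j + 2 = j),
        if_neg (by omega : ¬ j + 2 = j + 1), if_pos rfl]
      have h := apply_prev (d := p (j + 3)) P (hp _ _ (by omega) (by omega) (by omega))
        (hp _ _ (by omega) (by omega) (by omega)) (hp _ _ (by omega) (by omega) (by omega))
        (hp _ _ (by omega) (by omega) (by omega)) (hp _ _ (by omega) (by omega) (by omega))
        (hp (j + 2) _ (by omega) (by omega) (by omega)) (hmem j (by omega)).1 (hmem j (by omega)).2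
      rw [← hvs j, ← hvs (j + 1)] at h
      rw [h]
      abel
    by_cases e4 : i + 1 = j
    · subst e4
      rw [if_pos (by omega : i = i + 1 - 1), if_pos (by omega : 1 ≤ i + 1), if_neg e1, if_neg e2,
        if_neg e3]
      have h := apply_next (d := p (i + 3)) P (hp _ _ (by omega) (by omega) (by omega))
        (hp _ _ (by omega) (by omega) (by omega)) (hp _ _ (by omega) (by omega) (by omega))
        (hp _ _ (by omega) (by omega) (by omega)) (hp _ _ (by omega) (by omega) (by omega))
        (hp (i + 2) _ (by omega) (by omega) (by omega)) (hmem i (by omega)).1 (hmem i (by omega)).2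
      rw [← hvs i] at h
      rw [h]
      abel
    rw [if_neg (by omega : ¬ i = j - 1), if_neg e1, if_neg e2, if_neg e3,
      fix_line P (hp _ _ (by omega) (by omega) (by omega)) (hp _ _ (by omega) (by omega) (by omega))
        (hp _ _ (by omega) (by omega) (by omega)) (hp _ _ (by omega) (by omega) (by omega))
        ⟨hp _ _ (by omega) (by omega) (by omega), hp _ _ (by omega) (by omega) (by omega),
          hp _ _ (by omega) (by omega) (by omega)⟩
        ⟨hp _ _ (by omega) (by omega) (by omega), hp _ _ (by omega) (by omega) (by omega),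
          hp _ _ (by omega) (by omega) (by omega)⟩ (hmem i hi).1]
    abel
  -- consecutive vectors are independent
  have hpair : ∀ j, j + 3 < r → ∀ s t : k, s • v j + t • v (j + 1) = 0 → s = 0 ∧ t = 0 := by
    intro j hj s t h
    by_cases hs : s = 0
    · rw [hs, zero_smul, zero_add, smul_eq_zero, or_iff_left (hmem (j + 1) (by omega)).2] at h
      exact ⟨hs, h⟩
    exfalso
    refine not_mem_next (d := p (j + 3)) P (hp _ _ (by omega) (by omega) (by omega))
      (hp _ _ (by omega) (by omega) (by omega)) (hp j (j + 2) (by omega) (by omega) (by omega))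
      (hp _ _ (by omega) (by omega) (by omega)) (hp _ _ (by omega) (by omega) (by omega))
      (hp (j + 2) _ (by omega) (by omega) (by omega)) (hmem j (by omega)).1 (hmem j (by omega)).2 ?_
    have h1 : s • v j ∈ moved ρ (p (j + 1)) (p (j + 2)) (p (j + 3)) := by
      rw [eq_neg_of_add_eq_zero_left h]
      exact Submodule.neg_mem _ (Submodule.smul_mem _ _ (line_le
        (hp _ _ (by omega) (by omega) (by omega)) (hp _ _ (by omega) (by omega) (by omega))
        (hmem (j + 1) (by omega)).1))
    simpa [smul_smul, inv_mul_cancel₀ hs] using Submodule.smul_mem _ s⁻¹ h1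
  have hpair' : ∀ j, j + 2 < r → ∀ s t : k, s • v j + t • v (j + 1) = 0 → s = 0 ∧ t = 0 := by
    intro j hj s t h
    by_cases hj3 : j + 3 < r
    · exact hpair j hj3 s t h
    -- the last pair: use the previous cycle
    obtain ⟨j', rfl⟩ : ∃ j', j = j' + 1 := ⟨j - 1, by omega⟩
    by_cases ht : t = 0
    · rw [ht, zero_smul, add_zero, smul_eq_zero, or_iff_left (hmem (j' + 1) (by omega)).2] at h
      exact ⟨h, ht⟩
    exfalso
    refine not_mem_prev (a := p j') P (hp _ _ (by omega) (by omega) (by omega))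
      (hp (j' + 1) (j' + 2) (by omega) (by omega) (by omega))
      (hp _ _ (by omega) (by omega) (by omega))
      (hp j' (j' + 3) (by omega) (by omega) (by omega)) (hp _ _ (by omega) (by omega) (by omega))
      (hp _ _ (by omega) (by omega) (by omega)) (hmem (j' + 2) (by omega)).1
      (hmem (j' + 2) (by omega)).2 ?_
    have h1 : t • v (j' + 2) ∈ moved ρ (p j') (p (j' + 1)) (p (j' + 2)) := by
      rw [eq_neg_of_add_eq_zero_right h, ← moved_rotate (hp _ _ (by omega) (by omega) (by omega))
        (hp (j' + 1) (j' + 2) (by omega) (by omega) (by omega))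
        (hp _ _ (by omega) (by omega) (by omega))]
      exact Submodule.neg_mem _ (Submodule.smul_mem _ _ (line_le
        (hp _ _ (by omega) (by omega) (by omega)) (hp _ _ (by omega) (by omega) (by omega))
        (hmem (j' + 1) (by omega)).1))
    simpa [smul_smul, inv_mul_cancel₀ ht] using Submodule.smul_mem _ t⁻¹ h1
  -- the relations form an arithmetic progression
  have hrel : ∀ c : ℕ → k, (∀ i, r - 1 ≤ i → c i = 0) →
      ∑ i ∈ Finset.range (r - 1), c i • v i = 0 → ∀ i, i < r → c i = ((i + 1 : ℕ) : k) * c 0 := by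
    intro c hc hsum
    have heq : ∀ j, j + 2 < r → (1 ≤ j ∨ -c j - c (j + 1) + c (j + 2) = 0) ∧
        c j - 2 * c (j + 1) + c (j + 2) = 0 := by
      intro j hj
      have h0 : ∑ i ∈ Finset.range (r - 1),
          c i • (ρ (cy (p j) (p (j + 1)) (p (j + 2))) (v i) - v i) = 0 := by
        simp only [smul_sub, Finset.sum_sub_distrib, ← map_smul, ← map_sum, hsum, map_zero, sub_zero]
      rw [Finset.sum_congr rfl fun i hi => by
        rw [hval j hj i (by have := Finset.mem_range.1 hi; omega)]] at h0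
      simp only [smul_add, smul_ite, smul_zero, Finset.sum_add_distrib, Finset.sum_ite_eq',
        Finset.mem_range] at h0
      rw [if_pos (by omega : j - 1 < r - 1), if_pos (by omega : j < r - 1),
        if_pos (by omega : j + 1 < r - 1)] at h0
      have hlast : (if j + 2 < r - 1 then c (j + 2) • v j + c (j + 2) • v (j + 1) else 0) =
          c (j + 2) • v j + c (j + 2) • v (j + 1) := by
        split_ifs with h
        · rfl
        · rw [hc _ (by omega), zero_smul, zero_smul, add_zero]
      rw [hlast] at h0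
      obtain ⟨h1, h2⟩ := hpair' j hj
        ((if 1 ≤ j then c (j - 1) else 0) - c j - c (j + 1) + c (j + 2))
        (c j - 2 * c (j + 1) + c (j + 2)) (by
          rw [← h0]
          split_ifs <;> simp only [sub_smul, add_smul, smul_sub, smul_neg, smul_smul, smul_zero,
            zero_smul, mul_comm (2 : k)] <;> abel)
      refine ⟨?_, h2⟩
      by_cases hj1 : 1 ≤ j
      · exact Or.inl hj1
      · rw [if_neg hj1, zero_sub] at h1
        exact Or.inr h1
    obtain ⟨hA, hB⟩ := heq 0 (by omega)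
    replace hA := hA.resolve_left (by omega)
    intro i
    induction i using Nat.strong_induction_on with
    | _ i ih =>
      intro hi
      match i with
      | 0 => simp
      | 1 => linear_combination hA - hB
      | i + 2 =>
        have h1 := ih i (by omega) (by omega)
        have h2 := ih (i + 1) (by omega) (by omega)
        obtain ⟨-, h3⟩ := heq i hi
        push_cast at h1 h2 ⊢
        linear_combination h3 - h1 + 2 * h2
  -- conclude
  suffices hmain : ∀ m, (m = r - 2 ∨ m = r - 1 ∧ (r : k) ≠ 0) → m ≤ finrank k V from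
    ⟨hmain _ (Or.inl rfl), fun h => hmain _ (Or.inr ⟨rfl, h⟩)⟩
  intro m hm
  have hli : LinearIndependent k fun i : Fin m => v i := by
    rw [Fintype.linearIndependent_iff]
    intro g hg i
    set c : ℕ → k := fun i => if h : i < m then g ⟨i, h⟩ else 0 with hc
    have hz : ∀ i, m ≤ i → c i = 0 := fun i hi => by rw [hc]; exact dif_neg (by omega)
    have hmle : m ≤ r - 1 := by omega
    have hsum : ∑ i ∈ Finset.range (r - 1), c i • v i = 0 := by
      rw [← Finset.sum_subset (Finset.range_subset_range.2 hmle) (fun x _ hx => by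
        rw [hz x (by simpa using hx), zero_smul]), ← Fin.sum_univ_eq_sum_range (fun i => c i • v i)]
      rw [← hg]
      exact Finset.sum_congr rfl fun i _ => by simp [hc, i.2]
    have hall := hrel c (fun i hi => hz i (by omega)) hsum
    have hc0 : c 0 = 0 := by
      by_cases hrk : (r : k) = 0
      · have h := hall (r - 2) (by omega)
        rw [hz (r - 2) (by
          rcases hm with hm | ⟨-, hm'⟩
          · omega
          · exact absurd hrk hm'),
          show r - 2 + 1 = r - 1 by omega] at h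
        have h' : ((r - 1 : ℕ) : k) + 1 = (r : k) := by
          rw [← Nat.cast_add_one, show r - 1 + 1 = r by omega]
        rw [hrk] at h'
        linear_combination h + c 0 * h'
      · have h := hall (r - 1) (by omega)
        rw [hz (r - 1) (by omega), show r - 1 + 1 = r by omega] at h
        exact (mul_eq_zero.1 h.symm).resolve_left hrk
    have := hall i (by omega)
    rw [hc0, mul_zero] at this
    simpa [hc, i.2] using this
  have h := hli.fintype_card_le_finrank
  rwa [Fintype.card_fin] at h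

end Cfsg.Agent.H85.AltDeg
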