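import Cfsg.Agent.H85.AltDeg.OddChar

/-!
Odd characteristic: either the degree is large, or the three-cycles move planes.
-/

set_option autoImplicit false
set_option linter.unusedSectionVars false

namespace Cfsg.Agent.H85.AltDeg

open Module Submodule Equiv

universe u v w

/-- The degree bound for all smaller alternating groups, in the weak form used in inductions. -/
def Below (k : Type w) [Field k] (r : ℕ) : Prop :=
  ∀ (β : Type u) [Fintype β] [DecidableEq β] (W : Type v) [AddCommGroup W] [Module k W]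
    [FiniteDimensional k W] (σ : alternatingGroup β →* Module.End k W),
    9 ≤ Fintype.card β → Fintype.card β < r → Nontriv σ → Fintype.card β - 2 ≤ finrank k W

variable {α : Type u} [Fintype α] [DecidableEq α] {k : Type w} [Field k]
  {V : Type v} [AddCommGroup V] [Module k V] [FiniteDimensional k V]
  {ρ : alternatingGroup α →* Module.End k V} {a b c d : α}

theorem bound_of_le {r : ℕ} (h : r - 1 ≤ finrank k V) : Bound k V r :=
  ⟨le_trans (by omega) h, fun _ => h⟩

/-- If the alternating group on the remaining points moves a weight space, the degree is large. -/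
theorem big_of_restr (h2 : (2 : k) ≠ 0) (hr : 9 ≤ Fintype.card α)
    (IH : Below.{u, v, w} k (Fintype.card α)) (q : Quad a b c d)
    {h : ∀ g : alternatingGroup {x // x ∉ ({a, b, c, d} : Finset α)}, ∀ y ∈ wt ρ a b c d,
      ρ (incl _ g) y ∈ wt ρ a b c d}
    (hnt : Nontriv (restr ρ _ (wt ρ a b c d) h)) : Fintype.card α - 1 ≤ finrank k V := by
  have hcard : Fintype.card {x // x ∉ ({a, b, c, d} : Finset α)} = Fintype.card α - 4 := by
    rw [card_avoid, Finset.card_insert_of_notMem (by simp [q.ab, q.ac, q.ad]),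
      Finset.card_insert_of_notMem (by simp [q.bc, q.bd]),
      Finset.card_insert_of_notMem (by simp [q.cd]), Finset.card_singleton]
  have hle := three_mul_finrank_wt_le (ρ := ρ) h2 q
  obtain ⟨d3, d4⟩ := small_degree h2 (by omega) hnt
  by_cases h13 : 13 ≤ Fintype.card α
  · have := IH _ _ (restr ρ _ (wt ρ a b c d) h) (by omega) (by omega) hnt
    omega
  by_cases h11 : 11 ≤ Fintype.card α
  · have := d4 (by omega)
    omega
  omega

theorem wt_stable {g : alternatingGroup α} (ha : (g : Perm α) a = a) (hb : (g : Perm α) b = b)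
    (hc : (g : Perm α) c = c) (hd : (g : Perm α) d = d) {y : V} (hy : y ∈ wt ρ a b c d) :
    ρ g y ∈ wt ρ a b c d := by
  have h := map_wt_le (ρ := ρ) g a b c d (Submodule.mem_map_of_mem hy)
  rwa [ha, hb, hc, hd] at h

/-- Otherwise the remaining points act trivially on every block space. -/
theorem fix_blockSpace_or_big (h2 : (2 : k) ≠ 0) (hr : 9 ≤ Fintype.card α)
    (IH : Below.{u, v, w} k (Fintype.card α)) :
    Fintype.card α - 1 ≤ finrank k V ∨
    ∀ a b c d e f g : α, Quad a b c d → [e, f, g].Nodup →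
      (∀ z ∈ [a, b, c, d], z ∉ [e, f, g]) → ∀ y ∈ blockSpace ρ a b c d, ρ (cy e f g) y = y := by
  refine or_iff_not_imp_left.2 fun hbig a b c d e f g q _ hav => ?_
  have key : ∀ a' b' c' d' : α, Quad a' b' c' d' → (∀ z ∈ [a', b', c', d'], z ∉ [e, f, g]) →
      ∀ y ∈ wt ρ a' b' c' d', ρ (cy e f g) y = y := by
    intro a' b' c' d' q' hav' y hy
    have hst : ∀ g' : alternatingGroup {x // x ∉ ({a', b', c', d'} : Finset α)},
        ∀ y ∈ wt ρ a' b' c' d', ρ (incl _ g') y ∈ wt ρ a' b' c' d' := fun g' y hy =>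
      wt_stable (incl_apply_of_not (by simp) g') (incl_apply_of_not (by simp) g')
        (incl_apply_of_not (by simp) g') (incl_apply_of_not (by simp) g') hy
    have hout : ∀ z ∈ [e, f, g], z ∉ ({a', b', c', d'} : Finset α) := fun z hz hz' => by
      simp only [Finset.mem_insert, Finset.mem_singleton] at hz'
      rcases hz' with rfl | rfl | rfl | rfl <;> exact hav' z (by simp) hz
    exact apply_eq_of_not_nontriv (h := hst) (fun hnt => hbig (big_of_restr h2 hr IH q' hnt))
      (hout e (by simp)) (hout f (by simp)) (hout g (by simp)) hy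
  intro y hy
  obtain ⟨z, hz, x3, h3, rfl⟩ := Submodule.mem_sup.1 hy
  obtain ⟨x1, h1, x2, h2', rfl⟩ := Submodule.mem_sup.1 hz
  rw [map_add, map_add, key a b c d q hav x1 h1,
    key a c d b q.rot (fun z hz => hav z (by simp only [List.mem_cons, List.not_mem_nil, or_false] at hz ⊢; tauto)) x2 h2',
    key a d b c q.rot.rot (fun z hz => hav z (by simp only [List.mem_cons, List.not_mem_nil, or_false] at hz ⊢; tauto)) x3 h3]

/-- The shared negated vector of two double transpositions sharing a transposition. -/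
theorem exists_common (h2 : (2 : k) ≠ 0) {e f g : α} (q : Quad a b d e) (q' : Quad d e f g)
    (q'' : Quad a b f g) (h1 : ∀ a b c d : α, Quad a b c d → finrank k (wt ρ a b c d) = 1) :
    finrank k ↥(negSpace ρ (dt a b d e) ⊓ LinearMap.ker (ρ (dt d e f g) - 1)) ≤ 1 := by
  set s := dt a b d e with hs
  set t := dt d e f g with ht
  have hst : s * t = dt a b f g := by
    rw [hs, ht]
    apply Subtype.ext
    rw [Subgroup.coe_mul, dt_coe q.ab q.cd, dt_coe q'.ab q'.cd, dt_coe q''.ab q''.cd, mul_assoc,
      ← mul_assoc (swap d e), swap_mul_self, one_mul]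
  have hts : t * s = dt a b f g := by
    rw [← hst]
    have := congrArg (·⁻¹) hst
    simp only [mul_inv_rev] at this
    rw [inv_eq_of_mul_eq_one_right (dt_sq q'), inv_eq_of_mul_eq_one_right (dt_sq q),
      inv_eq_of_mul_eq_one_right (dt_sq q'')] at this
    rw [hst, ← this, ← hs, ← ht]
  have hns : finrank k (negSpace ρ s) = 2 := by rw [hs, finrank_negSpace h2 q, h1 _ _ _ _ q]
  have hnt : finrank k (negSpace ρ t) = 2 := by rw [ht, finrank_negSpace h2 q', h1 _ _ _ _ q']
  have hnst : finrank k (negSpace ρ (s * t)) = 2 := by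
    rw [hst, finrank_negSpace h2 q'', h1 _ _ _ _ q'']
  have hne : negSpace ρ s ⊓ negSpace ρ t ≠ ⊥ := by
    intro hbot
    have e1 := Submodule.finrank_sup_add_finrank_inf_eq (negSpace ρ s) (negSpace ρ t)
    rw [hbot, finrank_bot] at e1
    have hcom : Commute s t := hst.trans hts.symm
    have hle : negSpace ρ s ⊔ negSpace ρ t ≤ negSpace ρ (s * t) := by
      refine sup_le (fun y hy => ?_) (fun y hy => ?_) <;> rw [mem_negSpace] at hy ⊢
      · have hm : y - ρ t y ∈ negSpace ρ s ⊓ negSpace ρ t := by
          refine ⟨mem_negSpace.2 ?_, mem_negSpace.2 ?_⟩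
          · rw [map_sub, apply_comm hcom, hy, map_neg]; abel
          · rw [map_sub, apply_mul t t, dt_sq q', map_one, Module.End.one_apply]; abel
        rw [hbot, Submodule.mem_bot, sub_eq_zero] at hm
        rw [← apply_mul, ← hm, hy]
      · have hm : y - ρ s y ∈ negSpace ρ s ⊓ negSpace ρ t := by
          refine ⟨mem_negSpace.2 ?_, mem_negSpace.2 ?_⟩
          · rw [map_sub, apply_mul s s, dt_sq q, map_one, Module.End.one_apply]; abel
          · rw [map_sub, apply_comm hcom.symm, hy, map_neg]; abel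
        rw [hbot, Submodule.mem_bot, sub_eq_zero] at hm
        rw [hcom.eq, ← apply_mul, ← hm, hy]
    have := Submodule.finrank_mono hle
    omega
  have hpos := Submodule.one_le_finrank_iff.2 hne
  set T := negSpace ρ s ⊓ LinearMap.ker (ρ t - 1) with hT
  have hdisj : T ⊓ (negSpace ρ s ⊓ negSpace ρ t) = ⊥ := by
    rw [Submodule.eq_bot_iff]
    rintro y ⟨⟨-, hy1⟩, -, hy2⟩
    replace hy2 := mem_negSpace.1 hy2
    change y ∈ LinearMap.ker (ρ t - 1) at hy1
    rw [LinearMap.mem_ker, LinearMap.sub_apply, Module.End.one_apply, sub_eq_zero, hy2,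
      neg_eq_iff_add_eq_zero, ← two_smul k, smul_eq_zero, or_iff_right h2] at hy1
    exact hy1
  have e2 := Submodule.finrank_sup_add_finrank_inf_eq T (negSpace ρ s ⊓ negSpace ρ t)
  rw [hdisj, finrank_bot] at e2
  have := Submodule.finrank_mono (sup_le (inf_le_left) inf_le_left :
    T ⊔ (negSpace ρ s ⊓ negSpace ρ t) ≤ negSpace ρ s)
  omega

/-- Odd characteristic: large degree or planes. -/
theorem odd_step (h2 : (2 : k) ≠ 0) (hr : 9 ≤ Fintype.card α) (hn : Nontriv ρ)
    (IH : Below.{u, v, w} k (Fintype.card α)) :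
    Fintype.card α - 1 ≤ finrank k V ∨ Planar ρ := by
  refine or_iff_not_imp_left.2 fun hbig => ?_
  have hfix := (fix_blockSpace_or_big (ρ := ρ) h2 hr IH).resolve_left hbig
  obtain ⟨a₀, b₀, c₀, d₀, q₀, hA₀⟩ := exists_dt_ne_one (by omega) hn
  have hpos := wt_pos_of_dt_ne_one h2 q₀ hA₀
  have heqw : ∀ a b c d : α, Quad a b c d → finrank k (wt ρ a b c d) =
      finrank k (wt ρ a₀ b₀ c₀ d₀) := fun a b c d q => finrank_wt_eq q q₀ (by omega)
  generalize finrank k (wt ρ a₀ b₀ c₀ d₀) = m at hpos heqw
  -- blocks are independent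
  have hm : m = 1 := by
    by_contra hm
    obtain ⟨p, hp⟩ := exists_points (α := α) (by omega)
    set n := Fintype.card α / 4 with hn4
    have hq : ∀ i, i < n → Quad (p (4 * i)) (p (4 * i + 1)) (p (4 * i + 2)) (p (4 * i + 3)) := by
      intro i hi
      refine ⟨?_, ?_, ?_, ?_, ?_, ?_⟩ <;> exact hp _ _ (by omega) (by omega) (by omega)
    have key : ∀ i, i ≤ n → ∃ S : Submodule k V, 3 * m * i ≤ finrank k S ∧
        ∀ y ∈ S, ∀ j, i ≤ j → j < n →
          ρ (dt (p (4 * j)) (p (4 * j + 1)) (p (4 * j + 2)) (p (4 * j + 3))) y = y ∧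
          ρ (dt (p (4 * j)) (p (4 * j + 2)) (p (4 * j + 1)) (p (4 * j + 3))) y = y := by
      intro i
      induction i with
      | zero => exact fun _ => ⟨⊥, by simp, fun y hy j _ _ => by simp [(Submodule.mem_bot k).1 hy]⟩
      | succ i ih =>
        intro hi
        obtain ⟨S, hS, hSf⟩ := ih (by omega)
        set W := blockSpace ρ (p (4 * i)) (p (4 * i + 1)) (p (4 * i + 2)) (p (4 * i + 3)) with hW
        have q := hq i (by omega)
        refine ⟨S ⊔ W, ?_, ?_⟩
        · have hd : S ⊓ W = ⊥ := by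
            rw [Submodule.eq_bot_iff]
            rintro y ⟨hy1, hy2⟩
            obtain ⟨hA, hB⟩ := hSf y hy1 i le_rfl (by omega)
            exact blockSpace_fixed_eq_zero h2 q hy2 hA hB
          have e := Submodule.finrank_sup_add_finrank_inf_eq S W
          rw [hd, finrank_bot, show finrank k W = 3 * m by
            rw [hW, finrank_blockSpace h2 q, heqw _ _ _ _ q]] at e
          rw [mul_add, mul_one]
          omega
        · intro y hy j hj hjn
          obtain ⟨y1, hy1, y2, hy2, rfl⟩ := Submodule.mem_sup.1 hy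
          obtain ⟨hA, hB⟩ := hSf y1 hy1 j (by omega) hjn
          have q' := hq j hjn
          have hav : ∀ e f g : α, e ∈ [p (4 * j), p (4 * j + 1), p (4 * j + 2), p (4 * j + 3)] →
              f ∈ [p (4 * j), p (4 * j + 1), p (4 * j + 2), p (4 * j + 3)] →
              g ∈ [p (4 * j), p (4 * j + 1), p (4 * j + 2), p (4 * j + 3)] → [e, f, g].Nodup →
              ρ (cy e f g) y2 = y2 := by
            intro e f g he hf hg hnd
            refine hfix _ _ _ _ e f g q hnd (fun z hz hz' => ?_) y2 hy2
            have hz'' : z ∈ [p (4 * j), p (4 * j + 1), p (4 * j + 2), p (4 * j + 3)] := by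
              simp only [List.mem_cons, List.not_mem_nil, or_false] at hz'
              rcases hz' with rfl | rfl | rfl <;> assumption
            simp only [List.mem_cons, List.not_mem_nil, or_false] at hz hz''
            rcases hz with rfl | rfl | rfl | rfl <;> rcases hz'' with h | h | h | h <;>
              exact hp _ _ (by omega) (by omega) (by omega) h
          constructor
          · rw [map_add, hA, ← cy_mul_cy q'.ac q'.bc.symm q'.ab q'.ad q'.cd q'.bd, ← apply_mul,
              hav _ _ _ (by simp) (by simp) (by simp) (by simp [q'.ac, q'.ad, q'.cd]),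
              hav _ _ _ (by simp) (by simp) (by simp) (by simp [q'.ac, q'.ab, q'.bc.symm])]
          · rw [map_add, hB, ← cy_mul_cy q'.ab q'.bc q'.ac q'.ad q'.bd q'.cd, ← apply_mul,
              hav _ _ _ (by simp) (by simp) (by simp) (by simp [q'.ab, q'.ad, q'.bd]),
              hav _ _ _ (by simp) (by simp) (by simp) (by simp [q'.ab, q'.ac, q'.bc])]
    obtain ⟨S, hS, -⟩ := key n le_rfl
    have h6 : 6 * n ≤ 3 * m * n := Nat.mul_le_mul_right n (by omega)
    have := Submodule.finrank_le S
    omega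
  subst hm
  have h1 : ∀ a b c d : α, Quad a b c d → finrank k (wt ρ a b c d) = 1 := heqw
  have main : ∀ a b c : α, a ≠ b → b ≠ c → a ≠ c → finrank k (moved ρ a b c) = 2 ∧
      (ρ (cy a b c) - 1) * (ρ (cy a b c) - 1) ≠ 0 ∧
      ∀ d, d ≠ a → d ≠ b → d ≠ c → moved ρ a b c ≤ blockSpace ρ a b c d := by
    intro a b c hab hbc hac
    have hge : ∀ d, d ≠ a → d ≠ b → d ≠ c → ∃ y z : V, y ∈ moved ρ a b c ∧ z ∈ moved ρ a b c ∧
        y ∈ blockSpace ρ a b c d ∧ z ∈ blockSpace ρ a b c d ∧ LinearIndependent k ![y, z] ∧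
        (ρ (cy a b c) - 1) * (ρ (cy a b c) - 1) ≠ 0 := by
      intro d hda hdb hdc
      have q : Quad a b c d := ⟨hab, hac, Ne.symm hda, hbc, Ne.symm hdb, Ne.symm hdc⟩
      have hne : wt ρ a b c d ≠ ⊥ := fun h => by
        have := h1 _ _ _ _ q; rw [h, finrank_bot] at this; omega
      obtain ⟨v₁, hv, hv0⟩ := Submodule.exists_mem_ne_zero_of_ne_bot hne
      set x := cy a b c with hx
      set v₂ := ρ x v₁ with hv₂
      set v₃ := ρ x v₂ with hv₃
      have hv2 : v₂ ∈ wt ρ a d b c := by
        have h := map_wt_le (ρ := ρ) x a b c d (Submodule.mem_map_of_mem hv)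
        rw [cy_apply_fst hab hbc hac, cy_apply_snd hab hbc hac, cy_apply_thd hab hbc hac,
          cy_apply_other hda hdb hdc, mem_wt] at h
        rw [mem_wt, dt_swap_right q.ab q.cd]
        rwa [dt_comm q.ad q.bc q.ab q.ac q.bd.symm q.cd.symm, dt_swap_left q.ab q.cd] at h
      have hv3 : v₃ ∈ wt ρ a c d b := by
        have h := map_wt_le (ρ := ρ) x a d b c (Submodule.mem_map_of_mem hv2)
        rw [cy_apply_fst hab hbc hac, cy_apply_snd hab hbc hac, cy_apply_thd hab hbc hac,
          cy_apply_other hda hdb hdc, mem_wt] at h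
        obtain ⟨hh1, hh2⟩ := h
        rw [mem_wt, dt_swap_right q.ac q.bd, dt_swap_right q.ad q.bc]
        refine ⟨?_, ?_⟩
        · rwa [dt_swap_right q.bd q.ac, dt_comm q.ac q.bd q.ab q.ad q.bc.symm q.cd] at hh1
        · rwa [dt_swap_right q.bc q.ad, dt_comm q.ad q.bc q.ab q.ac q.bd.symm q.cd.symm] at hh2
      have hv20 : v₂ ≠ 0 := fun h => hv0 (rho_injective x (h.trans (map_zero _).symm))
      have hv30 : v₃ ≠ 0 := fun h => hv20 (rho_injective x (h.trans (map_zero _).symm))
      have hind : ∀ r s t : k, r • v₁ + s • v₃ + t • v₂ = 0 → r = 0 ∧ s = 0 ∧ t = 0 := by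
        intro r s t h
        obtain ⟨e1, e2, e3, -⟩ := four_sum_eq_zero (x0 := 0) h2 q (Submodule.smul_mem _ r hv)
          (Submodule.smul_mem _ s hv3) (Submodule.smul_mem _ t hv2) (map_zero _) (map_zero _)
          (by rw [add_zero, h])
        exact ⟨(smul_eq_zero.1 e1).resolve_right hv0, (smul_eq_zero.1 e2).resolve_right hv30,
          (smul_eq_zero.1 e3).resolve_right hv20⟩
      refine ⟨v₂ - v₁, v₃ - v₂, sub_mem_moved v₁, sub_mem_moved v₂,
        Submodule.sub_mem _ (Submodule.mem_sup_right hv2) (Submodule.mem_sup_left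
          (Submodule.mem_sup_left hv)),
        Submodule.sub_mem _ (Submodule.mem_sup_left (Submodule.mem_sup_right hv3))
          (Submodule.mem_sup_right hv2), ?_, ?_⟩
      · rw [LinearIndependent.pair_iff]
        intro s t h
        obtain ⟨e1, e2, -⟩ := hind (-s) t (s - t) (by
          rw [← h, sub_smul, neg_smul, smul_sub, smul_sub]; abel)
        exact ⟨neg_eq_zero.1 e1, e2⟩
      · intro h
        have h' := LinearMap.congr_fun h v₁
        simp only [Module.End.mul_apply, LinearMap.sub_apply, Module.End.one_apply, map_sub,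
          LinearMap.zero_apply, ← hv₂, ← hv₃] at h'
        obtain ⟨e1, -, -⟩ := hind 1 1 (-2) (by rw [← h', neg_smul, two_smul, one_smul, one_smul]; abel)
        exact one_ne_zero e1
    obtain ⟨d, hd⟩ := exists_avoid [a, b, c] (by simp; omega)
    obtain ⟨e, he⟩ := exists_avoid [a, b, c, d] (by simp; omega)
    obtain ⟨f, hf⟩ := exists_avoid [a, b, c, d, e] (by simp; omega)
    obtain ⟨g, hg⟩ := exists_avoid [a, b, c, d, e, f] (by simp; omega)
    simp only [List.mem_cons, List.not_mem_nil, or_false, not_or] at hd he hf hg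
    obtain ⟨hda, hdb, hdc⟩ := hd
    obtain ⟨hea, heb, hec, hed⟩ := he
    obtain ⟨hfa, hfb, hfc, hfd, hfe⟩ := hf
    obtain ⟨hga, hgb, hgc, hgd, hge', hgf⟩ := hg
    set x := cy a b c with hx
    set t := dt d e f g with ht
    have qt : Quad d e f g := ⟨Ne.symm hed, Ne.symm hfd, Ne.symm hgd, Ne.symm hfe, Ne.symm hge',
      Ne.symm hgf⟩
    have q1 : Quad a b d e := ⟨hab, Ne.symm hda, Ne.symm hea, Ne.symm hdb, Ne.symm heb, Ne.symm hed⟩
    have q2 : Quad b c d e := ⟨hbc, Ne.symm hdb, Ne.symm heb, Ne.symm hdc, Ne.symm hec, Ne.symm hed⟩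
    have q1' : Quad a b f g := ⟨hab, Ne.symm hfa, Ne.symm hga, Ne.symm hfb, Ne.symm hgb, Ne.symm hgf⟩
    have q2' : Quad b c f g := ⟨hbc, Ne.symm hfb, Ne.symm hgb, Ne.symm hfc, Ne.symm hgc, Ne.symm hgf⟩
    have hxs : x = dt a b d e * dt b c d e := by
      apply Subtype.ext
      rw [Subgroup.coe_mul, hx, cy_coe hab hbc hac, dt_coe hab q1.cd, dt_coe hbc q1.cd]
      have hc' : swap b c * swap d e = swap d e * swap b c := by
        rw [mul_swap_eq_swap_mul, swap_apply_of_ne_of_ne q2.ac.symm q2.bc.symm,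
          swap_apply_of_ne_of_ne q2.ad.symm q2.bd.symm]
      rw [hc', mul_assoc, ← mul_assoc (swap d e), swap_mul_self, one_mul]
    have hxt : ∀ y ∈ negSpace ρ t, ρ x y = y := fun y hy => by
      refine hfix d e f g a b c qt (by simp [hab, hbc, hac]) (fun z hz hz' => ?_) y
        (negSpace_le_blockSpace h2 qt hy)
      simp only [List.mem_cons, List.not_mem_nil, or_false] at hz hz'
      rcases hz with rfl | rfl | rfl | rfl <;> rcases hz' with h | h | h <;>
        first
          | exact hda h
          | exact hdb h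
          | exact hdc h
          | exact hea h
          | exact heb h
          | exact hec h
          | exact hfa h
          | exact hfb h
          | exact hfc h
          | exact hga h
          | exact hgb h
          | exact hgc h
    have hts : ∀ {a' b' : α}, Quad a' b' d e → Quad a' b' f g → Commute t (dt a' b' d e) := by
      intro a' b' hq hq'
      have h := conj_dt t a' b' d e
      rw [ht, dt_apply_other qt.ab qt.cd ⟨hq.ac, hq.ad, hq'.ac, hq'.ad⟩,
        dt_apply_other qt.ab qt.cd ⟨hq.bc, hq.bd, hq'.bc, hq'.bd⟩,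
        dt_apply qt.ab qt.cd d, swap_apply_of_ne_of_ne qt.ac qt.ad, swap_apply_left,
        dt_apply qt.ab qt.cd e, swap_apply_of_ne_of_ne qt.bc qt.bd, swap_apply_right,
        dt_swap_right hq.ab hq.cd] at h
      exact mul_inv_eq_iff_eq_mul.1 h
    have hT : moved ρ a b c ≤ (negSpace ρ (dt a b d e) ⊓ LinearMap.ker (ρ t - 1)) ⊔
        (negSpace ρ (dt b c d e) ⊓ LinearMap.ker (ρ t - 1)) := by
      rintro _ ⟨y, rfl⟩
      set y' := y + ρ t y with hy'
      have htt : ∀ z : V, ρ t (ρ t z) = z := fun z => by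
        rw [apply_mul, dt_sq qt, map_one, Module.End.one_apply]
      have hy't : ρ t y' = y' := by rw [hy', map_add, htt]; abel
      have hdiff : y - ρ t y ∈ negSpace ρ t := by
        rw [mem_negSpace, map_sub, htt]; abel
      have hxy : (ρ x - 1 : Module.End k V) y = (2 : k)⁻¹ • ((ρ x - 1 : Module.End k V) y') := by
        have e : (ρ x - 1 : Module.End k V) ((y + ρ t y) + (y - ρ t y)) =
            (ρ x - 1 : Module.End k V) y' := by
          rw [map_add, hy', LinearMap.sub_apply (ρ x) 1 (y - ρ t y), hxt _ hdiff,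
            Module.End.one_apply, sub_self, add_zero]
        rw [← e, show (y + ρ t y) + (y - ρ t y) = (2 : k) • y by rw [two_smul]; abel, map_smul,
          smul_smul, inv_mul_cancel₀ h2, one_smul]
      rw [hx] at hxy
      rw [hxy]
      refine Submodule.smul_mem _ _ ?_
      rw [← hx, LinearMap.sub_apply, Module.End.one_apply, hxs, ← apply_mul]
      set z := ρ (dt b c d e) y' with hz
      rw [show ρ (dt a b d e) z - y' = (ρ (dt a b d e) z - z) + (z - y') by abel]
      refine Submodule.add_mem_sup (Submodule.mem_inf.2 ⟨?_, ?_⟩) (Submodule.mem_inf.2 ⟨?_, ?_⟩)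
      · rw [mem_negSpace, map_sub, apply_mul, dt_sq q1, map_one, Module.End.one_apply]; abel
      · rw [LinearMap.mem_ker, LinearMap.sub_apply, Module.End.one_apply, sub_eq_zero, map_sub,
          apply_comm (hts q1 q1'), hz, apply_comm (hts q2 q2'), hy't]
      · rw [mem_negSpace, map_sub, hz, apply_mul, dt_sq q2, map_one, Module.End.one_apply]; abel
      · rw [LinearMap.mem_ker, LinearMap.sub_apply, Module.End.one_apply, sub_eq_zero, map_sub,
          hz, apply_comm (hts q2 q2'), hy't]
    have hle : finrank k (moved ρ a b c) ≤ 2 := by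
      have e0 := Submodule.finrank_mono hT
      have e1 := Submodule.finrank_add_le_finrank_add_finrank
        (negSpace ρ (dt a b d e) ⊓ LinearMap.ker (ρ t - 1))
        (negSpace ρ (dt b c d e) ⊓ LinearMap.ker (ρ t - 1))
      have l1 := exists_common (ρ := ρ) h2 q1 qt q1' h1
      have l2 := exists_common (ρ := ρ) h2 q2 qt q2' h1
      rw [← ht] at l1 l2
      omega
    have hspan : ∀ d', d' ≠ a → d' ≠ b → d' ≠ c → finrank k (moved ρ a b c) = 2 ∧
        moved ρ a b c ≤ blockSpace ρ a b c d' := by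
      intro d' ha hb hc
      obtain ⟨y, z, hy, hz, hyW, hzW, hli, -⟩ := hge d' ha hb hc
      have hsub : Submodule.span k (Set.range ![y, z]) ≤ moved ρ a b c := by
        rw [Submodule.span_le]
        rintro _ ⟨i, rfl⟩
        fin_cases i <;> assumption
      have hfr : finrank k (Submodule.span k (Set.range ![y, z])) = 2 := by
        rw [finrank_span_eq_card hli, Fintype.card_fin]
      have hmono := Submodule.finrank_mono hsub
      refine ⟨by omega, ?_⟩
      rw [← Submodule.eq_of_le_of_finrank_le hsub (by omega), Submodule.span_le]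
      rintro _ ⟨i, rfl⟩
      fin_cases i <;> assumption
    refine ⟨(hspan d hda hdb hdc).1, ?_, fun d' ha hb hc => (hspan d' ha hb hc).2⟩
    obtain ⟨_, _, -, -, -, -, -, hnq⟩ := hge d hda hdb hdc
    exact hnq
  refine ⟨hr, fun a b c h h' h'' => (main a b c h h' h'').1, fun a b c h h' h'' => (main a b c h h' h'').2.1,
    fun a b c e f g hnd y hy => ?_, fun a b c hab hbc hac y hy hfixall => ?_⟩
  · simp only [List.nodup_cons, List.mem_cons, List.not_mem_nil, or_false, not_or,
      List.nodup_nil, and_true] at hnd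
    obtain ⟨⟨hab, hac, hae, haf, hag⟩, ⟨hbc, hbe, hbf, hbg⟩, ⟨hce, hcf, hcg⟩, ⟨hef, heg⟩, hfg, -⟩ := hnd
    obtain ⟨d, hd⟩ := exists_avoid [a, b, c, e, f, g] (by simp; omega)
    simp only [List.mem_cons, List.not_mem_nil, or_false, not_or] at hd
    obtain ⟨hda, hdb, hdc, hde, hdf, hdg⟩ := hd
    refine hfix a b c d e f g ⟨hab, hac, Ne.symm hda, hbc, Ne.symm hdb, Ne.symm hdc⟩
      (by simp [hef, heg, hfg]) (fun z hz => ?_) y ((main a b c hab hbc hac).2.2 d hda hdb hdc hy)
    simp only [List.mem_cons, List.not_mem_nil, or_false] at hz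
    rcases hz with rfl | rfl | rfl | rfl <;>
      simp [hae, haf, hag, hbe, hbf, hbg, hce, hcf, hcg, hde, hdf, hdg]
  · obtain ⟨d, hd⟩ := exists_avoid [a, b, c] (by simp; omega)
    simp only [List.mem_cons, List.not_mem_nil, or_false, not_or] at hd
    exact blockSpace_fixed_eq_zero h2
      ⟨hab, hac, Ne.symm hd.1, hbc, Ne.symm hd.2.1, Ne.symm hd.2.2⟩
      ((main a b c hab hbc hac).2.2 d hd.1 hd.2.1 hd.2.2 hy) (hfixall _) (hfixall _)

end Cfsg.Agent.H85.AltDeg
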