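import Cfsg.Agent.H85.AltDeg.Halve
import Cfsg.Agent.H85.AltDeg.OddPlanar

/-!
Characteristic two: either the degree is large, or the three-cycles move planes.
-/

set_option autoImplicit false
set_option linter.unusedSectionVars false

namespace Cfsg.Agent.H85.AltDeg

open Module Submodule Equiv

universe u v w

variable {α : Type u} [Fintype α] [DecidableEq α] {k : Type w} [Field k]
  {V : Type v} [AddCommGroup V] [Module k V] (ρ : alternatingGroup α →* Module.End k V) (ω : k)

/-- The `ω`-eigenspace of the cycle `(a b c)`. -/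
def ew (a b c : α) : Submodule k V := LinearMap.ker (ρ (cy a b c) - ω • 1)

/-- The fixed space of the cycle `(a b c)`. -/
def fx (a b c : α) : Submodule k V := LinearMap.ker (ρ (cy a b c) - 1)

variable {ρ ω} {a b c : α} {x : V}

theorem mem_ew : x ∈ ew ρ ω a b c ↔ ρ (cy a b c) x = ω • x := by
  rw [ew, LinearMap.mem_ker, LinearMap.sub_apply, LinearMap.smul_apply, Module.End.one_apply, sub_eq_zero]

theorem mem_fx : x ∈ fx ρ a b c ↔ ρ (cy a b c) x = x := by
  rw [fx, LinearMap.mem_ker, LinearMap.sub_apply, Module.End.one_apply, sub_eq_zero]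

theorem map_ew_mem (g : alternatingGroup α) (hx : x ∈ ew ρ ω a b c) :
    ρ g x ∈ ew ρ ω ((g : Perm α) a) ((g : Perm α) b) ((g : Perm α) c) := by
  rw [mem_ew, ← conj_cy, apply_mul, inv_mul_cancel_right, ← apply_mul, mem_ew.1 hx, map_smul]

theorem map_fx_mem (g : alternatingGroup α) (hx : x ∈ fx ρ a b c) :
    ρ g x ∈ fx ρ ((g : Perm α) a) ((g : Perm α) b) ((g : Perm α) c) := by
  rw [mem_fx, ← conj_cy, apply_mul, inv_mul_cancel_right, ← apply_mul, mem_fx.1 hx]

theorem fx_rev (hab : a ≠ b) (hbc : b ≠ c) (hac : a ≠ c) : fx ρ a c b = fx ρ a b c := by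
  ext y
  rw [mem_fx, mem_fx, ← cy_rotate hac hbc.symm hab, ← cy_inv hab hbc hac]
  constructor <;> intro h
  · conv_lhs => rw [← h]
    rw [apply_mul, mul_inv_cancel, map_one, Module.End.one_apply]
  · conv_lhs => rw [← h]
    rw [apply_mul, inv_mul_cancel, map_one, Module.End.one_apply]

theorem cy_cubed (a b c : α) (x : V) :
    ρ (cy a b c) (ρ (cy a b c) (ρ (cy a b c) x)) = x := by
  rw [apply_mul, apply_mul, show cy a b c * cy a b c * cy a b c = 1 by rw [← pow_three', cy_pow_three],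
    map_one, Module.End.one_apply]

theorem omega_facts (h2 : (2 : k) = 0) (hω : ω * ω + ω + 1 = 0) :
    ω * ω * ω = 1 ∧ ω ≠ 1 ∧ ω ≠ 0 ∧ ω * ω ≠ 1 ∧ ω * ω ≠ ω := by
  have h1 : ω * ω * ω = 1 := by linear_combination (ω - 1) * hω
  have hne : ω ≠ 1 := fun h => one_ne_zero (α := k) (by rw [h] at hω; linear_combination hω - h2)
  have h0 : ω ≠ 0 := fun h => one_ne_zero (α := k) (by rw [h] at hω; linear_combination hω)
  refine ⟨h1, hne, h0, fun h => hne ?_, fun h => hne (mul_left_cancel₀ h0 (h.trans (mul_one ω).symm))⟩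
  rw [h, one_mul] at h1
  exact h1

/-- The two non-trivial eigenspaces and the fixed space are independent. -/
theorem three_sum_eq_zero (h2 : (2 : k) = 0) (hω : ω * ω + ω + 1 = 0) (hab : a ≠ b) (hbc : b ≠ c)
    (hac : a ≠ c) {x1 x2 x0 : V} (h1 : x1 ∈ ew ρ ω a b c) (h1' : x2 ∈ ew ρ ω a c b)
    (h0 : x0 ∈ fx ρ a b c) (hsum : x1 + x2 + x0 = 0) : x1 = 0 ∧ x2 = 0 ∧ x0 = 0 := by
  obtain ⟨w3, w1, w0, -, w21⟩ := omega_facts h2 hω
  rw [mem_ew] at h1 h1'
  rw [mem_fx] at h0
  rw [← cy_rotate hac hbc.symm hab, ← cy_inv hab hbc hac] at h1'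
  have h1'' : ρ (cy a b c) x2 = (ω * ω) • x2 := by
    have h := congrArg (fun z => (ω * ω) • ρ (cy a b c) z) h1'
    simp only [apply_mul, mul_inv_cancel, map_one, Module.End.one_apply, map_smul, smul_smul,
      w3, one_smul] at h
    exact h.symm
  have e := congrArg (ρ (cy a b c)) hsum
  simp only [map_add, map_zero, h1, h1'', h0] at e
  have e2 := congrArg (ρ (cy a b c)) e
  simp only [map_add, map_smul, map_zero, h1, h1'', h0, smul_smul] at e2
  have hw4 : ω * ω * (ω * ω) = ω := by linear_combination ω * w3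
  rw [hw4] at e2
  have hz2 : ∀ z : V, (2 : k) • z = 0 := fun z => by rw [h2, zero_smul]
  have f0 : x0 = 0 := by
    linear_combination (norm := match_scalars) hsum + e + e2 - hz2 x0
    all_goals first | ring1 | linear_combination -hω
  subst f0
  rw [add_zero] at hsum e
  have hx2 : x2 = -x1 := eq_neg_of_add_eq_zero_right hsum
  subst hx2
  rw [smul_neg, ← sub_eq_add_neg, ← sub_smul, smul_eq_zero] at e
  rcases e with e | e
  · exact absurd (sub_eq_zero.1 e).symm w21
  · exact ⟨e, by rw [e, neg_zero], rfl⟩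

theorem moved_eq (h2 : (2 : k) = 0) (hω : ω * ω + ω + 1 = 0) (hab : a ≠ b) (hbc : b ≠ c)
    (hac : a ≠ c) : moved ρ a b c = ew ρ ω a b c ⊔ ew ρ ω a c b := by
  obtain ⟨w3, w1, w0, -, w21⟩ := omega_facts h2 hω
  refine le_antisymm (fun y hy => ?_) (sup_le (fun y hy => ?_) (fun y hy => ?_))
  · have hs := sum_eq_zero hy
    set p := ρ (cy a b c) y with hp
    have hpp : ρ (cy a b c) p = -y - p := by linear_combination (norm := module) hs
    have m1 : p - (ω * ω) • y ∈ ew ρ ω a b c := by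
      rw [mem_ew, map_sub, map_smul, hpp, ← hp]
      match_scalars
      · linear_combination w3
      · linear_combination -hω
    have m2 : p - ω • y ∈ ew ρ ω a c b := by
      rw [mem_ew, ← cy_rotate hac hbc.symm hab, ← cy_inv hab hbc hac, map_sub, map_smul, hp,
        apply_mul, inv_mul_cancel, map_one, Module.End.one_apply]
      have hinv : ρ (cy a b c)⁻¹ y = -y - p := by
        rw [← hpp]
        conv_lhs => rw [← cy_cubed (ρ := ρ) a b c y]
        rw [apply_mul, inv_mul_cancel, map_one, Module.End.one_apply]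
      rw [hinv, ← hp]
      match_scalars
      · linear_combination hω
      · linear_combination (0 : k) * hω
    have hy' : y = (ω - ω * ω)⁻¹ • ((p - (ω * ω) • y) - (p - ω • y)) := by
      rw [show (p - (ω * ω) • y) - (p - ω • y) = (ω - ω * ω) • y by module, smul_smul,
        inv_mul_cancel₀ (sub_ne_zero.2 (Ne.symm w21)), one_smul]
    rw [hy']
    exact Submodule.smul_mem _ _ (Submodule.sub_mem _ (Submodule.mem_sup_left m1)
      (Submodule.mem_sup_right m2))
  · rw [mem_ew] at hy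
    have h := Submodule.smul_mem _ (ω - 1)⁻¹ (sub_mem_moved (ρ := ρ) (a := a) (b := b) (c := c) y)
    rwa [hy, show ω • y - y = (ω - 1) • y by module, smul_smul, inv_mul_cancel₀ (sub_ne_zero.2 w1),
      one_smul] at h
  · rw [mem_ew, ← cy_rotate hac hbc.symm hab, ← cy_inv hab hbc hac] at hy
    have h := Submodule.smul_mem _ (1 - ω)⁻¹
      (sub_mem_moved (ρ := ρ) (a := a) (b := b) (c := c) (ρ (cy a b c)⁻¹ y))
    rwa [apply_mul, mul_inv_cancel, map_one, Module.End.one_apply, hy,
      show y - ω • y = (1 - ω) • y by module, smul_smul, inv_mul_cancel₀ (sub_ne_zero.2 (Ne.symm w1)),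
      one_smul] at h

theorem moved_inf_fx (h2 : (2 : k) = 0) (hx : x ∈ moved ρ a b c) (hf : x ∈ fx ρ a b c) : x = 0 := by
  have hs := sum_eq_zero hx
  rw [mem_fx.1 hf, mem_fx.1 hf] at hs
  have h3 : (2 : k) • x + x = 0 := by rw [two_smul]; exact hs
  rwa [h2, zero_smul, zero_add] at h3

variable [FiniteDimensional k V]

theorem finrank_ew_eq (h5 : 5 ≤ Fintype.card α) (hab : a ≠ b) (hbc : b ≠ c) (hac : a ≠ c)
    {a' b' c' : α} (hab' : a' ≠ b') (hbc' : b' ≠ c') (hac' : a' ≠ c') :
    finrank k (ew ρ ω a b c) = finrank k (ew ρ ω a' b' c') := by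
  have hle : ∀ (a b c a' b' c' : α), a ≠ b → b ≠ c → a ≠ c → a' ≠ b' → b' ≠ c' → a' ≠ c' →
      finrank k (ew ρ ω a b c) ≤ finrank k (ew ρ ω a' b' c') := by
    intro a b c a' b' c' h1 h2 h3 h1' h2' h3'
    obtain ⟨g, hg⟩ := exists_move (j := 3) (by omega) ![a, b, c] ![a', b', c']
      (List.nodup_ofFn.1 (by simp [List.ofFn_succ, h1, h2, h3]))
      (List.nodup_ofFn.1 (by simp [List.ofFn_succ, h1', h2', h3']))
    refine le_trans (le_of_eq (Submodule.equivMapOfInjective (ρ g) (rho_injective g) (ew ρ ω a b c)).finrank_eq)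
      (Submodule.finrank_mono ?_)
    rintro _ ⟨y, hy, rfl⟩
    have h := map_ew_mem g hy
    rwa [show (g : Perm α) a = a' from hg 0, show (g : Perm α) b = b' from hg 1,
      show (g : Perm α) c = c' from hg 2] at h
  exact le_antisymm (hle _ _ _ _ _ _ hab hbc hac hab' hbc' hac')
    (hle _ _ _ _ _ _ hab' hbc' hac' hab hbc hac)

theorem finrank_moved (h2 : (2 : k) = 0) (hω : ω * ω + ω + 1 = 0) (h5 : 5 ≤ Fintype.card α)
    (hab : a ≠ b) (hbc : b ≠ c) (hac : a ≠ c) :
    finrank k (moved ρ a b c) = 2 * finrank k (ew ρ ω a b c) := by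
  have e := Submodule.finrank_sup_add_finrank_inf_eq (ew ρ ω a b c) (ew ρ ω a c b)
  have hbot : ew ρ ω a b c ⊓ ew ρ ω a c b = ⊥ := by
    rw [Submodule.eq_bot_iff]
    rintro y ⟨h, h'⟩
    exact (three_sum_eq_zero (x1 := y) (x2 := -y) (x0 := 0) h2 hω hab hbc hac h
      (Submodule.neg_mem _ h') (Submodule.zero_mem _) (by simp)).1
  rw [hbot, finrank_bot, ← moved_eq h2 hω hab hbc hac,
    finrank_ew_eq h5 hac hbc.symm hab hab hbc hac] at e
  omega

theorem finrank_moved_add (a b c : α) :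
    finrank k (moved ρ a b c) + finrank k (fx ρ a b c) = finrank k V :=
  LinearMap.finrank_range_add_finrank_ker (ρ (cy a b c) - 1 : Module.End k V)

/-- In characteristic two a non-trivial module has dimension at least four, from six points on. -/
theorem four_le_of_nontriv (h2 : (2 : k) = 0) (hω : ω * ω + ω + 1 = 0) (h6 : 6 ≤ Fintype.card α)
    (hn : Nontriv ρ) : 4 ≤ finrank k V := by
  obtain ⟨p, hp⟩ := exists_points (α := α) (by omega)
  obtain ⟨a, b, c, d, e, f, hab, hac, had, hae, haf, hbc, hbd, hbe, hbf, hcd, hce, hcf, hde, hdf, hef⟩ :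
      ∃ a b c d e f : α, a ≠ b ∧ a ≠ c ∧ a ≠ d ∧ a ≠ e ∧ a ≠ f ∧ b ≠ c ∧ b ≠ d ∧ b ≠ e ∧ b ≠ f ∧
        c ≠ d ∧ c ≠ e ∧ c ≠ f ∧ d ≠ e ∧ d ≠ f ∧ e ≠ f :=
    ⟨p 0, p 1, p 2, p 3, p 4, p 5, by
      refine ⟨?_, ?_, ?_, ?_, ?_, ?_, ?_, ?_, ?_, ?_, ?_, ?_, ?_, ?_, ?_⟩ <;>
        exact hp _ _ (by omega) (by omega) (by omega)⟩
  set g : alternatingGroup α := dt a d b e * cy e c f with hg
  have hgv : ∀ y : α, (g : Perm α) y =
      ((dt a d b e : alternatingGroup α) : Perm α) (((cy e c f : alternatingGroup α) : Perm α) y) :=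
    fun y => rfl
  have ga : (g : Perm α) a = d := by
    rw [hgv, cy_apply_other hae hac haf, dt_apply had hbe, swap_apply_of_ne_of_ne hab hae,
      swap_apply_left]
  have gb : (g : Perm α) b = e := by
    rw [hgv, cy_apply_other hbe hbc hbf, dt_apply had hbe, swap_apply_left,
      swap_apply_of_ne_of_ne hae.symm hde.symm]
  have gc : (g : Perm α) c = f := by
    rw [hgv, cy_apply_snd hce.symm hcf hef, dt_apply_other had hbe ⟨haf.symm, hdf.symm, hbf.symm, hef.symm⟩]
  have gd : (g : Perm α) d = a := by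
    rw [hgv, cy_apply_other hde hcd.symm hdf, dt_apply had hbe, swap_apply_of_ne_of_ne hbd.symm hde,
      swap_apply_right]
  have ge : (g : Perm α) e = c := by
    rw [hgv, cy_apply_fst hce.symm hcf hef, dt_apply_other had hbe ⟨hac.symm, hcd, hbc.symm, hce⟩]
  have gf : (g : Perm α) f = b := by
    rw [hgv, cy_apply_thd hce.symm hcf hef, dt_apply had hbe, swap_apply_right,
      swap_apply_of_ne_of_ne hab.symm hbd]
  have hXZ : Commute (cy d e f) (cy a b c) :=
    commute_cy_cy ⟨had, hae, haf⟩ ⟨hbd, hbe, hbf⟩ ⟨hcd, hce, hcf⟩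
  have hne : ∀ y : V, y ≠ 0 → ρ g y ≠ 0 := fun y hy h =>
    hy (rho_injective g (h.trans (map_zero _).symm))
  obtain ⟨v, hv, hv0, hcase⟩ : ∃ v : V, v ∈ ew ρ ω a b c ∧ v ≠ 0 ∧
      (v ∈ fx ρ d e f ∨ v ∈ ew ρ ω d e f) := by
    have hne' : ew ρ ω a b c ≠ ⊥ := by
      intro h
      have hm := finrank_moved (ρ := ρ) h2 hω (by omega) hab hbc hac
      rw [h, finrank_bot, mul_zero] at hm
      refine cy_ne_one_of_nontriv hn (by omega) hab hbc hac (LinearMap.ext fun y => ?_)
      have hy := sub_mem_moved (ρ := ρ) (a := a) (b := b) (c := c) y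
      rw [Submodule.finrank_eq_zero.1 hm, Submodule.mem_bot, sub_eq_zero] at hy
      exact hy
    obtain ⟨v, hv, hv0⟩ := Submodule.exists_mem_ne_zero_of_ne_bot hne'
    by_cases hz : ρ (cy d e f) v = v
    · exact ⟨v, hv, hv0, Or.inl (mem_fx.2 hz)⟩
    set u := ρ (cy d e f) v - v with hu
    have hu0 : u ≠ 0 := sub_ne_zero.2 hz
    have hstab : ∀ y ∈ ew ρ ω a b c, ρ (cy d e f) y ∈ ew ρ ω a b c := fun y hy => by
      rw [mem_ew, apply_comm hXZ.symm, mem_ew.1 hy, map_smul]
    have hux : u ∈ ew ρ ω a b c := Submodule.sub_mem _ (hstab v hv) hv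
    have hum : u ∈ moved ρ d e f := sub_mem_moved v
    rw [moved_eq h2 hω hde hef hdf, Submodule.mem_sup] at hum
    obtain ⟨u1, hu1, u2, hu2, hu12⟩ := hum
    have key : ∀ (X : Submodule k V), u ∈ X → (∀ y ∈ X, ρ (cy d e f) y ∈ X) → u1 ∈ X ∧ u2 ∈ X := by
      intro X huX hX
      have e1 : ρ (cy d e f) u1 = ω • u1 := mem_ew.1 hu1
      have e2 : ρ (cy d e f) u2 = (ω * ω) • u2 := by
        rw [mem_ew, ← cy_rotate hdf hef.symm hde, ← cy_inv hde hef hdf] at hu2
        have h := congrArg (fun z => (ω * ω) • ρ (cy d e f) z) hu2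
        simp only [apply_mul, mul_inv_cancel, map_one, Module.End.one_apply, map_smul, smul_smul,
          (omega_facts h2 hω).1, one_smul] at h
        exact h.symm
      have hzu := hX u huX
      rw [← hu12, map_add, e1, e2] at hzu
      rw [← hu12] at huX
      have h21 := sub_ne_zero.2 (omega_facts h2 hω).2.2.2.2
      have hm2 : (ω * ω - ω) • u2 ∈ X := by
        have := X.sub_mem hzu (X.smul_mem ω huX)
        convert this using 1
        module
      have hu2' : u2 ∈ X := by
        simpa [smul_smul, inv_mul_cancel₀ h21] using X.smul_mem (ω * ω - ω)⁻¹ hm2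
      exact ⟨by simpa using X.sub_mem huX hu2', hu2'⟩
    obtain ⟨hu1x, hu2x⟩ := key _ hux hstab
    by_cases h10 : u1 = 0
    · have h20 : u2 ≠ 0 := fun h => hu0 (by rw [← hu12, h10, h, add_zero])
      refine ⟨ρ g u2, ?_, hne _ h20, Or.inr ?_⟩
      · have h := map_ew_mem g hu2
        rwa [gd, gf, ge] at h
      · have h := map_ew_mem g hu2x
        rwa [ga, gb, gc] at h
    · exact ⟨u1, hu1x, h10, Or.inr hu1⟩
  set v1 := ρ g v with hv1
  set v2 := ρ g v1 with hv2
  set v3 := ρ g v2 with hv3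
  have hv10 : v1 ≠ 0 := hne _ hv0
  have hv20 : v2 ≠ 0 := hne _ hv10
  have hv30 : v3 ≠ 0 := hne _ hv20
  suffices hli : LinearIndependent k ![v, v1, v2, v3] by
    simpa using hli.fintype_card_le_finrank
  rw [Fintype.linearIndependent_iff]
  intro t ht
  rw [Fin.sum_univ_four] at ht
  change t 0 • v + t 1 • v1 + t 2 • v2 + t 3 • v3 = 0 at ht
  have fin : ∀ {y : V} {s : k}, y ≠ 0 → s • y = 0 → s = 0 := fun hy h =>
    (smul_eq_zero.1 h).resolve_right hy
  suffices h : t 0 = 0 ∧ t 1 = 0 ∧ t 2 = 0 ∧ t 3 = 0 by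
    intro i
    fin_cases i
    exacts [h.1, h.2.1, h.2.2.1, h.2.2.2]
  rcases hcase with hf | hw
  · have m1 : v1 ∈ ew ρ ω d e f ∧ v1 ∈ fx ρ a b c := by
      refine ⟨?_, ?_⟩
      · have h := map_ew_mem g hv; rwa [ga, gb, gc] at h
      · have h := map_fx_mem g hf; rw [gd, ge, gf, fx_rev hab hbc hac] at h; exact h
    have m2 : v2 ∈ ew ρ ω a c b ∧ v2 ∈ fx ρ d e f := by
      refine ⟨?_, ?_⟩
      · have h := map_ew_mem g m1.1; rwa [gd, ge, gf] at h
      · have h := map_fx_mem g m1.2; rwa [ga, gb, gc] at h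
    have m3 : v3 ∈ ew ρ ω d f e ∧ v3 ∈ fx ρ a b c := by
      refine ⟨?_, ?_⟩
      · have h := map_ew_mem g m2.1; rwa [ga, gc, gb] at h
      · have h := map_fx_mem g m2.2; rw [gd, ge, gf, fx_rev hab hbc hac] at h; exact h
    obtain ⟨e0, e2, e13⟩ := three_sum_eq_zero (x1 := t 0 • v) (x2 := t 2 • v2)
      (x0 := t 1 • v1 + t 3 • v3) h2 hω hab hbc hac (Submodule.smul_mem _ _ hv)
      (Submodule.smul_mem _ _ m2.1)
      (Submodule.add_mem _ (Submodule.smul_mem _ _ m1.2) (Submodule.smul_mem _ _ m3.2))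
      (by rw [← ht]; abel)
    obtain ⟨e1, e3, -⟩ := three_sum_eq_zero (x1 := t 1 • v1) (x2 := t 3 • v3) (x0 := 0) h2 hω hde hef
      hdf (Submodule.smul_mem _ _ m1.1) (Submodule.smul_mem _ _ m3.1) (Submodule.zero_mem _)
      (by rw [add_zero, e13])
    exact ⟨fin hv0 e0, fin hv10 e1, fin hv20 e2, fin hv30 e3⟩
  · have m1 : v1 ∈ ew ρ ω a c b ∧ v1 ∈ ew ρ ω d e f := by
      refine ⟨?_, ?_⟩
      · have h := map_ew_mem g hw; rwa [gd, ge, gf] at h
      · have h := map_ew_mem g hv; rwa [ga, gb, gc] at h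
    have m2 : v2 ∈ ew ρ ω a c b ∧ v2 ∈ ew ρ ω d f e := by
      refine ⟨?_, ?_⟩
      · have h := map_ew_mem g m1.2; rwa [gd, ge, gf] at h
      · have h := map_ew_mem g m1.1; rwa [ga, gc, gb] at h
    have m3 : v3 ∈ ew ρ ω a b c ∧ v3 ∈ ew ρ ω d f e := by
      refine ⟨?_, ?_⟩
      · have h := map_ew_mem g m2.2; rwa [gd, gf, ge] at h
      · have h := map_ew_mem g m2.1; rwa [ga, gc, gb] at h
    obtain ⟨e03, e12, -⟩ := three_sum_eq_zero (x1 := t 0 • v + t 3 • v3)
      (x2 := t 1 • v1 + t 2 • v2) (x0 := 0) h2 hω hab hbc hac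
      (Submodule.add_mem _ (Submodule.smul_mem _ _ hv) (Submodule.smul_mem _ _ m3.1))
      (Submodule.add_mem _ (Submodule.smul_mem _ _ m1.1) (Submodule.smul_mem _ _ m2.1))
      (Submodule.zero_mem _) (by rw [add_zero]; linear_combination (norm := module) ht)
    obtain ⟨e0, e3, -⟩ := three_sum_eq_zero (x1 := t 0 • v) (x2 := t 3 • v3) (x0 := 0) h2 hω hde hef
      hdf (Submodule.smul_mem _ _ hw) (Submodule.smul_mem _ _ m3.2) (Submodule.zero_mem _)
      (by rw [add_zero, e03])
    obtain ⟨e1, e2, -⟩ := three_sum_eq_zero (x1 := t 1 • v1) (x2 := t 2 • v2) (x0 := 0) h2 hω hde hef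
      hdf (Submodule.smul_mem _ _ m1.2) (Submodule.smul_mem _ _ m2.2) (Submodule.zero_mem _)
      (by rw [add_zero, e12])
    exact ⟨fin hv0 e0, fin hv10 e1, fin hv20 e2, fin hv30 e3⟩

/-- If all the cycles have the same fixed space, the degree is exponential. -/
theorem big_of_common_fx [IsAlgClosed k] (h2 : (2 : k) = 0) (hr : 11 ≤ Fintype.card α) (hn : Nontriv ρ)
    {K : Submodule k V} (hK : ∀ a b c : α, a ≠ b → b ≠ c → a ≠ c → fx ρ a b c = K) :
    16 ≤ finrank k V := by
  obtain ⟨p, hp⟩ := exists_points (α := α) (by omega)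
  have hinv : ∀ g : alternatingGroup α, K ≤ K.comap (ρ g) := by
    intro g y hy
    have h01 : p 0 ≠ p 1 := hp _ _ (by omega) (by omega) (by omega)
    have h12 : p 1 ≠ p 2 := hp _ _ (by omega) (by omega) (by omega)
    have h02 : p 0 ≠ p 2 := hp _ _ (by omega) (by omega) (by omega)
    have h : y ∈ fx ρ (p 0) (p 1) (p 2) := by rw [hK _ _ _ h01 h12 h02]; exact hy
    have h' := map_fx_mem g h
    rw [hK _ _ _ ((g : Perm α).injective.ne h01) ((g : Perm α).injective.ne h12)
      ((g : Perm α).injective.ne h02)] at h'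
    exact h'
  have : Nontrivial (V ⧸ K) := by
    rw [Submodule.Quotient.nontrivial_iff]
    intro hKt
    obtain ⟨a, b, c, hab, hbc, hac, hne⟩ := hn
    refine hne (LinearMap.ext fun y => ?_)
    have : y ∈ fx ρ a b c := by rw [hK a b c hab hbc hac, hKt]; trivial
    exact mem_fx.1 this
  set Q : alternatingGroup α → Module.End k (V ⧸ K) := fun g => K.mapQ K (ρ g) (hinv g) with hQ
  have hQmk : ∀ g y, Q g (Submodule.Quotient.mk y) = Submodule.Quotient.mk (ρ g y) := fun g y =>
    Submodule.mapQ_apply _ _ _ _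
  have hQmul : ∀ g h, Q g * Q h = Q (g * h) := by
    intro g h
    refine Submodule.linearMap_qext _ (LinearMap.ext fun y => ?_)
    simp only [LinearMap.comp_apply, Submodule.mkQ_apply, Module.End.mul_apply, hQmk, apply_mul]
  have hQ1 : Q 1 = 1 := by
    refine Submodule.linearMap_qext _ (LinearMap.ext fun y => ?_)
    simp only [LinearMap.comp_apply, Submodule.mkQ_apply, hQmk, map_one, Module.End.one_apply]
  set X : Fin 9 → Module.End k (V ⧸ K) := fun i => Q (cy (p 0) (p 1) (p (i.val + 2))) with hX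
  have hd : ∀ i : Fin 9, p 0 ≠ p 1 ∧ p 1 ≠ p (i.val + 2) ∧ p 0 ≠ p (i.val + 2) := fun i => by
    have := i.isLt
    exact ⟨hp _ _ (by omega) (by omega) (by omega), hp _ _ (by omega) (by omega) (by omega),
      hp _ _ (by omega) (by omega) (by omega)⟩
  have hquad : ∀ i, X i * X i + X i + 1 = 0 := by
    intro i
    obtain ⟨hab, hbc, hac⟩ := hd i
    set x := cy (p 0) (p 1) (p (i.val + 2)) with hx
    refine Submodule.linearMap_qext _ (LinearMap.ext fun y => ?_)
    simp only [hX, LinearMap.comp_apply, Submodule.mkQ_apply, LinearMap.add_apply, LinearMap.zero_apply,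
      Module.End.mul_apply, Module.End.one_apply, hQmk, ← hx, ← Submodule.Quotient.mk_add,
      Submodule.Quotient.mk_eq_zero]
    rw [← hK _ _ _ hab hbc hac, mem_fx, map_add, map_add, ← hx, hx, cy_cubed]
    abel
  have hcomm : ∀ i j, i ≠ j → X i * X j + X j * X i = 1 + X i + X j := by
    intro i j hij
    obtain ⟨hab, hbc, hac⟩ := hd i
    obtain ⟨-, hbd, had⟩ := hd j
    have hcd : p (i.val + 2) ≠ p (j.val + 2) := by
      have := i.isLt; have := j.isLt
      exact hp _ _ (by omega) (by omega) (fun h => hij (Fin.ext (by omega)))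
    have hinv' : X i * X j * (X i * X j) = 1 := by
      simp only [hX, hQmul]
      rw [cy_mul_cy hab hbc hac had hbd hcd, dt_mul_self hac hbd hab had hbc.symm hcd, hQ1]
    have h3 : ∀ l, X l * X l * X l = 1 := fun l => by
      simp only [hX, hQmul]
      rw [← pow_three', cy_pow_three, hQ1]
    have hswap : X i * X j = (X j * X j) * (X i * X i) := by
      calc X i * X j = X i * X j * (X i * X i * X i) := by rw [h3, mul_one]
        _ = X i * X j * (X i * (X j * X j * X j) * (X i * X i)) := by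
            rw [h3 j, mul_one, ← mul_assoc (X i) (X i) (X i)]
        _ = X i * X j * (X i * X j) * ((X j * X j) * (X i * X i)) := by simp only [mul_assoc]
        _ = _ := by rw [hinv', one_mul]
    have hz : ∀ z : Module.End k (V ⧸ K), (2 : k) • z = 0 := fun z => by rw [h2, zero_smul]
    have hsq : ∀ l, X l * X l = X l + 1 := fun l => by
      linear_combination (norm := module) hquad l - hz (X l + 1)
    rw [hsq, hsq, add_mul, mul_add, mul_add, one_mul, one_mul, mul_one] at hswap
    linear_combination (norm := module) hswap + hz (X j * X i)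
  set D : Fin 8 → Module.End k (V ⧸ K) := fun i => X i.succ + X 0 with hD
  have hz : ∀ z : Module.End k (V ⧸ K), (2 : k) • z = 0 := fun z => by rw [h2, zero_smul]
  have hsqD : ∀ i, D i * D i = (1 : k) • 1 := by
    intro i
    have h := hcomm i.succ 0 (Fin.succ_ne_zero i)
    simp only [hD, add_mul, mul_add]
    linear_combination (norm := module) hquad i.succ + hquad 0 + h - hz 1
  have hacD : ∀ i j, i ≠ j → D i * D j + D j * D i = 1 := by
    intro i j hij
    have h := hcomm i.succ j.succ (fun h => hij (Fin.succ_injective _ h))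
    have hi := hcomm i.succ 0 (Fin.succ_ne_zero i)
    have hj := hcomm j.succ 0 (Fin.succ_ne_zero j)
    simp only [hD, add_mul, mul_add]
    linear_combination (norm := module) h + hi + hj +
      hz (1 + X i.succ + X j.succ + X 0 + X 0 * X 0)
  have h16 := two_pow_le_of_anticommutator_one h2 4 8 le_rfl D 1 hsqD hacD
  exact le_trans h16 (Submodule.finrank_quotient_le K)

/-- If the alternating group on the remaining points moves an eigenspace, the degree is large. -/
theorem even_big [IsAlgClosed k] (h2 : (2 : k) = 0) (hω : ω * ω + ω + 1 = 0)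
    (hr : 9 ≤ Fintype.card α) (hn : Nontriv ρ) (IH : Below.{u, v, w} k (Fintype.card α))
    (hab : a ≠ b) (hbc : b ≠ c) (hac : a ≠ c)
    {h : ∀ g : alternatingGroup {x // x ∉ ({a, b, c} : Finset α)}, ∀ y ∈ ew ρ ω a b c,
      ρ (incl _ g) y ∈ ew ρ ω a b c}
    (hnt : Nontriv (restr ρ _ (ew ρ ω a b c) h)) : Bound k V (Fintype.card α) := by
  have hcard : ∀ a b c : α, a ≠ b → b ≠ c → a ≠ c →
      Fintype.card {x // x ∉ ({a, b, c} : Finset α)} = Fintype.card α - 3 := by
    intro a b c hab hbc hac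
    rw [card_avoid, Finset.card_insert_of_notMem (by simp [hab, hac]),
      Finset.card_insert_of_notMem (by simp [hbc]), Finset.card_singleton]
  have hA := hcard a b c hab hbc hac
  have d4 := four_le_of_nontriv h2 hω (by omega) hnt
  have hm := finrank_moved (ρ := ρ) h2 hω (by omega) hab hbc hac
  have hadd := finrank_moved_add (ρ := ρ) a b c
  by_cases h12 : 12 ≤ Fintype.card α
  · have := IH _ _ (restr ρ _ (ew ρ ω a b c) h) (by omega) (by omega) hnt
    exact bound_of_le (by omega)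
  by_cases h11 : Fintype.card α = 11
  swap
  · by_cases h9 : Fintype.card α = 9
    · exact bound_of_le (by omega)
    · refine ⟨by omega, fun hne => absurd ?_ hne⟩
      rw [show Fintype.card α = 2 * 5 by omega, Nat.cast_mul, Nat.cast_ofNat, h2, zero_mul]
  refine bound_of_le ?_
  by_cases hC : ∀ a b c e f g : α, [a, b, c, e, f, g].Nodup →
      ∀ y ∈ fx ρ a b c, ρ (cy e f g) y = y
  · have heq : ∀ a b c e f g : α, [a, b, c, e, f, g].Nodup → fx ρ a b c = fx ρ e f g := by
      intro a b c e f g hnd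
      refine le_antisymm (fun y hy => mem_fx.2 (hC a b c e f g hnd y hy))
        (fun y hy => mem_fx.2 (hC e f g a b c ?_ y hy))
      exact (List.perm_append_comm (l₁ := [e, f, g]) (l₂ := [a, b, c])).nodup_iff.2 hnd
    have hK : ∀ x y z : α, x ≠ y → y ≠ z → x ≠ z → fx ρ x y z = fx ρ a b c := by
      intro x y z hxy hyz hxz
      obtain ⟨e, he⟩ := exists_avoid [a, b, c, x, y, z] (by simp; omega)
      obtain ⟨f, hf⟩ := exists_avoid [a, b, c, x, y, z, e] (by simp; omega)
      obtain ⟨g, hg⟩ := exists_avoid [a, b, c, x, y, z, e, f] (by simp; omega)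
      simp only [List.mem_cons, List.not_mem_nil, or_false, not_or] at he hf hg
      obtain ⟨ea, eb, ec, ex, ey, ez⟩ := he
      obtain ⟨fa, fb, fc, fx', fy, fz, fe⟩ := hf
      obtain ⟨ga, gb, gc, gx, gy, gz, ge, gf⟩ := hg
      rw [heq x y z e f g (by simp [hxy, hyz, hxz, Ne.symm ex, Ne.symm ey, Ne.symm ez, Ne.symm fx',
          Ne.symm fy, Ne.symm fz, Ne.symm fe, Ne.symm gx, Ne.symm gy, Ne.symm gz, Ne.symm ge, Ne.symm gf]),
        heq a b c e f g (by simp [hab, hbc, hac, Ne.symm ea, Ne.symm eb, Ne.symm ec, Ne.symm fa,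
          Ne.symm fb, Ne.symm fc, Ne.symm fe, Ne.symm ga, Ne.symm gb, Ne.symm gc, Ne.symm ge, Ne.symm gf])]
    have := big_of_common_fx h2 (by omega) hn hK
    omega
  · simp only [not_forall] at hC
    obtain ⟨a', b', c', e, f, g, hnd, y, hy, hyne⟩ := hC
    simp only [List.nodup_cons, List.mem_cons, List.not_mem_nil, or_false, not_or, List.nodup_nil,
      and_true] at hnd
    obtain ⟨⟨hab', hac', hae, haf, hag⟩, ⟨hbc', hbe, hbf, hbg⟩, ⟨hce, hcf, hcg⟩, ⟨hef, heg⟩, hfg, -⟩ := hnd
    have hst : ∀ g' : alternatingGroup {x // x ∉ ({a', b', c'} : Finset α)},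
        ∀ y ∈ fx ρ a' b' c', ρ (incl _ g') y ∈ fx ρ a' b' c' := fun g' y hy => by
      have h := map_fx_mem (incl _ g') hy
      rwa [incl_apply_of_not (by simp) g', incl_apply_of_not (by simp) g',
        incl_apply_of_not (by simp) g'] at h
    have hnt' : Nontriv (restr ρ _ (fx ρ a' b' c') hst) := by
      by_contra hnot
      exact hyne (apply_eq_of_not_nontriv hnot (by simp [Ne.symm hae, Ne.symm hbe, Ne.symm hce])
        (by simp [Ne.symm haf, Ne.symm hbf, Ne.symm hcf])
        (by simp [Ne.symm hag, Ne.symm hbg, Ne.symm hcg]) hy)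
    have c4 := four_le_of_nontriv h2 hω (by rw [hcard a' b' c' hab' hbc' hac']; omega) hnt'
    have hm' := finrank_moved (ρ := ρ) h2 hω (by omega) hab' hbc' hac'
    have hadd' := finrank_moved_add (ρ := ρ) a' b' c'
    have heqw := finrank_ew_eq (ρ := ρ) (ω := ω) (by omega) hab hbc hac hab' hbc' hac'
    omega

/-- Characteristic two: large degree or planes. -/
theorem even_step [IsAlgClosed k] (h2 : (2 : k) = 0) (hω : ω * ω + ω + 1 = 0)
    (hr : 9 ≤ Fintype.card α) (hn : Nontriv ρ) (IH : Below.{u, v, w} k (Fintype.card α)) :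
    Bound k V (Fintype.card α) ∨ Planar ρ := by
  refine or_iff_not_imp_left.2 fun hbig => ?_
  have hfix : ∀ a b c e f g : α, [a, b, c, e, f, g].Nodup →
      ∀ y ∈ moved ρ a b c, ρ (cy e f g) y = y := by
    intro a b c e f g hnd y hy
    simp only [List.nodup_cons, List.mem_cons, List.not_mem_nil, or_false, not_or, List.nodup_nil,
      and_true] at hnd
    obtain ⟨⟨hab, hac, hae, haf, hag⟩, ⟨hbc, hbe, hbf, hbg⟩, ⟨hce, hcf, hcg⟩, ⟨hef, heg⟩, hfg, -⟩ := hnd
    have key : ∀ b' c' : α, (b' = b ∧ c' = c ∨ b' = c ∧ c' = b) → ∀ y ∈ ew ρ ω a b' c',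
        ρ (cy e f g) y = y := by
      intro b' c' hbc'' y hy
      have hd : a ≠ b' ∧ b' ≠ c' ∧ a ≠ c' := by
        rcases hbc'' with ⟨rfl, rfl⟩ | ⟨rfl, rfl⟩
        · exact ⟨hab, hbc, hac⟩
        · exact ⟨hac, Ne.symm hbc, hab⟩
      have hst : ∀ g' : alternatingGroup {x // x ∉ ({a, b', c'} : Finset α)},
          ∀ y ∈ ew ρ ω a b' c', ρ (incl _ g') y ∈ ew ρ ω a b' c' := fun g' y hy => by
        have h := map_ew_mem (incl _ g') hy
        rwa [incl_apply_of_not (by simp) g', incl_apply_of_not (by simp) g',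
          incl_apply_of_not (by simp) g'] at h
      have hout : ∀ z, z ∈ [e, f, g] → z ∉ ({a, b', c'} : Finset α) := by
        intro z hz
        simp only [List.mem_cons, List.not_mem_nil, or_false] at hz
        rcases hbc'' with ⟨rfl, rfl⟩ | ⟨rfl, rfl⟩ <;> rcases hz with rfl | rfl | rfl <;>
          simp [Ne.symm hae, Ne.symm hbe, Ne.symm hce, Ne.symm haf, Ne.symm hbf, Ne.symm hcf,
            Ne.symm hag, Ne.symm hbg, Ne.symm hcg]
      exact apply_eq_of_not_nontriv (h := hst)
        (fun hnt => hbig (even_big h2 hω hr hn IH hd.1 hd.2.1 hd.2.2 hnt))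
        (hout e (by simp)) (hout f (by simp)) (hout g (by simp)) hy
    rw [moved_eq h2 hω hab hbc hac, Submodule.mem_sup] at hy
    obtain ⟨y1, h1, y2, h2', rfl⟩ := hy
    rw [map_add, key b c (Or.inl ⟨rfl, rfl⟩) y1 h1, key c b (Or.inr ⟨rfl, rfl⟩) y2 h2']
  obtain ⟨a₀, b₀, c₀, h1, h2', h3, hne⟩ := hn
  have hpos : 0 < finrank k (ew ρ ω a₀ b₀ c₀) := by
    by_contra h0
    have hm := finrank_moved (ρ := ρ) h2 hω (by omega) h1 h2' h3
    refine hne (LinearMap.ext fun y => ?_)
    have hy := sub_mem_moved (ρ := ρ) (a := a₀) (b := b₀) (c := c₀) y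
    rw [Submodule.finrank_eq_zero.1 (show finrank k (moved ρ a₀ b₀ c₀) = 0 by omega),
      Submodule.mem_bot, sub_eq_zero] at hy
    exact hy
  have heq : ∀ a b c : α, a ≠ b → b ≠ c → a ≠ c →
      finrank k (ew ρ ω a b c) = finrank k (ew ρ ω a₀ b₀ c₀) :=
    fun a b c h h' h'' => finrank_ew_eq (by omega) h h' h'' h1 h2' h3
  generalize finrank k (ew ρ ω a₀ b₀ c₀) = m at hpos heq
  have hm : m = 1 := by
    by_contra hm
    obtain ⟨p, hp⟩ := exists_points (α := α) (by omega)
    set n := Fintype.card α / 3 with hn3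
    have hd : ∀ i, i < n → p (3 * i) ≠ p (3 * i + 1) ∧ p (3 * i + 1) ≠ p (3 * i + 2) ∧
        p (3 * i) ≠ p (3 * i + 2) := fun i hi =>
      ⟨hp _ _ (by omega) (by omega) (by omega), hp _ _ (by omega) (by omega) (by omega),
        hp _ _ (by omega) (by omega) (by omega)⟩
    have key : ∀ i, i ≤ n → ∃ S : Submodule k V, 2 * m * i ≤ finrank k S ∧
        ∀ y ∈ S, ∀ j, i ≤ j → j < n → y ∈ fx ρ (p (3 * j)) (p (3 * j + 1)) (p (3 * j + 2)) := by
      intro i
      induction i with
      | zero => exact fun _ => ⟨⊥, by simp, fun y hy j _ _ => by simp [(Submodule.mem_bot k).1 hy]⟩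
      | succ i ih =>
        intro hi
        obtain ⟨S, hS, hSf⟩ := ih (by omega)
        set U := moved ρ (p (3 * i)) (p (3 * i + 1)) (p (3 * i + 2)) with hU
        obtain ⟨hab, hbc, hac⟩ := hd i (by omega)
        refine ⟨S ⊔ U, ?_, ?_⟩
        · have hbot : S ⊓ U = ⊥ := by
            rw [Submodule.eq_bot_iff]
            rintro y ⟨hy1, hy2⟩
            exact moved_inf_fx h2 hy2 (hSf y hy1 i le_rfl (by omega))
          have e := Submodule.finrank_sup_add_finrank_inf_eq S U
          rw [hbot, finrank_bot, show finrank k U = 2 * m by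
            rw [hU, finrank_moved h2 hω (by omega) hab hbc hac, heq _ _ _ hab hbc hac]] at e
          rw [mul_add, mul_one]
          omega
        · intro y hy j hj hjn
          obtain ⟨y1, hy1, y2, hy2, rfl⟩ := Submodule.mem_sup.1 hy
          refine Submodule.add_mem _ (hSf y1 hy1 j (by omega) hjn) (mem_fx.2 (hfix _ _ _ _ _ _ ?_ y2 hy2))
          simp only [List.nodup_cons, List.mem_cons, List.not_mem_nil, or_false, not_or,
            List.nodup_nil, and_true, not_false_eq_true]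
          refine ⟨⟨?_, ?_, ?_, ?_, ?_⟩, ⟨?_, ?_, ?_, ?_⟩, ⟨?_, ?_, ?_⟩, ⟨?_, ?_⟩, ?_⟩ <;>
            exact hp _ _ (by omega) (by omega) (by omega)
    obtain ⟨S, hS, -⟩ := key n le_rfl
    have h4 : 4 * n ≤ 2 * m * n := Nat.mul_le_mul_right n (by omega)
    have := Submodule.finrank_le S
    exact hbig (bound_of_le (by omega))
  subst hm
  have hplane : ∀ a b c : α, a ≠ b → b ≠ c → a ≠ c → finrank k (moved ρ a b c) = 2 :=
    fun a b c h h' h'' => by rw [finrank_moved h2 hω (by omega) h h' h'', heq a b c h h' h'']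
  refine ⟨hr, hplane, fun a b c h h' h'' hsq => ?_, hfix, fun a b c h h' h'' y hy hall => ?_⟩
  · have hbot : moved ρ a b c = ⊥ := by
      rw [Submodule.eq_bot_iff]
      intro y hy
      refine moved_inf_fx h2 hy (mem_fx.2 ?_)
      obtain ⟨z, rfl⟩ := hy
      have := LinearMap.congr_fun hsq z
      simpa [Module.End.mul_apply, sub_eq_zero] using this
    have := hplane a b c h h' h''
    rw [hbot, finrank_bot] at this
    omega
  · exact moved_inf_fx h2 hy (mem_fx.2 (hall _))

end Cfsg.Agent.H85.AltDeg
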