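import Mathlib.LinearAlgebra.FiniteDimensional.Basic
import Mathlib.LinearAlgebra.Dimension.Constructions
import Mathlib.LinearAlgebra.Projection
import Mathlib.FieldTheory.IsAlgClosed.Basic
import Mathlib.LinearAlgebra.QuadraticForm.Basic
import Mathlib.LinearAlgebra.BilinearForm.Properties

/-!
Halving a space by an idempotent and an operator exchanging it with its complement, and the degree
bounds for families of operators with prescribed squares and anticommutators that follow.
-/

set_option autoImplicit false

namespace Cfsg.Agent.H85.AltDeg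

open Module

variable {k : Type*} [Field k]

section Halving

variable {V : Type*} [AddCommGroup V] [Module k V] [FiniteDimensional k V]

/-- An idempotent `P` with an invertible `w` such that `P w = w (1 - P)` has half the rank. -/
theorem finrank_eq_two_mul {P w : Module.End k V} (hP : P * P = P) {c : k} (hc : c ≠ 0)
    (hw : w * w = c • 1) (hPw : P * w = w * (1 - P)) :
    finrank k V = 2 * finrank k (LinearMap.range P) := by
  have hidem : ∀ v, P (P v) = P v := fun v => by
    rw [← Module.End.mul_apply, hP]
  have hwinj : Function.Injective w := fun a b hab => by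
    have := congrArg w hab
    rw [← Module.End.mul_apply, ← Module.End.mul_apply, hw] at this
    simpa [hc] using this
  have hsw : ∀ v, P (w v) = w v - w (P v) := fun v => by
    rw [← Module.End.mul_apply, hPw, Module.End.mul_apply, LinearMap.sub_apply, map_sub]
    simp
  have h1 : ∀ v ∈ LinearMap.range P, w v ∈ LinearMap.ker P := by
    rintro _ ⟨u, rfl⟩
    rw [LinearMap.mem_ker, hsw, hidem, sub_self]
  have h2 : ∀ v ∈ LinearMap.ker P, w v ∈ LinearMap.range P := fun v hv =>
    ⟨w v, by rw [hsw, LinearMap.mem_ker.1 hv, map_zero, sub_zero]⟩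
  have e1 : finrank k (LinearMap.range P) ≤ finrank k (LinearMap.ker P) :=
    LinearMap.finrank_le_finrank_of_injective (f := w.restrict h1)
      fun a b h => Subtype.ext (hwinj (congrArg Subtype.val h))
  have e2 : finrank k (LinearMap.ker P) ≤ finrank k (LinearMap.range P) :=
    LinearMap.finrank_le_finrank_of_injective (f := w.restrict h2)
      fun a b h => Subtype.ext (hwinj (congrArg Subtype.val h))
  rw [← LinearMap.finrank_range_add_finrank_ker P]
  omega

theorem commute_mem_range {P T : Module.End k V} (h : P * T = T * P) :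
    ∀ v ∈ LinearMap.range P, T v ∈ LinearMap.range P := by
  rintro _ ⟨u, rfl⟩
  exact ⟨T u, by rw [← Module.End.mul_apply, h, Module.End.mul_apply]⟩

end Halving

/-- Pairwise anticommuting operators with non-zero scalar squares. -/
theorem two_pow_le_of_anticommute [IsAlgClosed k] (h2 : (2 : k) ≠ 0) :
    ∀ (j m : ℕ), 2 * j ≤ m → ∀ {V : Type*} [AddCommGroup V] [Module k V] [FiniteDimensional k V]
      [Nontrivial V] (f : Fin m → Module.End k V) (c : Fin m → k), (∀ i, c i ≠ 0) →
      (∀ i, f i * f i = c i • 1) → (∀ i i', i ≠ i' → f i * f i' = -(f i' * f i)) →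
      2 ^ j ≤ finrank k V := by
  intro j
  induction j with
  | zero =>
    intro m _ V _ _ _ _ f c _ _ _
    rw [pow_zero]
    exact Module.finrank_pos
  | succ j ih =>
    intro m hm V _ _ _ _ f c hc hsq hac
    obtain ⟨m, rfl⟩ : ∃ m', m = m' + 2 := ⟨m - 2, by omega⟩
    set u := f 0 with hu
    set v := f 1 with hv
    set g := u * v with hg
    have h01 : (0 : Fin (m + 2)) ≠ 1 := by simp
    have hvu : v * u = -g := by rw [hg, hac 1 0 h01.symm]
    have hgg : g * g = (-(c 0 * c 1)) • 1 := by
      calc g * g = u * (v * u) * v := by rw [hg]; simp [mul_assoc]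
        _ = -((u * u) * (v * v)) := by rw [hvu, hg]; simp [mul_assoc]
        _ = _ := by rw [hsq 0, hsq 1]; simp [smul_smul, mul_comm]
    obtain ⟨s, hs⟩ := IsAlgClosed.exists_pow_nat_eq (-(c 0 * c 1)) zero_lt_two
    have hs0 : s ≠ 0 := fun h => by
      rw [h, zero_pow two_ne_zero] at hs
      exact neg_ne_zero.2 (mul_ne_zero (hc 0) (hc 1)) hs.symm
    set G := s⁻¹ • g with hG
    have hGG : G * G = 1 := by
      rw [hG, smul_mul_smul_comm, hgg, smul_smul, ← hs]
      field_simp
      simp
    set P := (2 : k)⁻¹ • (1 + G) with hP
    have hPP : P * P = P := by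
      rw [hP, smul_mul_smul_comm, add_mul, one_mul, mul_add, mul_one, hGG]
      rw [show (1 : Module.End k V) + G + (G + 1) = (2 : k) • (1 + G) by
        rw [two_smul]; abel, smul_smul]
      congr 1
      field_simp
    have hgu : g * u = -(u * g) := by
      rw [hg, mul_assoc, hvu, hg]; simp
    have hGu : G * u = -(u * G) := by
      rw [hG, smul_mul_assoc, hgu, mul_smul_comm, smul_neg]
    have hPu : P * u = u * (1 - P) := by
      have hh : (1 : Module.End k V) - P = (2 : k)⁻¹ • (1 - G) := by
        rw [hP, sub_eq_iff_eq_add, ← smul_add]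
        rw [show (1 : Module.End k V) - G + (1 + G) = (2 : k) • 1 by rw [two_smul]; abel, smul_smul,
          inv_mul_cancel₀ h2, one_smul]
      rw [hh, hP, smul_mul_assoc, mul_smul_comm, add_mul, mul_sub, one_mul, mul_one, hGu,
        sub_eq_add_neg]
    have hdim := finrank_eq_two_mul hPP (hc 0) (hsq 0) hPu
    have : Nontrivial (LinearMap.range P) := Module.nontrivial_of_finrank_pos (R := k) (by
      have := Module.finrank_pos (R := k) (M := V)
      omega)
    let e : Fin m → Fin (m + 2) := fun i => ⟨i + 2, by omega⟩
    have he0 : ∀ i, e i ≠ 0 := fun i h => by simp [e, Fin.ext_iff] at h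
    have he1 : ∀ i, e i ≠ 1 := fun i h => by simp [e, Fin.ext_iff] at h
    have hge : ∀ i, g * f (e i) = f (e i) * g := fun i => by
      rw [hg, mul_assoc, hv, hac 1 (e i) (he1 i).symm, mul_neg, ← mul_assoc,
        hu, hac 0 (e i) (he0 i).symm]
      simp [mul_assoc]
    have hcomm : ∀ i, P * (g * f (e i)) = (g * f (e i)) * P := fun i => by
      have h : G * (g * f (e i)) = (g * f (e i)) * G :=
        (((Commute.refl g).mul_right (hge i)).smul_left s⁻¹).eq
      rw [hP, smul_mul_assoc, mul_smul_comm, add_mul, mul_add, one_mul, mul_one, h]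
    have hmem := fun i => commute_mem_range (hcomm i)
    have hsq' : ∀ i, (g * f (e i)) * (g * f (e i)) = (-(c 0 * c 1) * c (e i)) • 1 := fun i => by
      calc (g * f (e i)) * (g * f (e i)) = g * (f (e i) * g) * f (e i) := by simp [mul_assoc]
        _ = (g * g) * (f (e i) * f (e i)) := by rw [← hge]; simp [mul_assoc]
        _ = _ := by rw [hgg, hsq, smul_mul_smul_comm, one_mul]
    have hac' : ∀ i i', i ≠ i' → (g * f (e i)) * (g * f (e i')) = -((g * f (e i')) * (g * f (e i))) :=
      fun i i' hne => by
      have key : ∀ a b : Fin m, (g * f (e a)) * (g * f (e b)) = (g * g) * (f (e a) * f (e b)) :=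
        fun a b => by
        calc (g * f (e a)) * (g * f (e b)) = g * (f (e a) * g) * f (e b) := by simp [mul_assoc]
          _ = _ := by rw [← hge]; simp [mul_assoc]
      rw [key, key, hac (e i) (e i') (fun h => hne (by simp [e, Fin.ext_iff] at h; exact Fin.ext h)),
        mul_neg]
    have := ih m (by omega) (fun i => (g * f (e i)).restrict (hmem i))
      (fun i => -(c 0 * c 1) * c (e i))
      (fun i => mul_ne_zero (neg_ne_zero.2 (mul_ne_zero (hc 0) (hc 1))) (hc _))
      (fun i => LinearMap.ext fun x => Subtype.ext (by
        simpa using LinearMap.congr_fun (hsq' i) (x : V)))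
      (fun i i' hne => LinearMap.ext fun x => Subtype.ext (by
        simpa using LinearMap.congr_fun (hac' i i' hne) (x : V)))
    rw [hdim, pow_succ]
    omega

/-- In characteristic two: operators with scalar square and all anticommutators equal to one. -/
theorem two_pow_le_of_anticommutator_one [IsAlgClosed k] (h2 : (2 : k) = 0) :
    ∀ (j m : ℕ), 2 * j ≤ m → ∀ {V : Type*} [AddCommGroup V] [Module k V] [FiniteDimensional k V]
      [Nontrivial V] (f : Fin m → Module.End k V) (q : k),
      (∀ i, f i * f i = q • 1) → (∀ i i', i ≠ i' → f i * f i' + f i' * f i = 1) →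
      2 ^ j ≤ finrank k V := by
  intro j
  induction j with
  | zero =>
    intro m _ V _ _ _ _ f q _ _
    rw [pow_zero]
    exact Module.finrank_pos
  | succ j ih =>
    intro m hm V _ _ _ _ f q hsq hac
    obtain ⟨m, rfl⟩ : ∃ m', m = m' + 2 := ⟨m - 2, by omega⟩
    have hdbl : ∀ X : Module.End k V, X + X = 0 := fun X => by
      rw [← two_smul k X, h2, zero_smul]
    have hneg : ∀ X : Module.End k V, -X = X := fun X => neg_eq_of_add_eq_zero_right (hdbl X)
    set u := f 0 with hu
    set v := f 1 with hv
    have h01 : (0 : Fin (m + 2)) ≠ 1 := by simp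
    have huv : u * v + v * u = 1 := hac 0 1 h01
    have hvu : v * u = 1 + u * v := by
      rw [← huv, add_right_comm, hdbl, zero_add]
    obtain ⟨ω, hω⟩ : ∃ ω : k, ω * ω + ω = q * q := by
      obtain ⟨ω, hω⟩ := IsAlgClosed.exists_root
        (Polynomial.X ^ 2 + Polynomial.X - Polynomial.C (q * q) : Polynomial k) (by
          have : (Polynomial.X ^ 2 + Polynomial.X - Polynomial.C (q * q) : Polynomial k).degree = 2 := by
            compute_degree!
          rw [this]; decide)
      simp only [Polynomial.IsRoot, Polynomial.eval_sub, Polynomial.eval_add, Polynomial.eval_pow,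
        Polynomial.eval_X, Polynomial.eval_C, sub_eq_zero] at hω
      exact ⟨ω, by rw [← hω]; ring⟩
    set P := u * v + ω • 1 with hP
    have hUU : (u * v) * (u * v) = u * v + (q * q) • 1 := by
      calc (u * v) * (u * v) = u * (v * u) * v := by simp [mul_assoc]
        _ = u * v + (u * u) * (v * v) := by rw [hvu]; simp [mul_add, add_mul, mul_assoc]
        _ = _ := by rw [hsq 0, hsq 1, smul_mul_smul_comm, one_mul]
    have hPP : P * P = P := by
      rw [hP, add_mul, mul_add, mul_add, hUU, smul_one_mul, mul_smul_comm, mul_one, smul_mul_smul_comm,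
        one_mul]
      calc u * v + (q * q) • 1 + ω • (u * v) + (ω • (u * v) + (ω * ω) • 1)
          = u * v + ((q * q) • 1 + (ω * ω) • 1) + (ω • (u * v) + ω • (u * v)) := by abel
        _ = u * v + ω • 1 := by
          rw [hdbl, add_zero, ← add_smul]
          congr 2
          linear_combination (ω * ω) * h2 - hω
    set w := u + v with hw
    have hww : w * w = (1 : k) • 1 := by
      calc w * w = (u * u + v * v) + (u * v + v * u) := by rw [hw, add_mul, mul_add, mul_add]; abel
        _ = _ := by rw [hsq 0, hsq 1, huv, hdbl, zero_add, one_smul]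
    have hPw : P * w = w * (1 - P) := by
      have h1 : u * v * u = u + q • v := by
        rw [mul_assoc, hvu, mul_add, mul_one, ← mul_assoc, hsq 0, smul_one_mul]
      have h2' : v * (u * v) = v + q • u := by
        rw [← mul_assoc, hvu, add_mul, one_mul, mul_assoc, hsq 1, mul_smul_comm, mul_one]
      have h3 : u * (u * v) = q • v := by rw [← mul_assoc, hsq 0, smul_one_mul]
      have h4 : u * v * v = q • u := by rw [mul_assoc, hsq 1, mul_smul_comm, mul_one]
      rw [sub_eq_add_neg, hneg, hP, hw, add_mul, mul_add (u + v), mul_add (u + v), mul_one,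
        add_mul u v (u * v), mul_add, h1, h4, h2', h3, smul_one_mul, mul_smul_comm, mul_one]
      calc u + q • v + q • u + ω • (u + v) = u + q • v + q • u + ω • (u + v) + (v + v) := by
            rw [hdbl, add_zero]
        _ = _ := by abel
    have hdim := finrank_eq_two_mul hPP one_ne_zero hww hPw
    have : Nontrivial (LinearMap.range P) := Module.nontrivial_of_finrank_pos (R := k) (by
      have := Module.finrank_pos (R := k) (M := V)
      omega)
    let e : Fin m → Fin (m + 2) := fun i => ⟨i + 2, by omega⟩
    have he0 : ∀ i, e i ≠ 0 := fun i h => by simp [e, Fin.ext_iff] at h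
    have he1 : ∀ i, e i ≠ 1 := fun i h => by simp [e, Fin.ext_iff] at h
    let d : Fin m → Module.End k V := fun i => f (e i) + w
    have hcom : ∀ i, ∀ a : Fin (m + 2), (a = 0 ∨ a = 1) → Commute (f a) (d i) := by
      intro i a ha
      have hai : a ≠ e i := by rcases ha with rfl | rfl; exacts [(he0 i).symm, (he1 i).symm]
      have h1 : f a * w + w * f a = 1 := by
        rw [hw, mul_add, add_mul]
        rcases ha with rfl | rfl <;> rw [← hu, ← hv] at *
        · calc u * u + u * v + (u * u + v * u) = (u * u + u * u) + (u * v + v * u) := by abel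
            _ = 1 := by rw [hdbl, zero_add, huv]
        · calc v * u + v * v + (u * v + v * v) = (v * v + v * v) + (u * v + v * u) := by abel
            _ = 1 := by rw [hdbl, zero_add, huv]
      show f a * (f (e i) + w) = (f (e i) + w) * f a
      rw [← sub_eq_zero, sub_eq_add_neg, hneg, mul_add, add_mul]
      calc f a * f (e i) + f a * w + (f (e i) * f a + w * f a)
          = (f a * f (e i) + f (e i) * f a) + (f a * w + w * f a) := by abel
        _ = 0 := by rw [hac a (e i) hai, h1, hdbl]
    have hmem := fun i => commute_mem_range (P := P) (T := d i)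
      (((hcom i 0 (Or.inl rfl)).mul_left (hcom i 1 (Or.inr rfl))).add_left
        ((Commute.one_left (d i)).smul_left ω)).eq
    have hfw : ∀ i, f (e i) * w + w * f (e i) = 0 := fun i => by
      rw [hw, mul_add, add_mul]
      calc f (e i) * u + f (e i) * v + (u * f (e i) + v * f (e i))
          = (f (e i) * u + u * f (e i)) + (f (e i) * v + v * f (e i)) := by abel
        _ = 0 := by rw [hac (e i) 0 (he0 i), hac (e i) 1 (he1 i), hdbl]
    have hww' : w * w = 1 := by rw [hww, one_smul]
    have hsq' : ∀ i, d i * d i = (q + 1) • 1 := fun i => by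
      show (f (e i) + w) * (f (e i) + w) = _
      calc _ = f (e i) * f (e i) + (f (e i) * w + w * f (e i)) + w * w := by
            simp only [add_mul, mul_add]; abel
        _ = _ := by rw [hsq, hfw, hww', add_zero, add_smul, one_smul]
    have hac' : ∀ i i', i ≠ i' → d i * d i' + d i' * d i = 1 := fun i i' hne => by
      show (f (e i) + w) * (f (e i') + w) + (f (e i') + w) * (f (e i) + w) = _
      calc _ = (f (e i) * f (e i') + f (e i') * f (e i)) + ((f (e i) * w + w * f (e i))
            + (f (e i') * w + w * f (e i'))) + (w * w + w * w) := by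
            simp only [add_mul, mul_add]; abel
        _ = _ := by
          rw [hac (e i) (e i') (fun h => hne (by simp [e, Fin.ext_iff] at h; exact Fin.ext h)),
            hfw, hfw, hdbl]
          rw [hdbl (w * w)]; simp
    have := ih m (by omega) (fun i => (d i).restrict (hmem i)) (q + 1)
      (fun i => LinearMap.ext fun x => Subtype.ext (by
        simpa using LinearMap.congr_fun (hsq' i) (x : V)))
      (fun i i' hne => LinearMap.ext fun x => Subtype.ext (by
        simpa using LinearMap.congr_fun (hac' i i' hne) (x : V)))
    rw [hdim, pow_succ]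
    omega

end Cfsg.Agent.H85.AltDeg
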