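import Cfsg.Agent.H85.AltDeg.EvenChar
import Mathlib.FieldTheory.IsAlgClosed.Basic

/-!
The degree bound for linear modules of alternating groups.
-/

set_option autoImplicit false

namespace Cfsg.Agent.H85.AltDeg

open Module Submodule

universe u v w

variable {k : Type w} [Field k] [IsAlgClosed k]

theorem exists_omega : ∃ ω : k, ω * ω + ω + 1 = 0 := by
  obtain ⟨ω, hω⟩ := IsAlgClosed.exists_root (Polynomial.X ^ 2 + Polynomial.X + 1 : Polynomial k)
    (by
      have : (Polynomial.X ^ 2 + Polynomial.X + 1 : Polynomial k).degree = 2 := by compute_degree!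
      rw [this]; norm_num)
  exact ⟨ω, by simpa [Polynomial.IsRoot, pow_two] using hω⟩

theorem linear_step {α : Type u} [Fintype α] [DecidableEq α] {V : Type v} [AddCommGroup V]
    [Module k V] [FiniteDimensional k V] (ρ : alternatingGroup α →* Module.End k V)
    (hr : 9 ≤ Fintype.card α) (hn : Nontriv ρ) (IH : Below.{u, v, w} k (Fintype.card α)) :
    Bound k V (Fintype.card α) := by
  by_cases h2 : (2 : k) = 0
  · obtain ⟨ω, hω⟩ := exists_omega (k := k)
    rcases even_step h2 hω hr hn IH with h | h
    exacts [h, planar_bound h]
  · rcases odd_step h2 hr hn IH with h | h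
    exacts [bound_of_le h, planar_bound h]

theorem below_all : ∀ r : ℕ, Below.{u, v, w} k r := by
  intro r
  induction r with
  | zero => intro β _ _ W _ _ _ σ _ hlt _; exact absurd hlt (Nat.not_lt_zero _)
  | succ r ih =>
    intro β _ _ W _ _ _ σ h9 hlt hn
    by_cases hb : Fintype.card β < r
    · exact ih β W σ h9 hb hn
    · have heq : Fintype.card β = r := by omega
      exact (linear_step σ h9 hn (heq ▸ ih)).1

/-- A non-trivial linear module of the alternating group of degree `r ≥ 9` has dimension at least
`r - 1 - [r = 0 in k]`. -/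
theorem linear_bound {α : Type u} [Fintype α] [DecidableEq α] {V : Type v} [AddCommGroup V]
    [Module k V] [FiniteDimensional k V] (ρ : alternatingGroup α →* Module.End k V)
    (hr : 9 ≤ Fintype.card α) (hn : Nontriv ρ) : Bound k V (Fintype.card α) :=
  linear_step ρ hr hn (below_all _)

end Cfsg.Agent.H85.AltDeg
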