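import Cfsg.Agent.H85.AltDeg.Clifford
import Cfsg.Agent.H85.AltDeg.Core
import Mathlib.FieldTheory.IsAlgClosed.Basic
import Mathlib.LinearAlgebra.Matrix.ToLin

/-!
The degree bound for representations of alternating groups up to sign.
-/

set_option autoImplicit false
set_option linter.unusedSectionVars false

namespace Cfsg.Agent.H85.AltDeg

open Module Submodule Equiv

universe u v w

theorem matrix_quadratic {k : Type w} [Field k] (M T U : Matrix (Fin 2) (Fin 2) k)
    (hTU : T * U = 1) (hconj : T * M = M * M * T) (h3 : M * M * M = 1)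
    (hns : ∀ μ : k, M ≠ μ • 1) : M * M + M + 1 = 0 := by
  have hT : T.det ≠ 0 := fun h => by
    have := congrArg Matrix.det hTU
    rw [Matrix.det_mul, Matrix.det_one, h, zero_mul] at this
    exact zero_ne_one this
  have hM : M.det ≠ 0 := fun h => by
    have := congrArg Matrix.det h3
    rw [Matrix.det_mul, Matrix.det_one, h, mul_zero] at this
    exact zero_ne_one this
  have hd : M.det = 1 := by
    have h := congrArg Matrix.det hconj
    rw [Matrix.det_mul, Matrix.det_mul, Matrix.det_mul, mul_comm] at h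
    have h' := mul_right_cancel₀ hT h
    exact (mul_right_cancel₀ hM ((one_mul M.det).trans h')).symm
  have hsq : M * M = (M 0 0 + M 1 1) • M - 1 := by
    rw [Matrix.det_fin_two] at hd
    ext i j
    fin_cases i <;> fin_cases j <;>
      simp [Matrix.mul_apply, Fin.sum_univ_two]
    · linear_combination -hd
    · ring
    · ring
    · linear_combination -hd
  set t := M 0 0 + M 1 1 with ht
  have h1 : (t * t - 1) • M = (t + 1) • (1 : Matrix (Fin 2) (Fin 2) k) := by
    have h := h3
    rw [hsq, sub_mul, smul_mul_assoc, hsq, one_mul] at h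
    linear_combination (norm := module) h
  by_cases ht1 : t = -1
  · rw [hsq, ht1]
    module
  · exfalso
    have ht2 : t + 1 ≠ 0 := fun h => ht1 (eq_neg_of_add_eq_zero_left h)
    have h2 : (t - 1) • M = 1 := by
      have h := congrArg (fun N => (t + 1)⁻¹ • N) h1
      rwa [smul_smul, smul_smul, inv_mul_cancel₀ ht2, one_smul,
        show (t + 1)⁻¹ * (t * t - 1) = t - 1 by field_simp; ring] at h
    by_cases ht3 : t - 1 = 0
    · rw [ht3, zero_smul] at h2
      exact one_ne_zero h2.symm
    · exact hns (t - 1)⁻¹ (by rw [← h2, smul_smul, inv_mul_cancel₀ ht3, one_smul])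

variable {α : Type u} [Fintype α] [DecidableEq α] {k : Type w} [Field k] [IsAlgClosed k]
  {V : Type v} [AddCommGroup V] [Module k V] [FiniteDimensional k V]
  {σ : alternatingGroup α → Module.End k V} (S : Spin σ) (h2 : (2 : k) ≠ 0)
include S

theorem exists_right_inv (g : alternatingGroup α) : ∃ U, σ g * U = 1 := by
  rcases sigma_mul_inv S g with h | h
  · exact ⟨_, h⟩
  · exact ⟨-σ g⁻¹, by rw [mul_neg, h, neg_neg]⟩

theorem sigma_injective (g : alternatingGroup α) : Function.Injective (σ g) := by
  obtain ⟨U, hU⟩ := exists_right_inv S g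
  rw [mul_eq_one_comm] at hU
  exact Function.LeftInverse.injective (g := fun y => U y) fun y => by
    show U (σ g y) = y
    rw [← Module.End.mul_apply, hU, Module.End.one_apply]

/-- An element inverting a three-cycle. -/
theorem exists_inverter (h5 : 5 ≤ Fintype.card α) {a b c : α} (hab : a ≠ b) (hbc : b ≠ c) (hac : a ≠ c) :
    ∃ g : alternatingGroup α, σ g * cyS σ a b c = cyS σ a b c * cyS σ a b c * σ g := by
  obtain ⟨g, hg⟩ := exists_move (j := 3) (by omega) ![a, b, c] ![b, a, c]
    (List.nodup_ofFn.1 (by simp [List.ofFn_succ, hab, hbc, hac]))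
    (List.nodup_ofFn.1 (by simp [List.ofFn_succ, hab.symm, hbc, hac]))
  refine ⟨g, ?_⟩
  have h := sigma_cyS S g a b c
  rw [show (g : Perm α) a = b from hg 0, show (g : Perm α) b = a from hg 1,
    show (g : Perm α) c = c from hg 2] at h
  have hinv : cyS σ b a c = cyS σ a b c * cyS σ a b c := by
    rw [cyS_congr S (cy_rotate hbc.symm hab.symm hac.symm : cy b a c = cy c b a)]
    calc cyS σ c b a = cyS σ c b a * (cyS σ a b c * cyS σ a b c * cyS σ a b c) := by
          rw [cyS_cube S, mul_one]
      _ = cyS σ c b a * cyS σ a b c * (cyS σ a b c * cyS σ a b c) := by simp only [mul_assoc]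
      _ = _ := by rw [cyS_mul_rev S hab hbc hac, one_mul]
  rw [h, hinv]

include h2

theorem not_scalar [Nontrivial V] (h5 : 5 ≤ Fintype.card α) {a b c : α} (hab : a ≠ b) (hbc : b ≠ c)
    (hac : a ≠ c) (μ : k) : cyS σ a b c ≠ μ • 1 := by
  intro h
  have hall : ∀ x y z : α, x ≠ y → y ≠ z → x ≠ z → cyS σ x y z = μ • 1 := by
    intro x y z hxy hyz hxz
    obtain ⟨g, hg⟩ := exists_move (j := 3) (by omega) ![a, b, c] ![x, y, z]
      (List.nodup_ofFn.1 (by simp [List.ofFn_succ, hab, hbc, hac]))
      (List.nodup_ofFn.1 (by simp [List.ofFn_succ, hxy, hyz, hxz]))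
    have e := sigma_cyS S g a b c
    rw [show (g : Perm α) a = x from hg 0, show (g : Perm α) b = y from hg 1,
      show (g : Perm α) c = z from hg 2, h, mul_smul_comm, mul_one] at e
    obtain ⟨U, hU⟩ := exists_right_inv S g
    have e' := congrArg (· * U) e
    simp only [smul_mul_assoc, mul_assoc, hU, mul_one] at e'
    exact e'.symm
  obtain ⟨v, hv⟩ := exists_ne (0 : V)
  have h2' : μ * μ = 1 := by
    have e := LinearMap.congr_fun (cyS_mul_rev S hab hbc hac) v
    rw [hall c b a hbc.symm hab.symm hac.symm, h] at e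
    simp only [Module.End.mul_apply, LinearMap.smul_apply, Module.End.one_apply, map_smul, smul_smul] at e
    exact sub_eq_zero.1 ((smul_eq_zero.1
      (show (μ * μ - 1) • v = 0 by rw [sub_smul, one_smul, e, sub_self])).resolve_right hv)
  have h3' : μ = 1 := by
    have e := LinearMap.congr_fun (cyS_cube S a b c) v
    rw [h] at e
    simp only [Module.End.mul_apply, LinearMap.smul_apply, Module.End.one_apply, map_smul, smul_smul,
      h2', mul_one] at e
    exact sub_eq_zero.1 ((smul_eq_zero.1
      (show (μ - 1) • v = 0 by rw [sub_smul, one_smul, e, sub_self])).resolve_right hv)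
  obtain ⟨d, hd⟩ := exists_avoid [a, b, c] (by simp; omega)
  simp only [List.mem_cons, List.not_mem_nil, or_false, not_or] at hd
  have q : Quad a b c d := ⟨hab, hac, Ne.symm hd.1, hbc, Ne.symm hd.2.1, Ne.symm hd.2.2⟩
  have e := LinearMap.congr_fun (qA_sq S q) v
  rw [qA, hall a c b q.ac q.bc.symm q.ab, hall a c d q.ac q.cd q.ad, h3', one_smul, one_mul, one_mul,
    LinearMap.neg_apply, Module.End.one_apply, eq_neg_iff_add_eq_zero, ← two_smul k,
    smul_eq_zero, or_iff_right h2] at e
  exact hv e

omit h2 in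
/-- The three-cycles of a two-dimensional representation are quadratic. -/
theorem quadratic_of_two (h2 : (2 : k) ≠ 0) (hn : finrank k V = 2) (h5 : 5 ≤ Fintype.card α) {a b c : α}
    (hab : a ≠ b) (hbc : b ≠ c) (hac : a ≠ c) :
    cyS σ a b c * cyS σ a b c + cyS σ a b c + 1 = 0 := by
  have : Nontrivial V := Module.nontrivial_of_finrank_pos (R := k) (by omega)
  set f := LinearMap.toMatrixAlgEquiv (Module.finBasisOfFinrankEq k V hn) with hf
  obtain ⟨g, hg⟩ := exists_inverter S h5 hab hbc hac
  obtain ⟨U, hU⟩ := exists_right_inv S g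
  refine f.injective ?_
  rw [map_add, map_add, map_mul, map_one, map_zero]
  refine matrix_quadratic _ (f (σ g)) (f U) ?_ ?_ ?_ (fun μ h => not_scalar S h2 h5 hab hbc hac μ ?_)
  · rw [← map_mul, hU, map_one]
  · simp only [← map_mul, hg]
  · simp only [← map_mul, cyS_cube S, map_one]
  · exact f.injective (by rw [h, map_smul, map_one])

/-- The half of the space carries the group of the other points. -/
theorem exists_half {a b c d : α} (q : Quad a b c d) :
    ∃ (M : Submodule k V) (τ : alternatingGroup {x // x ∉ ({a, b, c, d} : Finset α)} → Module.End k M),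
      Spin τ ∧ finrank k V = 2 * finrank k M ∧
      ∀ e f g : α, [e, f, g].Nodup → (∀ z ∈ [a, b, c, d], z ∉ [e, f, g]) →
        ∀ he hf hg, (cyS τ ⟨e, he⟩ ⟨f, hf⟩ ⟨g, hg⟩ * cyS τ ⟨e, he⟩ ⟨f, hf⟩ ⟨g, hg⟩ +
          cyS τ ⟨e, he⟩ ⟨f, hf⟩ ⟨g, hg⟩ + 1 = 0) →
        cyS σ e f g * cyS σ e f g + cyS σ e f g + 1 = 0 := by
  obtain ⟨P, hdim, hcomm, hkill⟩ := halve S h2 q
  have hst : ∀ g : alternatingGroup {x // x ∉ ({a, b, c, d} : Finset α)},
      ∀ y ∈ LinearMap.range P, σ (incl _ g) y ∈ LinearMap.range P := fun g =>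
    commute_mem_range (hcomm (incl _ g) (incl_apply_of_not (by simp) g) (incl_apply_of_not (by simp) g)
      (incl_apply_of_not (by simp) g) (incl_apply_of_not (by simp) g))
  refine ⟨LinearMap.range P, fun g => (σ (incl _ g)).restrict (hst g), S.restrict _ hst, hdim,
    fun e f g hnd hav he hf hg hq => hkill _ ?_ fun y hy => ?_⟩
  · have hc : cyS σ e f g * qA σ a c b d = qA σ a c b d * cyS σ e f g := by
      simp only [List.mem_cons, List.not_mem_nil, or_false, forall_eq_or_imp, forall_eq, not_or] at hav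
      obtain ⟨⟨ae, af, ag⟩, ⟨be, bf, bg⟩, ⟨ce, cf, cg⟩, de, df, dg⟩ := hav
      have h := qA_comm S (g := cy e f g) (a := a) (b := c) (c := b) (d := d)
        (cy_apply_other ae af ag) (cy_apply_other ce cf cg) (cy_apply_other be bf bg)
        (cy_apply_other de df dg)
      rcases cyS_pm (σ := σ) e f g with h' | h' <;> rw [h']
      · exact h
      · rw [neg_mul, h, mul_neg]
    rw [add_mul, add_mul, mul_add, mul_add, one_mul, mul_one, mul_assoc, hc, ← mul_assoc, hc,
      mul_assoc]
  · have e1 := cyS_restrict_apply S hst ⟨e, he⟩ ⟨f, hf⟩ ⟨g, hg⟩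
    have h := congrArg Subtype.val (LinearMap.congr_fun hq ⟨y, hy⟩)
    simpa only [LinearMap.add_apply, Module.End.mul_apply, Module.End.one_apply, LinearMap.zero_apply,
      Submodule.coe_add, Submodule.coe_zero, e1] using h

omit S in
theorem card_avoid_four {a b c d : α} (q : Quad a b c d) :
    Fintype.card {x // x ∉ ({a, b, c, d} : Finset α)} = Fintype.card α - 4 := by
  rw [card_avoid, Finset.card_insert_of_notMem (by simp [q.ab, q.ac, q.ad]),
    Finset.card_insert_of_notMem (by simp [q.bc, q.bd]),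
    Finset.card_insert_of_notMem (by simp [q.cd]), Finset.card_singleton]

omit S in
theorem exists_quad (h4 : 4 ≤ Fintype.card α) : ∃ a b c d : α, Quad a b c d := by
  obtain ⟨p, hp⟩ := exists_points (α := α) (by omega)
  refine ⟨p 0, p 1, p 2, p 3, ?_, ?_, ?_, ?_, ?_, ?_⟩ <;> exact hp _ _ (by omega) (by omega) (by omega)

theorem even_degree (h4 : 4 ≤ Fintype.card α) : 2 ∣ finrank k V := by
  obtain ⟨a, b, c, d, q⟩ := exists_quad (k := k) h2 h4
  obtain ⟨M, τ, -, hdim, -⟩ := exists_half S h2 q
  exact ⟨_, hdim⟩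

theorem four_dvd_degree (h8 : 8 ≤ Fintype.card α) : 4 ∣ finrank k V := by
  obtain ⟨a, b, c, d, q⟩ := exists_quad (k := k) h2 (α := α) (by omega)
  obtain ⟨M, τ, hτ, hdim, -⟩ := exists_half S h2 q
  obtain ⟨t, ht⟩ := even_degree hτ h2 (by rw [card_avoid_four h2 q]; omega)
  exact ⟨t, by rw [hdim, ht]; ring⟩

theorem four_le_degree (h7 : 7 ≤ Fintype.card α) (hpos : 0 < finrank k V) : 4 ≤ finrank k V := by
  obtain ⟨t, ht⟩ := even_degree S h2 (by omega)
  by_contra hlt
  have hn : finrank k V = 2 := by omega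
  have : Nontrivial V := Module.nontrivial_of_finrank_pos (R := k) hpos
  have hX : ∀ a b c : α, a ≠ b → b ≠ c → a ≠ c →
      cyS σ a b c * cyS σ a b c + cyS σ a b c + 1 = 0 :=
    fun a b c h h' h'' => quadratic_of_two S h2 hn (by omega) h h' h''
  by_cases h5 : (5 : k) = 0
  · have h48 : ((48 : ℤ) : k) ≠ 0 := by
      intro h
      apply one_ne_zero (α := k)
      have h' : ((48 : ℤ) : k) = 9 * 5 + 3 := by push_cast; norm_num
      rw [h', h5, mul_zero, zero_add] at h
      linear_combination 2 * h - h5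
    have := clifford_bound S h2 hX (j := 2) (m := 5) (by omega)
      ![![1, -1, 0, 0, 0], ![0, 0, 1, -1, 0], ![1, 1, -1, -1, 0], ![1, 1, 1, 1, 0]] 48
      (by decide) (by decide) h48
    omega
  · have h80 : ((80 : ℤ) : k) ≠ 0 := by
      have : ((80 : ℤ) : k) = (2 : k) ^ 4 * 5 := by push_cast; norm_num
      rw [this]
      exact mul_ne_zero (pow_ne_zero _ h2) h5
    have := clifford_bound S h2 hX (j := 2) (m := 5) (by omega)
      ![![1, -1, 0, 0, 0], ![0, 0, 1, -1, 0], ![1, 1, -1, -1, 0], ![1, 1, 1, 1, -4]] 80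
      (by decide) (by decide) h80
    omega

theorem degree_ne_four (h9 : 9 ≤ Fintype.card α) : finrank k V ≠ 4 := by
  intro hn
  have : Nontrivial V := Module.nontrivial_of_finrank_pos (R := k) (by omega)
  have hX : ∀ a b c : α, a ≠ b → b ≠ c → a ≠ c →
      cyS σ a b c * cyS σ a b c + cyS σ a b c + 1 = 0 := by
    intro a b c hab hbc hac
    obtain ⟨d, hd⟩ := exists_avoid [a, b, c] (by simp; omega)
    obtain ⟨e, he⟩ := exists_avoid [a, b, c, d] (by simp; omega)
    obtain ⟨f, hf⟩ := exists_avoid [a, b, c, d, e] (by simp; omega)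
    obtain ⟨g, hg⟩ := exists_avoid [a, b, c, d, e, f] (by simp; omega)
    simp only [List.mem_cons, List.not_mem_nil, or_false, not_or] at hd he hf hg
    obtain ⟨hda, hdb, hdc⟩ := hd
    obtain ⟨hea, heb, hec, hed⟩ := he
    obtain ⟨hfa, hfb, hfc, hfd, hfe⟩ := hf
    obtain ⟨hga, hgb, hgc, hgd, hge, hgf⟩ := hg
    have q : Quad d e f g := ⟨Ne.symm hed, Ne.symm hfd, Ne.symm hgd, Ne.symm hfe, Ne.symm hge, Ne.symm hgf⟩
    obtain ⟨M, τ, hτ, hdim, hlift⟩ := exists_half S h2 q
    refine hlift a b c (by simp [hab, hbc, hac]) (fun z hz => ?_)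
      (by simp [Ne.symm hda, Ne.symm hea, Ne.symm hfa, Ne.symm hga])
      (by simp [Ne.symm hdb, Ne.symm heb, Ne.symm hfb, Ne.symm hgb])
      (by simp [Ne.symm hdc, Ne.symm hec, Ne.symm hfc, Ne.symm hgc])
      (quadratic_of_two hτ h2 (by omega) (by rw [card_avoid_four h2 q]; omega) ?_ ?_ ?_)
    · simp only [List.mem_cons, List.not_mem_nil, or_false] at hz
      rcases hz with rfl | rfl | rfl | rfl <;>
        simp [hda, hdb, hdc, hea, heb, hec, hfa, hfb, hfc, hga, hgb, hgc]
    · simpa using hab
    · simpa using hbc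
    · simpa using hac
  by_cases h3 : (3 : k) = 0
  · have h560 : ((560 : ℤ) : k) ≠ 0 := by
      intro h
      apply one_ne_zero (α := k)
      have h' : ((560 : ℤ) : k) = 187 * 3 - 1 := by push_cast; norm_num
      rw [h', h3, mul_zero, zero_sub] at h
      linear_combination -h
    have := clifford_bound S h2 hX (j := 3) (m := 7) (by omega)
      ![![1, -1, 0, 0, 0, 0, 0], ![0, 0, 1, -1, 0, 0, 0], ![0, 0, 0, 0, 1, -1, 0],
        ![1, 1, -1, -1, 0, 0, 0], ![1, 1, 1, 1, 0, 0, -4], ![2, 2, 2, 2, -5, -5, 2]] 560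
      (by decide) (by decide) h560
    omega
  · have h48 : ((48 : ℤ) : k) ≠ 0 := by
      have : ((48 : ℤ) : k) = (2 : k) ^ 4 * 3 := by push_cast; norm_num
      rw [this]
      exact mul_ne_zero (pow_ne_zero _ h2) h3
    have := clifford_bound S h2 hX (j := 3) (m := 7) (by omega)
      ![![1, -1, 0, 0, 0, 0, 0], ![0, 0, 1, -1, 0, 0, 0], ![0, 0, 0, 0, 1, -1, 0],
        ![1, 1, -1, -1, 0, 0, 0], ![0, 0, 0, 0, 0, 0, 1], ![1, 1, 1, 1, -2, -2, 0]] 48
      (by decide) (by decide) h48
    omega

theorem degree_ne_eight (h10 : 10 ≤ Fintype.card α) (h5 : (5 : k) ≠ 0 ∨ 11 ≤ Fintype.card α) :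
    finrank k V ≠ 8 := by
  intro hn
  have : Nontrivial V := Module.nontrivial_of_finrank_pos (R := k) (by omega)
  have hX : ∀ a b c : α, a ≠ b → b ≠ c → a ≠ c →
      cyS σ a b c * cyS σ a b c + cyS σ a b c + 1 = 0 := by
    intro a b c hab hbc hac
    set X := cyS σ a b c with hXdef
    have hX3 : X * X * X = 1 := cyS_cube S a b c
    have hcard : Fintype.card {x // x ∉ ({a, b, c} : Finset α)} = Fintype.card α - 3 := by
      rw [card_avoid, Finset.card_insert_of_notMem (by simp [hab, hac]),
        Finset.card_insert_of_notMem (by simp [hbc]), Finset.card_singleton]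
    have hdim : ∀ U : Submodule k V, (∀ g : alternatingGroup α, (g : Perm α) a = a →
        (g : Perm α) b = b → (g : Perm α) c = c → ∀ y ∈ U, σ g y ∈ U) → U ≠ ⊥ → 4 ≤ finrank k U := by
      intro U hU hU0
      have hst : ∀ g : alternatingGroup {x // x ∉ ({a, b, c} : Finset α)}, ∀ y ∈ U, σ (incl _ g) y ∈ U :=
        fun g => hU _ (incl_apply_of_not (by simp) g) (incl_apply_of_not (by simp) g)
          (incl_apply_of_not (by simp) g)
      exact four_le_degree (S.restrict U hst) h2 (by omega) (Submodule.one_le_finrank_iff.2 hU0)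
    have hker : ∀ T : Module.End k V, (∀ g : alternatingGroup α, (g : Perm α) a = a →
        (g : Perm α) b = b → (g : Perm α) c = c → σ g * T = T * σ g) →
        LinearMap.ker T ≠ ⊥ → 4 ≤ finrank k (LinearMap.ker T) := fun T hT =>
      hdim _ fun g ha hb hc y hy => by
        rw [LinearMap.mem_ker, ← Module.End.mul_apply, ← hT g ha hb hc, Module.End.mul_apply,
          LinearMap.mem_ker.1 hy, map_zero]
    have hcX : ∀ g : alternatingGroup α, (g : Perm α) a = a → (g : Perm α) b = b → (g : Perm α) c = c →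
        σ g * X = X * σ g := fun g ha hb hc => cyS_comm S ha hb hc
    set N := X - 1 with hN
    set Q := X * X + X + 1 with hQ
    have hQN : Q * N = 0 := by
      rw [hQ, hN, mul_sub, add_mul, add_mul, one_mul, mul_one, hX3]
      abel
    have hcN : ∀ g : alternatingGroup α, (g : Perm α) a = a → (g : Perm α) b = b → (g : Perm α) c = c →
        σ g * N = N * σ g := fun g ha hb hc => by
      rw [hN, mul_sub, sub_mul, hcX g ha hb hc, mul_one, one_mul]
    have hN0 : N ≠ 0 := fun h => not_scalar S h2 (by omega) hab hbc hac 1 (by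
      rw [one_smul]; exact sub_eq_zero.1 h)
    by_cases h3 : (3 : k) = 0
    · have hNN : N * N = Q := by
        have hz : (3 : k) • X = 0 := by rw [h3, zero_smul]
        simp only [hN, hQ, sub_mul, mul_sub, one_mul, mul_one]
        linear_combination (norm := module) -hz
      have hcube : N * N * N = 0 := by rw [hNN, hQN]
      by_contra hQ0
      have hk : LinearMap.ker N ≠ ⊥ := by
        intro hbot
        refine hQ0 (hNN ▸ LinearMap.ext fun y => ?_)
        refine LinearMap.ker_eq_bot.1 hbot ?_
        rw [LinearMap.zero_apply, map_zero, ← Module.End.mul_apply, ← mul_assoc, hcube,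
          LinearMap.zero_apply]
      have k4 := hker N hcN hk
      have hrn := LinearMap.finrank_range_add_finrank_ker N
      have r4 : 4 ≤ finrank k (LinearMap.range (N * N)) := by
        refine hdim _ (fun g ha hb hc y hy => ?_) ?_
        · obtain ⟨z, rfl⟩ := hy
          refine ⟨σ g z, ?_⟩
          rw [← Module.End.mul_apply, ← Module.End.mul_apply, mul_assoc, ← hcN g ha hb hc, ← mul_assoc,
            ← hcN g ha hb hc, mul_assoc]
        · intro h
          exact hQ0 (hNN ▸ LinearMap.range_eq_bot.1 h)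
      have hle : LinearMap.range (N * N) ≤ LinearMap.range N := LinearMap.range_comp_le_range N N
      have heq := Submodule.eq_of_le_of_finrank_le hle (by omega)
      refine hQ0 (hNN ▸ LinearMap.ext fun y => ?_)
      obtain ⟨z, hz⟩ : N y ∈ LinearMap.range (N * N) := heq ▸ LinearMap.mem_range_self N y
      rw [Module.End.mul_apply, ← hz, ← Module.End.mul_apply, ← mul_assoc, hcube]
      rfl
    · obtain ⟨ω, hω⟩ : ∃ ω : k, ω * ω + ω + 1 = 0 := by
        obtain ⟨ω, hω⟩ := IsAlgClosed.exists_root (Polynomial.X ^ 2 + Polynomial.X + 1 : Polynomial k)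
          (by
            have : (Polynomial.X ^ 2 + Polynomial.X + 1 : Polynomial k).degree = 2 := by compute_degree!
            rw [this]; norm_num)
        exact ⟨ω, by simpa [Polynomial.IsRoot, pow_two] using hω⟩
      have w3 : ω * ω * ω = 1 := by linear_combination (ω - 1) * hω
      have w1 : ω ≠ 1 := fun h => h3 (by rw [h] at hω; linear_combination hω)
      have w2 : ω * ω ≠ 1 := fun h => w1 (by rw [h, one_mul] at w3; exact w3)
      have w0 : ω ≠ 0 := fun h => one_ne_zero (α := k) (by rw [h] at w3; linear_combination -w3)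
      have w21 : ω * ω ≠ ω := fun h => w1 (mul_left_cancel₀ w0 (h.trans (mul_one ω).symm))
      set K := fun μ : k => LinearMap.ker (X - μ • 1) with hK
      have hmem : ∀ {μ : k} {y : V}, y ∈ K μ ↔ X y = μ • y := fun {μ y} => by
        simp [hK, LinearMap.mem_ker, sub_eq_zero]
      have hflip : ∀ μ : k, μ * μ * μ = 1 → K μ ≠ ⊥ → K (μ * μ) ≠ ⊥ := by
        intro μ hμ hne hbot
        obtain ⟨g, hg⟩ := exists_inverter S (by omega) hab hbc hac
        rw [← hXdef] at hg
        obtain ⟨y, hy, hy0⟩ := Submodule.exists_mem_ne_zero_of_ne_bot hne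
        have hy' := hmem.1 hy
        have e : X (X (σ g y)) = μ • σ g y := by
          rw [← Module.End.mul_apply, ← Module.End.mul_apply, ← hg, Module.End.mul_apply, hy', map_smul]
        have e3 : X (σ g y) = (μ * μ) • σ g y := by
          have h := congrArg X e
          rw [map_smul, ← Module.End.mul_apply X X (X _), ← Module.End.mul_apply (X * X) X, hX3,
            Module.End.one_apply] at h
          conv_rhs => rw [h]
          rw [smul_smul, hμ, one_smul]
        have := hmem.2 e3
        rw [hbot, Submodule.mem_bot] at this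
        exact hy0 (sigma_injective S g (this.trans (map_zero _).symm))
      have hboth : K ω ≠ ⊥ ∧ K (ω * ω) ≠ ⊥ := by
        have hne : K ω ≠ ⊥ ∨ K (ω * ω) ≠ ⊥ := by
          by_contra h
          simp only [not_or, not_not] at h
          refine hN0 (LinearMap.ext fun y => ?_)
          have h1 : Q (N y) = 0 := by rw [← Module.End.mul_apply, hQN]; rfl
          have h2' : X (N y) - (ω * ω) • N y ∈ K ω := by
            rw [hmem]
            rw [hQ] at h1
            simp only [LinearMap.add_apply, Module.End.mul_apply, Module.End.one_apply] at h1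
            rw [map_sub, map_smul]
            linear_combination (norm := match_scalars) h1
            all_goals first | ring1 | linear_combination -hω | linear_combination w3
          rw [h.1, Submodule.mem_bot, sub_eq_zero] at h2'
          have h3' : N y ∈ K (ω * ω) := hmem.2 h2'
          rwa [h.2, Submodule.mem_bot] at h3'
        rcases hne with h | h
        · exact ⟨h, hflip ω w3 h⟩
        · refine ⟨?_, h⟩
          have h' := hflip (ω * ω) (by linear_combination w3 * (ω * ω * ω + 1)) h
          rwa [show ω * ω * (ω * ω) = ω by linear_combination ω * w3] at h'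
      have hc : ∀ μ : k, ∀ g : alternatingGroup α, (g : Perm α) a = a → (g : Perm α) b = b →
          (g : Perm α) c = c → σ g * (X - μ • 1) = (X - μ • 1) * σ g := fun μ g ha hb hc' => by
        rw [mul_sub, sub_mul, hcX g ha hb hc', mul_smul_comm, smul_mul_assoc, mul_one, one_mul]
      have k1 := hker _ (hc ω) hboth.1
      have k2 := hker _ (hc (ω * ω)) hboth.2
      change 4 ≤ finrank k (K ω) at k1
      change 4 ≤ finrank k (K (ω * ω)) at k2
      have hdisj : K ω ⊓ K (ω * ω) = ⊥ := by
        rw [Submodule.eq_bot_iff]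
        rintro y ⟨h1, h1'⟩
        have e := (hmem.1 h1).symm.trans (hmem.1 h1')
        rw [← sub_eq_zero, ← sub_smul, smul_eq_zero] at e
        exact e.resolve_left (sub_ne_zero.2 w21.symm)
      have hsum : K ω ⊔ K (ω * ω) ≤ LinearMap.range N := by
        refine sup_le (fun y hy => ?_) (fun y hy => ?_)
        · refine ⟨(ω - 1)⁻¹ • y, ?_⟩
          rw [map_smul, hN, LinearMap.sub_apply, hmem.1 hy, Module.End.one_apply,
            show ω • y - y = (ω - 1) • y by module, smul_smul, inv_mul_cancel₀ (sub_ne_zero.2 w1), one_smul]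
        · refine ⟨(ω * ω - 1)⁻¹ • y, ?_⟩
          rw [map_smul, hN, LinearMap.sub_apply, hmem.1 hy, Module.End.one_apply,
            show (ω * ω) • y - y = (ω * ω - 1) • y by module, smul_smul,
            inv_mul_cancel₀ (sub_ne_zero.2 w2), one_smul]
      have e1 := Submodule.finrank_sup_add_finrank_inf_eq (K ω) (K (ω * ω))
      rw [hdisj, finrank_bot] at e1
      have e2 := Submodule.finrank_mono hsum
      have htop : LinearMap.range N = ⊤ := Submodule.eq_top_of_finrank_eq (le_antisymm
        (Submodule.finrank_le _) (by omega))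
      refine LinearMap.ext fun y => ?_
      obtain ⟨z, rfl⟩ : y ∈ LinearMap.range N := htop ▸ Submodule.mem_top
      rw [← Module.End.mul_apply, hQN]
      rfl
  by_cases h5' : (5 : k) = 0
  · have h288 : ((288 : ℤ) : k) ≠ 0 := by
      intro h
      apply one_ne_zero (α := k)
      have h' : ((288 : ℤ) : k) = 57 * 5 + 3 := by push_cast; norm_num
      rw [h', h5', mul_zero, zero_add] at h
      linear_combination 2 * h - h5'
    have h11 : 11 ≤ Fintype.card α := h5.resolve_left (fun h => h h5')
    have := clifford_bound S h2 hX (j := 4) (m := 9) (by omega)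
      ![![1, -1, 0, 0, 0, 0, 0, 0, 0], ![0, 0, 1, -1, 0, 0, 0, 0, 0], ![0, 0, 0, 0, 1, -1, 0, 0, 0],
        ![0, 0, 0, 0, 0, 0, 1, -1, 0], ![1, 1, -1, -1, 0, 0, 0, 0, 0], ![0, 0, 0, 0, 1, 1, -1, -1, 0],
        ![1, 1, 1, 1, -1, -1, -1, -1, 0], ![1, 1, 1, 1, 1, 1, 1, 1, -8]] 288
      (by decide) (by decide) h288
    omega
  · have h160 : ((160 : ℤ) : k) ≠ 0 := by
      have : ((160 : ℤ) : k) = (2 : k) ^ 5 * 5 := by push_cast; norm_num
      rw [this]
      exact mul_ne_zero (pow_ne_zero _ h2) h5'
    have := clifford_bound S h2 hX (j := 4) (m := 8) (by omega)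
      ![![1, -1, 0, 0, 0, 0, 0, 0], ![0, 0, 1, -1, 0, 0, 0, 0], ![0, 0, 0, 0, 1, -1, 0, 0],
        ![0, 0, 0, 0, 0, 0, 1, -1], ![1, 1, -1, -1, 0, 0, 0, 0], ![0, 0, 0, 0, 1, 1, -1, -1],
        ![1, 1, 1, 1, -1, -1, -1, -1], ![1, 1, 1, 1, 1, 1, 1, 1]] 160
      (by decide) (by decide) h160
    omega

omit S in
theorem spin_below : ∀ r : ℕ, ∀ (β : Type u) [Fintype β] [DecidableEq β] (W : Type v) [AddCommGroup W]
    [Module k W] [FiniteDimensional k W] (τ : alternatingGroup β → Module.End k W), Spin τ →
    9 ≤ Fintype.card β → Fintype.card β ≤ r → 0 < finrank k W → Bound k W (Fintype.card β) := by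
  intro r
  induction r with
  | zero => intro β _ _ W _ _ _ τ _ h9 hle _; omega
  | succ r ih =>
    intro β _ _ W _ _ _ τ T h9 hle hpos
    by_cases h13 : 13 ≤ Fintype.card β
    · obtain ⟨a, b, c, d, q⟩ := exists_quad (k := k) h2 (α := β) (by omega)
      obtain ⟨M, τ', hτ', hdim, -⟩ := exists_half T h2 q
      have hc := card_avoid_four (k := k) h2 q
      have := (ih _ M τ' hτ' (by omega) (by omega) (by omega)).1
      exact ⟨by omega, fun _ => by omega⟩
    obtain ⟨t, ht⟩ := four_dvd_degree T h2 (by omega)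
    have h4 := degree_ne_four T h2 h9
    by_cases h11 : 11 ≤ Fintype.card β
    · have := degree_ne_eight T h2 (by omega) (Or.inr h11)
      exact ⟨by omega, fun _ => by omega⟩
    by_cases h10 : Fintype.card β = 10
    · refine ⟨by omega, fun hne => ?_⟩
      have h5 : (5 : k) ≠ 0 := fun h => hne (by
        rw [h10]; push_cast; linear_combination 2 * h)
      have := degree_ne_eight T h2 (by omega) (Or.inl h5)
      omega
    exact ⟨by omega, fun _ => by omega⟩

omit S in
/-- The degree bound up to sign. -/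
theorem spin_bound {σ : alternatingGroup α → Module.End k V} (S : Spin σ) (h9 : 9 ≤ Fintype.card α)
    [Nontrivial V] : Bound k V (Fintype.card α) :=
  spin_below h2 _ α V σ S h9 le_rfl Module.finrank_pos

end Cfsg.Agent.H85.AltDeg
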