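import Cfsg.Agent.H85.AltDeg.Central
import Cfsg.Agent.H85.AltDeg.SpinDegree
import Cfsg.Agent.H35.AltMultiplierBound

/-!
The degree bound for linear groups with an alternating section.
-/

set_option autoImplicit false
set_option linter.unusedSectionVars false

namespace Cfsg.Agent.H85.AltDeg

open Module Equiv
open Cfsg.Agent.H35 Cfsg.Agent.H35.AltPres
open scoped commutatorElement

variable {H : Type} [Group H] [Finite H] {m : ℕ} {π : H →* alternatingGroup (Fin (m + 2))}

/-- In a proper double cover double transpositions lift to elements of order four. -/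
theorem exists_lift_sq_ne_one (hπ : Function.Surjective π) (hcen : π.ker ≤ Subgroup.center H)
    (hd : π.ker ≤ commutator H) (hm : 7 ≤ m) (hne : π.ker ≠ ⊥) :
    ∃ a b c d : Fin (m + 2), Quad a b c d ∧ ∃ g : H, π g = dt a b c d ∧ g * g ≠ 1 := by
  by_contra hno
  simp only [not_exists, not_and, not_not] at hno
  apply hne
  rw [eq_bot_iff, ← Subgroup.zpowers_one_eq_bot]
  refine H35.AltMult.ker_le_zpowers π hcen hπ hd (Or.inr (Or.inr (by omega))) (one_mem π.ker)
    (fun i j hi hij a b ha hb => ?_) (fun h => absurd h (by omega))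
  have hi' := i.isLt
  have hj' := j.isLt
  set f0 : Fin (m + 2) := ⟨0, by omega⟩ with hf0
  set f1 : Fin (m + 2) := ⟨1, by omega⟩ with hf1
  set i1 : Fin (m + 2) := ⟨i + 1, by omega⟩ with hi1
  set i2 : Fin (m + 2) := ⟨i + 2, by omega⟩ with hi2
  set j1 : Fin (m + 2) := ⟨j + 1, by omega⟩ with hj1
  set j2 : Fin (m + 2) := ⟨j + 2, by omega⟩ with hj2
  have qi : Quad f0 f1 i1 i2 := by
    refine ⟨?_, ?_, ?_, ?_, ?_, ?_⟩ <;>
      simp only [hf0, hf1, hi1, hi2, ne_eq, Fin.mk.injEq] <;> omega
  have qj : Quad f0 f1 j1 j2 := by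
    refine ⟨?_, ?_, ?_, ?_, ?_, ?_⟩ <;>
      simp only [hf0, hf1, hj1, hj2, ne_eq, Fin.mk.injEq] <;> omega
  have qij : Quad i1 i2 j1 j2 := by
    refine ⟨?_, ?_, ?_, ?_, ?_, ?_⟩ <;>
      simp only [hi1, hi2, hj1, hj2, ne_eq, Fin.mk.injEq] <;> omega
  have hgi : gen m i = dt f0 f1 i1 i2 := by
    apply Subtype.ext
    rw [coe_gen, swp_eq (by omega : 0 + 1 < m + 2), swp_eq (by omega : (i : ℕ) + 1 + 1 < m + 2),
      dt_coe qi.ab qi.cd]
  have hgj : gen m j = dt f0 f1 j1 j2 := by
    apply Subtype.ext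
    rw [coe_gen, swp_eq (by omega : 0 + 1 < m + 2), swp_eq (by omega : (j : ℕ) + 1 + 1 < m + 2),
      dt_coe qj.ab qj.cd]
  have hprod : gen m i * gen m j = dt i1 i2 j1 j2 := by
    rw [hgi, hgj]
    apply Subtype.ext
    rw [Subgroup.coe_mul, dt_coe qi.ab qi.cd, dt_coe qj.ab qj.cd, dt_coe qij.ab qij.cd]
    have hcomm : swap f0 f1 * swap i1 i2 = swap i1 i2 * swap f0 f1 := by
      rw [mul_swap_eq_swap_mul, swap_apply_of_ne_of_ne qi.ac.symm qi.bc.symm,
        swap_apply_of_ne_of_ne qi.ad.symm qi.bd.symm]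
    rw [hcomm, mul_assoc, ← mul_assoc (swap f0 f1), swap_mul_self, one_mul]
  have haa : a * a = 1 := hno _ _ _ _ qi a (ha.trans hgi)
  have hbb : b * b = 1 := hno _ _ _ _ qj b (hb.trans hgj)
  have habab : a * b * (a * b) = 1 := hno _ _ _ _ qij (a * b) (by rw [map_mul, ha, hb, hprod])
  have hcom : a * b = b * a := by
    rw [← inv_eq_of_mul_eq_one_right habab, mul_inv_rev, inv_eq_of_mul_eq_one_right haa,
      inv_eq_of_mul_eq_one_right hbb]
  rw [commutatorElement_eq_one_iff_mul_comm.2 hcom]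
  exact one_mem _

/-- The degree bound for linear groups with an alternating section. -/
theorem section_bound : ∀ n, SectionBound n := by
  intro n
  induction n using Nat.strong_induction_on with
  | _ n IHn =>
  suffices h : ∀ (c : ℕ) (k : Type) [Field k] [IsAlgClosed k] (V : Type) [AddCommGroup V] [Module k V]
      [FiniteDimensional k V] (H : Type) [Group H] [Finite H] (ρ : H →* Module.End k V),
      Nat.card H = c → Function.Injective ρ → ∀ (r : ℕ) (π : H →* alternatingGroup (Fin r)),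
        Function.Surjective π → 9 ≤ r → finrank k V = n → Bound k V r from
    fun k _ _ V _ _ _ H _ _ ρ hρ r π hπ hr hn => h _ k V H ρ rfl hρ r π hπ hr hn
  intro c
  induction c using Nat.strong_induction_on with
  | _ c IHc =>
  intro k _ _ V _ _ _ H _ _ ρ hcard hρ r π hπ hr hdim
  by_contra hbound
  have hn : n + 2 ≤ r := by
    by_contra hh
    exact hbound (bound_of_le (by omega))
  have hmin : ∀ H' : Subgroup H, H'.map π = ⊤ → H' = ⊤ := by
    intro H' hmap
    by_contra hne
    have hlt : Nat.card H' < c := by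
      rcases Nat.lt_or_ge (Nat.card H') c with h | h
      · exact h
      · exact absurd (Subgroup.eq_top_of_le_card H' (hcard ▸ h)) hne
    refine hbound (IHc _ hlt k V H' (ρ.comp H'.subtype) rfl (hρ.comp Subtype.val_injective) r
      (π.comp H'.subtype) (fun a => ?_) hr hdim)
    obtain ⟨h, hh, rfl⟩ := Subgroup.mem_map.1 (hmap ▸ Subgroup.mem_top a : a ∈ H'.map π)
    exact ⟨⟨h, hh⟩, rfl⟩
  have hn0 : 0 < n := by
    by_contra h0
    have : Subsingleton V := (Module.finrank_zero_iff (R := k)).1 (by omega)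
    obtain ⟨g, hg⟩ := exists_ne_one hπ hr hmin
    exact hg (by rw [show g = 1 from hρ (LinearMap.ext fun v => Subsingleton.elim _ _), map_one])
  have hirr := (irreducible_or_bound hπ hr hmin hρ IHn hdim).resolve_left hbound
  have hcen := ker_le_center hπ hr hmin hρ IHn hdim hn hn0 hirr
  have hd : π.ker ≤ commutator H := by
    rw [commutator_eq_top hπ hr hmin]
    exact le_top
  obtain ⟨m, rfl⟩ : ∃ m, r = m + 2 := ⟨r - 2, by omega⟩
  have hk2 := H35.AltMult.card_ker_le_two π hcen hπ hd (Or.inr (Or.inr (by omega)))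
  have : Nontrivial V := Module.nontrivial_of_finrank_pos (R := k) (by omega)
  by_cases hbot : π.ker = ⊥
  · let e := MulEquiv.ofBijective π ⟨(MonoidHom.ker_eq_bot_iff π).1 hbot, hπ⟩
    have hnt : Nontriv (ρ.comp e.symm.toMonoidHom) := by
      obtain ⟨g, hg⟩ := exists_ne_one hπ hr hmin
      refine nontriv_of_ne_one (g := e g) fun h => hg ?_
      have h' : ρ (e.symm (e g)) = 1 := h
      rw [e.symm_apply_apply, ← map_one ρ] at h'
      rw [hρ h', map_one]
    have h := linear_bound (ρ.comp e.symm.toMonoidHom) (by simpa using hr) hnt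
    rw [Fintype.card_fin] at h
    exact hbound h
  obtain ⟨z, hz, hz1⟩ := (π.ker.bot_or_exists_ne_one).resolve_left hbot
  have hker : ∀ x ∈ π.ker, x = 1 ∨ x = z := by
    classical
    intro x hx
    by_contra hne
    simp only [not_or] at hne
    have : Fintype π.ker := Fintype.ofFinite _
    have h3 : ({1, ⟨z, hz⟩, ⟨x, hx⟩} : Finset π.ker).card = 3 := by
      rw [Finset.card_insert_of_notMem (by simp [Subtype.ext_iff, Ne.symm hz1, Ne.symm hne.1]),
        Finset.card_insert_of_notMem (by simp [Subtype.ext_iff, Ne.symm hne.2]), Finset.card_singleton]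
    have h4 := Finset.card_le_univ ({1, ⟨z, hz⟩, ⟨x, hx⟩} : Finset π.ker)
    rw [h3, ← Nat.card_eq_fintype_card] at h4
    omega
  have hzz : z * z = 1 := by
    rcases hker (z * z) (mul_mem hz hz) with h | h
    · exact h
    · exact absurd (mul_eq_left.1 h) hz1
  obtain ⟨μ, hμ⟩ : ∃ μ : k, ρ z = μ • 1 := scalar_of_commute (by omega) hirr fun h => by
    rw [← map_mul, ← map_mul, Subgroup.mem_center_iff.1 (hcen hz) h]
  have hμ2 : μ * μ = 1 := by
    obtain ⟨v, hv⟩ := exists_ne (0 : V)
    have h := LinearMap.congr_fun (congrArg ρ hzz) v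
    rw [map_mul, map_one, hμ] at h
    simp only [Module.End.mul_apply, LinearMap.smul_apply, Module.End.one_apply, map_smul,
      smul_smul] at h
    exact sub_eq_zero.1 ((smul_eq_zero.1
      (show (μ * μ - 1) • v = 0 by rw [sub_smul, one_smul, h, sub_self])).resolve_right hv)
  have hμ1 : μ = -1 := by
    rcases mul_self_eq_one_iff.1 hμ2 with h | h
    · exfalso
      exact hz1 (hρ (by rw [hμ, h, one_smul, map_one]))
    · exact h
  have hρz : ρ z = -1 := by rw [hμ, hμ1, neg_smul, one_smul]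
  have h2 : (2 : k) ≠ 0 := fun h2 => hz1 (hρ (by
    rw [hμ, show μ = 1 by rw [hμ1]; linear_combination -h2, one_smul, map_one]))
  -- the section
  classical
  choose s0 hs0 using hπ
  let s : alternatingGroup (Fin (m + 2)) → H := fun a => if a = 1 then 1 else s0 a
  have hs : ∀ a, π (s a) = a := fun a => by
    simp only [s]
    split_ifs with h
    · rw [map_one, h]
    · exact hs0 a
  have hpm : ∀ g h : H, π g = π h → g = h ∨ g = z * h := by
    intro g h he
    rcases hker (g * h⁻¹) (by rw [MonoidHom.mem_ker, map_mul, map_inv, he, mul_inv_cancel]) with e | e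
    · exact Or.inl (mul_inv_eq_one.1 e)
    · exact Or.inr (mul_inv_eq_iff_eq_mul.1 e)
  have hzc : ∀ x : H, x * z = z * x := Subgroup.mem_center_iff.1 (hcen hz)
  have hsq : ∀ g h : H, π g = π h → g * g = h * h := by
    intro g h he
    rcases hpm g h he with e | e <;> rw [e]
    rw [mul_assoc, ← mul_assoc h, hzc h, mul_assoc, ← mul_assoc z, hzz, one_mul]
  obtain ⟨a₀, b₀, c₀, d₀, q₀, g₀, hg₀, hg₀ne⟩ :=
    exists_lift_sq_ne_one (fun a => ⟨s a, hs a⟩) hcen hd (by omega) hbot
  have hg₀z : g₀ * g₀ = z := by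
    refine (hker _ ?_).resolve_left hg₀ne
    rw [MonoidHom.mem_ker, map_mul, hg₀, dt_sq q₀]
  have S : Spin (fun a => ρ (s a)) := by
    refine ⟨?_, fun g h => ?_, fun a b c d q => ?_⟩
    · show ρ (s 1) = 1
      simp [s]
    · rcases hpm (s g * s h) (s (g * h)) (by rw [map_mul, hs, hs, hs]) with e | e
      · left
        show ρ (s g) * ρ (s h) = _
        rw [← map_mul, e]
      · right
        show ρ (s g) * ρ (s h) = _
        rw [← map_mul, e, map_mul, hρz, neg_one_mul]
    · show ρ (s (dt a b c d)) * ρ (s (dt a b c d)) = -1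
      obtain ⟨g, ha, hb, hc, hd'⟩ := q₀.move q (by rw [Fintype.card_fin]; omega)
      have hc' := conj_dt g a₀ b₀ c₀ d₀
      rw [ha, hb, hc, hd'] at hc'
      have e := hsq (s (dt a b c d)) (s g * g₀ * (s g)⁻¹)
        (by rw [hs, map_mul, map_mul, map_inv, hs, hg₀, hc'])
      rw [← map_mul, e, show s g * g₀ * (s g)⁻¹ * (s g * g₀ * (s g)⁻¹) = s g * (g₀ * g₀) * (s g)⁻¹ by
        group, hg₀z, hzc, mul_inv_cancel_right, hρz]
  have h := spin_bound h2 S (by rw [Fintype.card_fin]; omega)
  rw [Fintype.card_fin] at h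
  exact hbound h

end Cfsg.Agent.H85.AltDeg
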