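import Cfsg.Agent.H85.AltDeg.Linear
import Mathlib.GroupTheory.Frattini
import Mathlib.GroupTheory.SpecificGroups.Alternating.Simple
import Mathlib.GroupTheory.Abelianization.Defs
import Mathlib.LinearAlgebra.Dual.Basis
import Mathlib.LinearAlgebra.Eigenspace.Triangularizable

/-!
A finite linear group that covers an alternating group minimally: it is perfect, the kernel is
nilpotent, and in the irreducible case abelian normal subgroups are central.
-/

set_option autoImplicit false
set_option linter.unusedSectionVars false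

namespace Cfsg.Agent.H85.AltDeg

open Module Submodule
open scoped commutatorElement

/-- A linear group in dimension `n` with an alternating section satisfies the bound. -/
def SectionBound (n : ℕ) : Prop :=
  ∀ (k : Type) [Field k] [IsAlgClosed k] (V : Type) [AddCommGroup V] [Module k V]
    [FiniteDimensional k V] (H : Type) [Group H] [Finite H] (ρ : H →* Module.End k V),
    Function.Injective ρ → ∀ (r : ℕ) (π : H →* alternatingGroup (Fin r)), Function.Surjective π →
      9 ≤ r → finrank k V = n → Bound k V r

variable {k : Type} [Field k] [IsAlgClosed k] {V : Type} [AddCommGroup V] [Module k V]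
  [FiniteDimensional k V] {H : Type} [Group H] [Finite H] {ρ : H →* Module.End k V}
  {r : ℕ} {π : H →* alternatingGroup (Fin r)}

/-- A representation whose kernel lies in the kernel of the section can be used for the induction. -/
theorem descend {n : ℕ} (IH : ∀ m < n, SectionBound m) {k' : Type} [Field k'] [IsAlgClosed k']
    {U : Type} [AddCommGroup U] [Module k' U] [FiniteDimensional k' U] (ρ' : H →* Module.End k' U)
    (hπ : Function.Surjective π) (hr : 9 ≤ r) (hker : ∀ h, ρ' h = 1 → π h = 1)
    (hdim : finrank k' U < n) : Bound k' U r := by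
  set φ := ρ'.toHomUnits with hφ
  have hle : φ.ker ≤ π.ker := fun h hh => hker h (by
    rw [MonoidHom.mem_ker] at hh
    exact congrArg Units.val hh)
  refine IH _ hdim k' U (H ⧸ φ.ker) ((Units.coeHom _).comp (QuotientGroup.kerLift φ))
    (Units.val_injective.comp (QuotientGroup.kerLift_injective φ)) r (QuotientGroup.lift _ π hle)
    (fun a => ?_) hr rfl
  obtain ⟨h, rfl⟩ := hπ a
  exact ⟨h, rfl⟩

theorem alt_comm_eq_one (hr : 9 ≤ r) : commutator (alternatingGroup (Fin r)) = ⊤ := by
  have := alternatingGroup.isSimpleGroup (α := Fin r) (by simp; omega)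
  rcases Subgroup.Normal.eq_bot_or_eq_top (show (commutator (alternatingGroup (Fin r))).Normal from inferInstance) with h | h
  · exfalso
    have hc := alternatingGroup.center_eq_bot (α := Fin r) (by simp; omega)
    have htop : Subgroup.center (alternatingGroup (Fin r)) = ⊤ := by
      refine eq_top_iff.2 fun x _ => Subgroup.mem_center_iff.2 fun y => ?_
      have hm : ⁅y, x⁆ ∈ commutator (alternatingGroup (Fin r)) :=
        Subgroup.commutator_mem_commutator trivial trivial
      rw [h, Subgroup.mem_bot, commutatorElement_eq_one_iff_mul_comm] at hm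
      exact hm
    rw [hc] at htop
    obtain ⟨a, b, hab⟩ := exists_pair_ne (alternatingGroup (Fin r))
    have e : ∀ x : alternatingGroup (Fin r), x = 1 := fun x =>
      Subgroup.mem_bot.1 (htop ▸ Subgroup.mem_top x)
    exact hab ((e a).trans (e b).symm)
  · exact h

variable (hπ : Function.Surjective π) (hr : 9 ≤ r)
  (hmin : ∀ H' : Subgroup H, H'.map π = ⊤ → H' = ⊤)
include hπ hr hmin

/-- A proper normal subgroup lies in the kernel. -/
theorem normal_le_ker {N : Subgroup H} (hN : N.Normal) (hne : N ≠ ⊤) : N ≤ π.ker := by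
  have := alternatingGroup.isSimpleGroup (α := Fin r) (by simp; omega)
  rcases Subgroup.Normal.eq_bot_or_eq_top (hN.map π hπ) with h | h
  · exact fun x hx => Subgroup.mem_bot.1 (h ▸ Subgroup.mem_map_of_mem π hx)
  · exact absurd (hmin N h) hne

theorem commutator_eq_top : commutator H = ⊤ := hmin _ (by
  rw [commutator_def, Subgroup.map_commutator, Subgroup.map_top_of_surjective π hπ]
  exact alt_comm_eq_one hr)

theorem ker_nilpotent : Group.IsNilpotent π.ker := by
  have := frattini_nilpotent (G := H)
  have hle : π.ker ≤ frattini H := by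
    refine le_iInf₂ fun M hM => ?_
    by_contra hK
    have htop : π.ker ⊔ M = ⊤ := hM.2 _ (right_lt_sup.2 hK)
    have hmap : M.map π = ⊤ := by
      have h := congrArg (Subgroup.map π) htop
      rw [Subgroup.map_sup, Subgroup.map_top_of_surjective π hπ,
        (Subgroup.map_eq_bot_iff _).2 le_rfl, bot_sup_eq] at h
      exact h
    exact hM.1 (hmin M hmap)
  have := Subgroup.isNilpotent (π.ker.subgroupOf (frattini H))
  exact Group.nilpotent_of_mulEquiv (Subgroup.subgroupOfEquivOfLe hle)

theorem eq_one_of_hom_comm {A : Type*} [CommGroup A] (f : H →* A) (h : H) : f h = 1 := by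
  have hh : h ∈ commutator H := by rw [commutator_eq_top hπ hr hmin]; trivial
  exact Abelianization.commutator_subset_ker f hh

theorem exists_ne_one : ∃ h : H, π h ≠ 1 := by
  have := alternatingGroup.isSimpleGroup (α := Fin r) (by simp; omega)
  obtain ⟨a, ha⟩ := exists_ne (1 : alternatingGroup (Fin r))
  obtain ⟨h, rfl⟩ := hπ a
  exact ⟨h, ha⟩

/-- Reduction to irreducible groups. -/
theorem irreducible_or_bound (hρ : Function.Injective ρ) {n : ℕ} (IH : ∀ m < n, SectionBound m)
    (hn : finrank k V = n) :
    Bound k V r ∨ ∀ W : Submodule k V, (∀ h, ∀ v ∈ W, ρ h v ∈ W) → W = ⊥ ∨ W = ⊤ := by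
  refine or_iff_not_imp_left.2 fun hb W hW => ?_
  by_contra hne
  simp only [not_or] at hne
  obtain ⟨hbot, htop⟩ := hne
  have hlt : finrank k W < n := hn ▸ Submodule.finrank_lt htop
  have hltq : finrank k (V ⧸ W) < n := by
    have h1 := Submodule.finrank_quotient_add_finrank W
    have h2 := Submodule.one_le_finrank_iff.2 hbot
    omega
  let ρW : H →* Module.End k W :=
    { toFun := fun h => (ρ h).restrict (hW h)
      map_one' := LinearMap.ext fun v => Subtype.ext (by rw [LinearMap.coe_restrict_apply, map_one]; rfl)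
      map_mul' := fun g h => LinearMap.ext fun v => Subtype.ext (by
        rw [LinearMap.coe_restrict_apply, map_mul]; rfl) }
  let ρQ : H →* Module.End k (V ⧸ W) :=
    { toFun := fun h => W.mapQ W (ρ h) (fun v hv => hW h v hv)
      map_one' := Submodule.linearMap_qext _ (LinearMap.ext fun v => by
        simp [map_one])
      map_mul' := fun g h => Submodule.linearMap_qext _ (LinearMap.ext fun v => by
        simp [map_mul, Module.End.mul_apply]) }
  have key : ∀ {U : Type} [AddCommGroup U] [Module k U] [FiniteDimensional k U] (ρ' : H →* Module.End k U),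
      finrank k U < n → ∀ h, ρ' h = 1 := by
    intro U _ _ _ ρ' hdim h
    set N := ρ'.ker
    by_cases hN : N = ⊤
    · exact MonoidHom.mem_ker.1 ((show ρ'.ker = ⊤ from hN).symm ▸ Subgroup.mem_top h : h ∈ ρ'.ker)
    · exfalso
      have hle := normal_le_ker hπ hr hmin (MonoidHom.normal_ker ρ') hN
      obtain ⟨b1, b2⟩ := descend IH ρ' hπ hr (fun g hg => MonoidHom.mem_ker.1 (hle (MonoidHom.mem_ker.2 hg))) hdim
      exact hb ⟨by omega, fun hne => by have := b2 hne; omega⟩
  have e1 : ∀ h, ∀ v ∈ W, ρ h v = v := fun h v hv => by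
    have := congrArg Subtype.val (LinearMap.congr_fun (key ρW hlt h) ⟨v, hv⟩)
    exact this
  have e2 : ∀ h v, ρ h v - v ∈ W := fun h v => by
    have := LinearMap.congr_fun (key ρQ hltq h) (Submodule.Quotient.mk v)
    exact (Submodule.Quotient.eq W).1 this
  have hab : ∀ g h : H, g * h = h * g := fun g h => hρ (by
    rw [map_mul, map_mul]
    refine LinearMap.ext fun v => ?_
    rw [Module.End.mul_apply, Module.End.mul_apply]
    have eg := e1 g _ (e2 h v)
    have eh := e1 h _ (e2 g v)
    rw [map_sub] at eg eh
    linear_combination (norm := module) eg - eh)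
  letI : CommGroup H := { (inferInstance : Group H) with mul_comm := hab }
  obtain ⟨g, hg⟩ := exists_ne_one hπ hr hmin
  exact hg (by rw [show g = 1 from eq_one_of_hom_comm hπ hr hmin (MonoidHom.id H) g, map_one])

variable (hρ : Function.Injective ρ) (hn : finrank k V < r) (hn0 : 0 < finrank k V)
  (hirr : ∀ W : Submodule k V, (∀ h, ∀ v ∈ W, ρ h v ∈ W) → W = ⊥ ∨ W = ⊤)
include hρ hn hn0 hirr

omit hπ hr hmin hρ hn in
/-- Schur's lemma. -/
theorem scalar_of_commute {T : Module.End k V} (hT : ∀ h, ρ h * T = T * ρ h) : ∃ μ : k, T = μ • 1 := by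
  have : Nontrivial V := Module.nontrivial_of_finrank_pos hn0
  obtain ⟨μ, hμ⟩ := Module.End.exists_eigenvalue T
  refine ⟨μ, ?_⟩
  set W := LinearMap.ker (T - μ • 1) with hW
  obtain ⟨v, hv, hv0⟩ := hμ.exists_hasEigenvector
  have hvW : v ∈ W := by
    rw [hW, LinearMap.mem_ker, LinearMap.sub_apply, LinearMap.smul_apply, Module.End.one_apply,
      Module.End.mem_eigenspace_iff.1 hv, sub_self]
  rcases hirr W (fun h w hw => by
    rw [hW, LinearMap.mem_ker, LinearMap.sub_apply, LinearMap.smul_apply, Module.End.one_apply,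
      sub_eq_zero] at hw ⊢
    rw [← Module.End.mul_apply, ← hT, Module.End.mul_apply, hw, map_smul]) with h | h
  · exact absurd ((Submodule.mem_bot k).1 (h ▸ hvW)) hv0
  · exact sub_eq_zero.1 (LinearMap.ker_eq_top.1 h)

/-- Abelian normal subgroups are central. -/
theorem abelian_normal_le_center {A : Subgroup H} [A.Normal] (hA : ∀ a ∈ A, ∀ b ∈ A, a * b = b * a) :
    A ≤ Subgroup.center H := by
  classical
  have : Nontrivial V := Module.nontrivial_of_finrank_pos hn0
  set W : (A →* k) → Submodule k V := fun χ => ⨅ a : A, LinearMap.ker (ρ a - χ a • 1) with hWdef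
  have hmem : ∀ {χ : A →* k} {v : V}, v ∈ W χ ↔ ∀ a : A, ρ a v = χ a • v := fun {χ v} => by
    simp [hWdef, Submodule.mem_iInf, LinearMap.mem_ker, sub_eq_zero]
  -- a common eigenvector
  obtain ⟨χ0, hχ0⟩ : ∃ χ, W χ ≠ ⊥ := by
    have hex : ∃ m, ∃ U : Submodule k V, U ≠ ⊥ ∧ (∀ a : A, ∀ v ∈ U, ρ a v ∈ U) ∧ finrank k U = m :=
      ⟨_, ⊤, top_ne_bot, fun _ _ _ => Submodule.mem_top, rfl⟩
    obtain ⟨U, hU0, hUA, hUm⟩ := Nat.find_spec hex
    have hsc : ∀ a : A, ∃ μ : k, ∀ v ∈ U, ρ a v = μ • v := by
      intro a
      have : Nontrivial U := Submodule.nontrivial_iff_ne_bot.2 hU0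
      obtain ⟨μ, hμ⟩ := Module.End.exists_eigenvalue ((ρ a).restrict (hUA a))
      obtain ⟨v, hv, hv0⟩ := hμ.exists_hasEigenvector
      set U' := U ⊓ LinearMap.ker (ρ (a : H) - μ • 1) with hU'
      have hvU' : (v : V) ∈ U' := by
        refine Submodule.mem_inf.2 ⟨v.2, ?_⟩
        have h := congrArg Subtype.val (Module.End.mem_eigenspace_iff.1 hv)
        rw [LinearMap.coe_restrict_apply, Submodule.coe_smul] at h
        rw [LinearMap.mem_ker, LinearMap.sub_apply, LinearMap.smul_apply, Module.End.one_apply, h, sub_self]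
      have hne : U' ≠ ⊥ := fun h => hv0 (Subtype.ext ((Submodule.mem_bot k).1 (h ▸ hvU')))
      have hst : ∀ b : A, ∀ w ∈ U', ρ b w ∈ U' := by
        intro b w hw
        obtain ⟨h1, h2⟩ := Submodule.mem_inf.1 hw
        refine Submodule.mem_inf.2 ⟨hUA b w h1, ?_⟩
        rw [LinearMap.mem_ker, LinearMap.sub_apply, LinearMap.smul_apply, Module.End.one_apply,
          sub_eq_zero] at h2 ⊢
        rw [← Module.End.mul_apply, ← map_mul, hA a a.2 b b.2, map_mul, Module.End.mul_apply, h2,
          map_smul]
      have hmin' := Nat.find_min' hex ⟨U', hne, hst, rfl⟩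
      have heq : U' = U := Submodule.eq_of_le_of_finrank_le inf_le_left (by omega)
      refine ⟨μ, fun w hw => ?_⟩
      have := (Submodule.mem_inf.1 (heq.symm ▸ hw : w ∈ U')).2
      rwa [LinearMap.mem_ker, LinearMap.sub_apply, LinearMap.smul_apply, Module.End.one_apply,
        sub_eq_zero] at this
    choose f hf using hsc
    obtain ⟨v, hv, hv0⟩ := Submodule.exists_mem_ne_zero_of_ne_bot hU0
    refine ⟨{ toFun := f, map_one' := ?_, map_mul' := fun a b => ?_ }, ?_⟩
    · have h := hf 1 v hv
      rw [OneMemClass.coe_one, map_one, Module.End.one_apply] at h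
      exact (smul_left_injective k hv0 (h.symm.trans (one_smul k v).symm))
    · refine smul_left_injective k hv0 ?_
      show f (a * b) • v = (f a * f b) • v
      rw [← hf (a * b) v hv, Subgroup.coe_mul, map_mul, Module.End.mul_apply, hf b v hv, map_smul,
        hf a v hv, smul_smul, mul_comm]
    · exact fun h => hv0 ((Submodule.mem_bot k).1 (h ▸ hmem.2 fun a => hf a v hv))
  -- the weights
  set Λ := {χ : A →* k // W χ ≠ ⊥} with hΛ
  have hindep : ∀ s : Finset Λ, s.card ≤ finrank k V := by
    intro s
    have hv : ∀ χ : Λ, ∃ v ∈ W χ.1, v ≠ 0 := fun χ => Submodule.exists_mem_ne_zero_of_ne_bot χ.2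
    choose v hvW hv0 using hv
    have hli : LinearIndependent k fun χ : s => v χ.1 := by
      rw [Fintype.linearIndependent_iff]
      intro c hc χ
      by_contra hcne
      have hφ : ∀ φ : Module.Dual k V, c χ * φ (v χ.1) = 0 := by
        intro φ
        have hfun : ∑ x : s, (c x * φ (v x.1)) • ((x.1.1 : A →* k) : A → k) = 0 := by
          funext a
          simp only [Finset.sum_apply, Pi.smul_apply, Pi.zero_apply, smul_eq_mul]
          have h := congrArg (fun w => φ (ρ (a : H) w)) hc
          simp only [map_sum, map_smul, hmem.1 (hvW _) a, map_zero, smul_eq_mul] at h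
          rw [← h]
          exact Finset.sum_congr rfl fun x _ => by ring
        exact Fintype.linearIndependent_iff.1
          ((linearIndependent_monoidHom A k).comp (fun x : s => x.1.1)
            (fun x y h => Subtype.ext (Subtype.ext h))) _ hfun χ
      exact hv0 χ.1 ((Module.forall_dual_apply_eq_zero_iff k _).1
        fun φ => (mul_eq_zero.1 (hφ φ)).resolve_left hcne)
    simpa using hli.fintype_card_le_finrank
  have : Finite Λ := by
    by_contra hinf
    rw [not_finite_iff_infinite] at hinf
    obtain ⟨s, hs⟩ := Infinite.exists_subset_card_eq Λ (finrank k V + 1)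
    have := hindep s
    omega
  have : Fintype Λ := Fintype.ofFinite Λ
  have hcardΛ : Fintype.card Λ ≤ finrank k V := hindep Finset.univ
  -- the action on the weights
  let tw : H → (A →* k) → (A →* k) := fun h χ =>
    χ.comp ((MulAut.conjNormal h⁻¹ : MulAut A).toMonoidHom)
  have htw : ∀ (h : H) (χ : A →* k) (a : A), tw h χ a = χ ⟨h⁻¹ * a * h, by
      simpa using Subgroup.Normal.conj_mem (inferInstance : A.Normal) a a.2 h⁻¹⟩ := fun h χ a => by
    show χ _ = χ _
    congr 1
    refine Subtype.ext ?_
    simp [MulAut.conjNormal_apply]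
  have hmove : ∀ (h : H) (χ : A →* k) (v : V), v ∈ W χ → ρ h v ∈ W (tw h χ) := by
    intro h χ v hv
    refine hmem.2 fun a => ?_
    rw [htw, ← map_smul, ← hmem.1 hv, ← Module.End.mul_apply, ← Module.End.mul_apply, ← map_mul,
      ← map_mul]
    congr 2
    group
  have htwmul : ∀ g h χ, tw (g * h) χ = tw g (tw h χ) := by
    intro g h χ
    refine MonoidHom.ext fun a => ?_
    rw [htw, htw, htw]
    congr 1
    exact Subtype.ext (by group)
  let act : H →* Equiv.Perm Λ :=
    MonoidHom.mk' (fun h =>
      { toFun := fun χ => ⟨tw h χ.1, fun hbot => χ.2 (by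
          rw [Submodule.eq_bot_iff]
          intro v hv
          have := hmove h χ.1 v hv
          rw [hbot, Submodule.mem_bot] at this
          have h2 : ρ h⁻¹ (ρ h v) = v := by
            rw [← Module.End.mul_apply, ← map_mul, inv_mul_cancel, map_one, Module.End.one_apply]
          rw [this, map_zero] at h2
          exact h2.symm)⟩
        invFun := fun χ => ⟨tw h⁻¹ χ.1, fun hbot => χ.2 (by
          rw [Submodule.eq_bot_iff]
          intro v hv
          have := hmove h⁻¹ χ.1 v hv
          rw [hbot, Submodule.mem_bot] at this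
          have h2 : ρ h (ρ h⁻¹ v) = v := by
            rw [← Module.End.mul_apply, ← map_mul, mul_inv_cancel, map_one, Module.End.one_apply]
          rw [this, map_zero] at h2
          exact h2.symm)⟩
        left_inv := fun χ => Subtype.ext (by
          show tw h⁻¹ (tw h χ.1) = χ.1
          rw [← htwmul, inv_mul_cancel]
          refine MonoidHom.ext fun a => ?_
          rw [htw]
          congr 1
          exact Subtype.ext (by group))
        right_inv := fun χ => Subtype.ext (by
          show tw h (tw h⁻¹ χ.1) = χ.1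
          rw [← htwmul, mul_inv_cancel]
          refine MonoidHom.ext fun a => ?_
          rw [htw]
          congr 1
          exact Subtype.ext (by group)) })
      (fun g h => Equiv.ext fun χ => Subtype.ext (htwmul g h χ.1))
  by_cases htriv : act.ker = ⊤
  · intro a ha
    have hW : W χ0 = ⊤ := by
      refine (hirr _ fun h v hv => ?_).resolve_left hχ0
      have h1 : act h = 1 := MonoidHom.mem_ker.1 (htriv ▸ Subgroup.mem_top h)
      have h2 : tw h χ0 = χ0 := congrArg Subtype.val (DFunLike.congr_fun h1 (⟨χ0, hχ0⟩ : Λ))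
      exact h2 ▸ hmove h χ0 v hv
    have hsc : ρ a = χ0 ⟨a, ha⟩ • 1 := LinearMap.ext fun v =>
      hmem.1 (hW ▸ Submodule.mem_top : v ∈ W χ0) ⟨a, ha⟩
    refine Subgroup.mem_center_iff.2 fun g => hρ ?_
    rw [map_mul, map_mul, hsc, mul_smul_comm, smul_mul_assoc, one_mul, mul_one]
  · exfalso
    have hle := normal_le_ker hπ hr hmin (MonoidHom.normal_ker act) htriv
    have hsurj : Function.Surjective (QuotientGroup.lift act.ker π hle) := fun x => by
      obtain ⟨g, rfl⟩ := hπ x
      exact ⟨g, rfl⟩
    have c1 := Nat.card_le_card_of_surjective _ hsurj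
    have c2 := Nat.card_le_card_of_injective _ (QuotientGroup.kerLift_injective act)
    have : Nontrivial (Fin r) := Fin.nontrivial_iff_two_le.2 (by omega)
    have c3 := two_mul_nat_card_alternatingGroup (α := Fin r)
    rw [Nat.card_perm, Nat.card_fin] at c3
    rw [Nat.card_perm, Nat.card_eq_fintype_card (α := Λ)] at c2
    have c4 : (Fintype.card Λ).factorial ≤ (r - 1).factorial := Nat.factorial_le (by omega)
    have c5 : r.factorial = r * (r - 1).factorial := (Nat.mul_factorial_pred (by omega)).symm
    have c6 := Nat.factorial_pos (r - 1)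
    nlinarith

end Cfsg.Agent.H85.AltDeg
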