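import Cfsg.Agent.H85.AltDeg.Basic

/-!
Modules of alternating groups over fields of characteristic different from two: the weight spaces
of the four-groups on four points.
-/

set_option autoImplicit false
set_option linter.unusedSectionVars false

namespace Cfsg.Agent.H85.AltDeg

open Module Submodule Equiv

universe u v w

variable {α : Type u} [Fintype α] [DecidableEq α] {k : Type w} [Field k]
  {V : Type v} [AddCommGroup V] [Module k V] (ρ : alternatingGroup α →* Module.End k V)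

/-- The weight space on which `(a b)(c d)` is `1` and `(a c)(b d)` is `-1`. -/
def wt (a b c d : α) : Submodule k V :=
  LinearMap.ker (ρ (dt a b c d) - 1) ⊓ LinearMap.ker (ρ (dt a c b d) + 1)

/-- The sum of the three non-trivial weight spaces. -/
def blockSpace (a b c d : α) : Submodule k V := wt ρ a b c d ⊔ wt ρ a c d b ⊔ wt ρ a d b c

/-- The subspace negated by an element. -/
def negSpace (g : alternatingGroup α) : Submodule k V := LinearMap.ker (ρ g + 1)

variable {ρ} {a b c d e f g : α} {x : V}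

theorem mem_negSpace {g : alternatingGroup α} : x ∈ negSpace ρ g ↔ ρ g x = -x := by
  rw [negSpace, LinearMap.mem_ker, LinearMap.add_apply, Module.End.one_apply, add_eq_zero_iff_eq_neg]

theorem mem_wt : x ∈ wt ρ a b c d ↔ ρ (dt a b c d) x = x ∧ ρ (dt a c b d) x = -x := by
  rw [wt, Submodule.mem_inf, LinearMap.mem_ker, LinearMap.mem_ker, LinearMap.sub_apply,
    LinearMap.add_apply, Module.End.one_apply, sub_eq_zero, add_eq_zero_iff_eq_neg]

theorem map_wt_le (g : alternatingGroup α) (a b c d : α) : (wt ρ a b c d).map (ρ g) ≤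
    wt ρ ((g : Perm α) a) ((g : Perm α) b) ((g : Perm α) c) ((g : Perm α) d) := by
  rintro _ ⟨y, hy, rfl⟩
  obtain ⟨h1, h2⟩ := mem_wt.1 hy
  rw [mem_wt, ← conj_dt, ← conj_dt]
  constructor
  · rw [apply_mul, inv_mul_cancel_right, ← apply_mul, h1]
  · rw [apply_mul, inv_mul_cancel_right, ← apply_mul, h2, map_neg]

theorem finrank_wt_le [FiniteDimensional k V] (g : alternatingGroup α) (a b c d : α) :
    finrank k (wt ρ a b c d) ≤
      finrank k (wt ρ ((g : Perm α) a) ((g : Perm α) b) ((g : Perm α) c) ((g : Perm α) d)) :=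
  le_trans (le_of_eq (Submodule.equivMapOfInjective _ (rho_injective g) _).finrank_eq)
    (Submodule.finrank_mono (map_wt_le g a b c d))

theorem finrank_wt_eq [FiniteDimensional k V] (q : Quad a b c d) {a' b' c' d' : α}
    (q' : Quad a' b' c' d') (h6 : 6 ≤ Fintype.card α) :
    finrank k (wt ρ a b c d) = finrank k (wt ρ a' b' c' d') := by
  refine le_antisymm ?_ ?_
  · obtain ⟨g, ha, hb, hc, hd⟩ := q.move q' h6
    have h := finrank_wt_le (ρ := ρ) g a b c d
    rwa [ha, hb, hc, hd] at h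
  · obtain ⟨g, ha, hb, hc, hd⟩ := q'.move q h6
    have h := finrank_wt_le (ρ := ρ) g a' b' c' d'
    rwa [ha, hb, hc, hd] at h

/-- The three weights. -/
theorem wt_values (q : Quad a b c d) :
    (∀ y ∈ wt ρ a b c d, ρ (dt a b c d) y = y ∧ ρ (dt a c b d) y = -y ∧ ρ (dt a d b c) y = -y) ∧
    (∀ y ∈ wt ρ a c d b, ρ (dt a b c d) y = -y ∧ ρ (dt a c b d) y = y ∧ ρ (dt a d b c) y = -y) ∧
    (∀ y ∈ wt ρ a d b c, ρ (dt a b c d) y = -y ∧ ρ (dt a c b d) y = -y ∧ ρ (dt a d b c) y = y) := by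
  refine ⟨fun y hy => ?_, fun y hy => ?_, fun y hy => ?_⟩
  · obtain ⟨h1, h2⟩ := mem_wt.1 hy
    refine ⟨h1, h2, ?_⟩
    rw [← dt_mul_dt q, ← apply_mul, h2, map_neg, h1]
  · obtain ⟨h1, h2⟩ := mem_wt.1 hy
    rw [dt_swap_right q.ac q.bd] at h1
    rw [dt_swap_right q.ad q.bc] at h2
    refine ⟨?_, h1, h2⟩
    have h3 : ρ (dt a b c d) (ρ (dt a c b d) y) = ρ (dt a d b c) y := by rw [apply_mul, dt_mul_dt q]
    rwa [h1, h2] at h3
  · obtain ⟨h1, h2⟩ := mem_wt.1 hy
    rw [dt_swap_right q.ab q.cd] at h2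
    refine ⟨h2, ?_, h1⟩
    have h3 : ρ (dt a b c d) (ρ (dt a b c d) (ρ (dt a c b d) y)) = ρ (dt a b c d) y := by
      rw [apply_mul (dt a b c d) (dt a c b d) y, dt_mul_dt q, h1]
    rwa [apply_mul (dt a b c d) (dt a b c d), dt_sq q, map_one, Module.End.one_apply, h2] at h3

theorem four_sum_eq_zero (h2 : (2 : k) ≠ 0) (q : Quad a b c d) {x1 x2 x3 x0 : V}
    (h1 : x1 ∈ wt ρ a b c d) (h2' : x2 ∈ wt ρ a c d b) (h3 : x3 ∈ wt ρ a d b c)
    (hA : ρ (dt a b c d) x0 = x0) (hB : ρ (dt a c b d) x0 = x0) (hsum : x1 + x2 + x3 + x0 = 0) :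
    x1 = 0 ∧ x2 = 0 ∧ x3 = 0 ∧ x0 = 0 := by
  obtain ⟨v1, v2, v3⟩ := wt_values (ρ := ρ) q
  obtain ⟨a1, b1, -⟩ := v1 _ h1
  obtain ⟨a2, b2, -⟩ := v2 _ h2'
  obtain ⟨a3, b3, -⟩ := v3 _ h3
  have eA := congrArg (ρ (dt a b c d)) hsum
  have eB := congrArg (ρ (dt a c b d)) hsum
  simp only [map_add, map_zero, a1, a2, a3, hA] at eA
  simp only [map_add, map_zero, b1, b2, b3, hB] at eB
  have f1 : (2 : k) • (x1 + x0) = 0 := by
    rw [two_smul]
    linear_combination (norm := module) hsum + eA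
  have f2 : (2 : k) • (x2 + x0) = 0 := by
    rw [two_smul]
    linear_combination (norm := module) hsum + eB
  have f3 : (2 : k) • (x3 + x0) = 0 := by
    rw [two_smul]
    have hC := congrArg (ρ (dt a b c d)) eB
    simp only [map_add, map_neg, map_zero, a1, a2, a3, hA] at hC
    linear_combination (norm := module) hsum + hC
  rw [smul_eq_zero, or_iff_right h2] at f1 f2 f3
  have f0 : (2 : k) • x0 = 0 := by
    rw [two_smul]
    linear_combination (norm := module) f1 + f2 + f3 - hsum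
  rw [smul_eq_zero, or_iff_right h2] at f0
  rw [f0, add_zero] at f1 f2 f3
  exact ⟨f1, f2, f3, f0⟩

variable [FiniteDimensional k V]

theorem finrank_wt_rot (q : Quad a b c d) :
    finrank k (wt ρ a c d b) = finrank k (wt ρ a b c d) ∧
      finrank k (wt ρ a d b c) = finrank k (wt ρ a b c d) := by
  have hr : ∀ a' b' c' d' : α, Quad a' b' c' d' →
      finrank k (wt ρ a' b' c' d') ≤ finrank k (wt ρ a' c' d' b') := fun a' b' c' d' q' => by
    have h := finrank_wt_le (ρ := ρ) (cy b' c' d') a' b' c' d'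
    rwa [cy_apply_other q'.ab q'.ac q'.ad, cy_apply_fst q'.bc q'.cd q'.bd,
      cy_apply_snd q'.bc q'.cd q'.bd, cy_apply_thd q'.bc q'.cd q'.bd] at h
  have h1 := hr a b c d q
  have h2 := hr a c d b q.rot
  have h3 := hr a d b c q.rot.rot
  omega

theorem wt_inf (h2 : (2 : k) ≠ 0) (q : Quad a b c d) : wt ρ a b c d ⊓ wt ρ a c d b = ⊥ ∧
    (wt ρ a b c d ⊔ wt ρ a c d b) ⊓ wt ρ a d b c = ⊥ := by
  constructor
  · rw [Submodule.eq_bot_iff]
    rintro y ⟨h, h'⟩
    have := four_sum_eq_zero (x1 := y) (x2 := -y) (x3 := 0) (x0 := 0) h2 q h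
      (Submodule.neg_mem _ h') (Submodule.zero_mem _) (map_zero _) (map_zero _) (by simp)
    exact this.1
  · rw [Submodule.eq_bot_iff]
    rintro y ⟨h, h'⟩
    obtain ⟨y1, hy1, y2, hy2, rfl⟩ := Submodule.mem_sup.1 h
    have := four_sum_eq_zero (x1 := y1) (x2 := y2) (x3 := -(y1 + y2)) (x0 := 0) h2 q hy1 hy2
      (Submodule.neg_mem _ h') (map_zero _) (map_zero _) (by simp)
    simp [this.1, this.2.1]

theorem finrank_blockSpace (h2 : (2 : k) ≠ 0) (q : Quad a b c d) :
    finrank k (blockSpace ρ a b c d) = 3 * finrank k (wt ρ a b c d) := by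
  obtain ⟨i1, i2⟩ := wt_inf (ρ := ρ) h2 q
  have e1 := Submodule.finrank_sup_add_finrank_inf_eq (wt ρ a b c d) (wt ρ a c d b)
  have e2 := Submodule.finrank_sup_add_finrank_inf_eq (wt ρ a b c d ⊔ wt ρ a c d b) (wt ρ a d b c)
  rw [i1, finrank_bot] at e1
  rw [i2, finrank_bot] at e2
  obtain ⟨r1, r2⟩ := finrank_wt_rot (ρ := ρ) q
  rw [blockSpace]
  omega

theorem three_mul_finrank_wt_le (h2 : (2 : k) ≠ 0) (q : Quad a b c d) :
    3 * finrank k (wt ρ a b c d) ≤ finrank k V :=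
  finrank_blockSpace (ρ := ρ) h2 q ▸ Submodule.finrank_le (blockSpace ρ a b c d)

theorem blockSpace_fixed_eq_zero (h2 : (2 : k) ≠ 0) (q : Quad a b c d) (hx : x ∈ blockSpace ρ a b c d)
    (hA : ρ (dt a b c d) x = x) (hB : ρ (dt a c b d) x = x) : x = 0 := by
  obtain ⟨y, hy, x3, h3, rfl⟩ := Submodule.mem_sup.1 hx
  obtain ⟨x1, h1, x2, h2', rfl⟩ := Submodule.mem_sup.1 hy
  exact neg_eq_zero.1 (four_sum_eq_zero (x0 := -(x1 + x2 + x3)) h2 q h1 h2' h3
    (by rw [map_neg, hA]) (by rw [map_neg, hB]) (by abel)).2.2.2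

/-- A vector negated by `(a b)(c d)` splits into two weights. -/
theorem negSpace_eq (h2 : (2 : k) ≠ 0) (q : Quad a b c d) :
    negSpace ρ (dt a b c d) = wt ρ a c d b ⊔ wt ρ a d b c := by
  refine le_antisymm (fun y hy => ?_) (sup_le (fun y hy => mem_negSpace.2 ((wt_values q).2.1 y hy).1)
    fun y hy => mem_negSpace.2 ((wt_values q).2.2 y hy).1)
  rw [mem_negSpace] at hy
  set B := dt a c b d with hBdef
  have hA : ρ (dt a b c d) (ρ B y) = -ρ B y := by
    rw [apply_comm (dt_commute q), hy, map_neg]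
  have hBB : ρ B (ρ B y) = y := by
    rw [apply_mul, hBdef, dt_mul_self q.ac q.bd q.ab q.ad q.bc.symm q.cd, map_one,
      Module.End.one_apply]
  have hC : ∀ z : V, ρ (dt a d b c) z = ρ (dt a b c d) (ρ B z) := fun z => by
    rw [apply_mul, dt_mul_dt q]
  have m1 : y + ρ B y ∈ wt ρ a c d b := by
    rw [mem_wt, dt_swap_right q.ac q.bd, dt_swap_right q.ad q.bc, hC]
    simp only [← hBdef, map_add, hBB, hy, hA]
    constructor <;> abel
  have m2 : y - ρ B y ∈ wt ρ a d b c := by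
    rw [mem_wt, dt_swap_right q.ab q.cd, hC]
    simp only [map_sub, hBB, hy, hA]
    constructor <;> abel
  have : y = (2 : k)⁻¹ • ((y + ρ B y) + (y - ρ B y)) := by
    rw [show (y + ρ B y) + (y - ρ B y) = (2 : k) • y by rw [two_smul]; abel, smul_smul,
      inv_mul_cancel₀ h2, one_smul]
  rw [this]
  exact Submodule.smul_mem _ _ (Submodule.add_mem_sup m1 m2)

theorem finrank_negSpace (h2 : (2 : k) ≠ 0) (q : Quad a b c d) :
    finrank k (negSpace ρ (dt a b c d)) = 2 * finrank k (wt ρ a b c d) := by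
  obtain ⟨-, i2⟩ := wt_inf (ρ := ρ) h2 q.rot
  have e := Submodule.finrank_sup_add_finrank_inf_eq (wt ρ a c d b) (wt ρ a d b c)
  rw [(wt_inf (ρ := ρ) h2 q.rot).1, finrank_bot, ← negSpace_eq h2 q] at e
  obtain ⟨r1, r2⟩ := finrank_wt_rot (ρ := ρ) q
  omega

theorem negSpace_le_blockSpace (h2 : (2 : k) ≠ 0) (q : Quad a b c d) :
    negSpace ρ (dt a b c d) ≤ blockSpace ρ a b c d := by
  rw [negSpace_eq h2 q, blockSpace]
  exact sup_le (le_sup_right.trans le_sup_left) le_sup_right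

theorem wt_pos_of_dt_ne_one (h2 : (2 : k) ≠ 0) (q : Quad a b c d) (h : ρ (dt a b c d) ≠ 1) :
    0 < finrank k (wt ρ a b c d) := by
  have hne : negSpace ρ (dt a b c d) ≠ ⊥ := by
    intro hbot
    refine h (LinearMap.ext fun y => ?_)
    have hm : y - ρ (dt a b c d) y ∈ negSpace ρ (dt a b c d) := by
      rw [mem_negSpace, map_sub, apply_mul, dt_sq q, map_one, Module.End.one_apply]
      abel
    rw [hbot, Submodule.mem_bot, sub_eq_zero] at hm
    exact hm.symm
  have h3 := Submodule.one_le_finrank_iff.2 hne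
  rw [finrank_negSpace h2 q] at h3
  omega

theorem exists_dt_ne_one (h5 : 5 ≤ Fintype.card α) (hn : Nontriv ρ) :
    ∃ a b c d : α, Quad a b c d ∧ ρ (dt a b c d) ≠ 1 := by
  by_contra hne
  simp only [not_exists, not_and, not_not] at hne
  obtain ⟨a, b, c, hab, hbc, hac, hx⟩ := hn
  obtain ⟨d, hd⟩ := exists_avoid [a, b, c] (by simp; omega)
  obtain ⟨e, he⟩ := exists_avoid [a, b, c, d] (by simp; omega)
  simp only [List.mem_cons, List.not_mem_nil, or_false, not_or] at hd he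
  obtain ⟨hda, hdb, hdc⟩ := hd
  obtain ⟨hea, heb, hec, hed⟩ := he
  have e1 : ρ (cy a b c) * ρ (cy a b d) = 1 := by
    rw [← map_mul, cy_mul_cy hab hbc hac (Ne.symm hda) (Ne.symm hdb) (Ne.symm hdc)]
    exact hne _ _ _ _ ⟨hac, hab, (Ne.symm hda), hbc.symm, (Ne.symm hdc), (Ne.symm hdb)⟩
  have e2 : ρ (cy a b c) * ρ (cy a b e) = 1 := by
    rw [← map_mul, cy_mul_cy hab hbc hac (Ne.symm hea) (Ne.symm heb) (Ne.symm hec)]
    exact hne _ _ _ _ ⟨hac, hab, (Ne.symm hea), hbc.symm, (Ne.symm hec), (Ne.symm heb)⟩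
  have e3 : ρ (cy a b d) * ρ (cy a b e) = 1 := by
    rw [← map_mul, cy_mul_cy hab (Ne.symm hdb) (Ne.symm hda) (Ne.symm hea) (Ne.symm heb) (Ne.symm hed)]
    exact hne _ _ _ _ ⟨(Ne.symm hda), hab, (Ne.symm hea), hdb, (Ne.symm hed), (Ne.symm heb)⟩
  have e4 : ∀ x y z : α, ρ (cy x y z) * ρ (cy x y z) * ρ (cy x y z) = 1 := fun x y z => by
    rw [← map_mul, ← map_mul, ← pow_three', cy_pow_three, map_one]
  have hde : ρ (cy a b d) = ρ (cy a b e) := by
    have := congrArg (fun z => ρ (cy a b c) * ρ (cy a b c) * z) (e1.trans e2.symm)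
    simpa only [← mul_assoc, e4, one_mul] using this
  have hd1 : ρ (cy a b d) = 1 := by
    have h4 := e4 a b d
    nth_rewrite 2 [hde] at h4
    rwa [e3, one_mul] at h4
  rw [hd1, mul_one] at e1
  exact hx e1

/-- In odd characteristic every non-trivial module has dimension at least three, and at least four
from seven points on. -/
theorem small_degree (h2 : (2 : k) ≠ 0) (h5 : 5 ≤ Fintype.card α) (hn : Nontriv ρ) :
    3 ≤ finrank k V ∧ (7 ≤ Fintype.card α → 4 ≤ finrank k V) := by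
  obtain ⟨a, b, c, d, q, hA⟩ := exists_dt_ne_one h5 hn
  have hpos := wt_pos_of_dt_ne_one h2 q hA
  have hle := three_mul_finrank_wt_le (ρ := ρ) h2 q
  refine ⟨by omega, fun h7 => ?_⟩
  by_contra hlt
  have hb : finrank k (wt ρ a b c d) = 1 := by omega
  have hW : blockSpace ρ a b c d = ⊤ :=
    Submodule.eq_top_of_finrank_eq (by rw [finrank_blockSpace h2 q]; omega)
  obtain ⟨e, he⟩ := exists_avoid [a, b, c, d] (by simp; omega)
  obtain ⟨f, hf⟩ := exists_avoid [a, b, c, d, e] (by simp; omega)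
  obtain ⟨g, hg⟩ := exists_avoid [a, b, c, d, e, f] (by simp; omega)
  simp only [List.mem_cons, List.not_mem_nil, or_false, not_or] at he hf hg
  obtain ⟨hea, heb, hec, hed⟩ := he
  obtain ⟨hfa, hfb, hfc, hfd, hfe⟩ := hf
  obtain ⟨hga, hgb, hgc, hgd, hge, hgf⟩ := hg
  set z := cy e f g with hzdef
  have za : (z : Perm α) a = a := cy_apply_other (Ne.symm hea) (Ne.symm hfa) (Ne.symm hga)
  have zb : (z : Perm α) b = b := cy_apply_other (Ne.symm heb) (Ne.symm hfb) (Ne.symm hgb)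
  have zc : (z : Perm α) c = c := cy_apply_other (Ne.symm hec) (Ne.symm hfc) (Ne.symm hgc)
  have zd : (z : Perm α) d = d := cy_apply_other (Ne.symm hed) (Ne.symm hfd) (Ne.symm hgd)
  have hzh : Commute z (cy b c d) := commute_cy zb zc zd
  have hne : wt ρ a b c d ≠ ⊥ := fun h => by rw [h, finrank_bot] at hb; omega
  obtain ⟨y, hy, hy0⟩ := Submodule.exists_mem_ne_zero_of_ne_bot hne
  have hline : ∀ w ∈ wt ρ a b c d, ∃ t : k, w = t • y := fun w hw => by
    obtain ⟨t, ht⟩ := (finrank_eq_one_iff_of_nonzero' (⟨y, hy⟩ : wt ρ a b c d) (by simpa using hy0)).1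
      hb ⟨w, hw⟩
    exact ⟨t, (congrArg Subtype.val ht).symm⟩
  obtain ⟨μ, hμ⟩ : ∃ t : k, ρ z y = t • y := hline _ (by
    have h := map_wt_le (ρ := ρ) z a b c d (Submodule.mem_map_of_mem hy)
    rwa [za, zb, zc, zd] at h)
  have hscal : ρ z = μ • 1 := by
    have hsub : blockSpace ρ a b c d ≤ LinearMap.ker (ρ z - μ • 1) := by
      have h1 : wt ρ a b c d ≤ LinearMap.ker (ρ z - μ • 1) := fun w hw => by
        obtain ⟨t, rfl⟩ := hline w hw
        simp [hμ, smul_comm t]
      have hstep : ∀ (P Q : Submodule k V), finrank k Q ≤ finrank k P →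
          P.map (ρ (cy b c d)) ≤ Q → P ≤ LinearMap.ker (ρ z - μ • 1) →
          Q ≤ LinearMap.ker (ρ z - μ • 1) := by
        intro P Q hfr hmap hP
        have heq : P.map (ρ (cy b c d)) = Q := Submodule.eq_of_le_of_finrank_le hmap
          (hfr.trans (le_of_eq (Submodule.equivMapOfInjective _ (rho_injective _) P).finrank_eq))
        rw [← heq]
        rintro _ ⟨w, hw, rfl⟩
        have := hP hw
        simp only [LinearMap.mem_ker, LinearMap.sub_apply, LinearMap.smul_apply, Module.End.one_apply,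
          sub_eq_zero] at this ⊢
        rw [apply_comm hzh, this, map_smul]
      obtain ⟨r1, r2⟩ := finrank_wt_rot (ρ := ρ) q
      have hm : ∀ a' b' c' d' : α, Quad a' b' c' d' →
          (wt ρ a' b' c' d').map (ρ (cy b' c' d')) ≤ wt ρ a' c' d' b' := fun a' b' c' d' q' => by
        have h := map_wt_le (ρ := ρ) (cy b' c' d') a' b' c' d'
        rwa [cy_apply_other q'.ab q'.ac q'.ad, cy_apply_fst q'.bc q'.cd q'.bd,
          cy_apply_snd q'.bc q'.cd q'.bd, cy_apply_thd q'.bc q'.cd q'.bd] at h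
      have h2' := hstep _ _ (le_of_eq r1) (hm a b c d q) h1
      have hm2 := hm a c d b q.rot
      rw [cy_rotate q.bc q.cd q.bd] at hm2
      exact sup_le (sup_le h1 h2') (hstep _ _ (by omega) hm2 h2')
    rw [hW, top_le_iff] at hsub
    exact sub_eq_zero.1 (LinearMap.ker_eq_top.1 hsub)
  obtain ⟨g0, hg0⟩ := exists_move (j := 3) (by omega) ![e, f, g] ![f, e, g]
    (List.nodup_ofFn.1 (by simp [List.ofFn_succ, Ne.symm hfe, Ne.symm hge, Ne.symm hgf]))
    (List.nodup_ofFn.1 (by simp [List.ofFn_succ, hfe, Ne.symm hge, Ne.symm hgf]))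
  have hconj := conj_cy g0 e f g
  rw [show (g0 : Perm α) e = f from hg0 0, show (g0 : Perm α) f = e from hg0 1,
    show (g0 : Perm α) g = g from hg0 2,
    cy_rotate hgf hfe hge,
    ← cy_inv (Ne.symm hfe) (Ne.symm hgf) (Ne.symm hge)] at hconj
  have hinv : ρ z⁻¹ = ρ z := by
    rw [hzdef, ← hconj, map_mul, map_mul, ← hzdef, hscal]
    rw [mul_smul_comm, mul_one, smul_mul_assoc, ← map_mul, mul_inv_cancel, map_one]
  have hsq : ρ z * ρ z = 1 := by
    nth_rewrite 1 [← hinv]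
    rw [← map_mul, inv_mul_cancel, map_one]
  have hcube : ρ z * ρ z * ρ z = 1 := by
    rw [← map_mul, ← map_mul, ← pow_three', hzdef, cy_pow_three, map_one]
  rw [hsq, one_mul] at hcube
  exact cy_ne_one_of_nontriv hn h5 (Ne.symm hfe) (Ne.symm hgf) (Ne.symm hge) (hzdef ▸ hcube)

end Cfsg.Agent.H85.AltDeg
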