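import Mathlib.GroupTheory.SpecificGroups.Alternating
import Mathlib.GroupTheory.Perm.Cycle.Type
import Mathlib.GroupTheory.GroupAction.MultipleTransitivity

/-!
Three-cycles and double transpositions as elements of the alternating group, and moving tuples.
-/

set_option autoImplicit false

namespace Cfsg.Agent.H85.AltDeg

open Equiv Equiv.Perm

variable {α : Type*} [Fintype α] [DecidableEq α]

/-- The cycle `a ↦ b ↦ c ↦ a` (and `1` when the points are not distinct). -/
def cy (a b c : α) : alternatingGroup α :=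
  if h : a ≠ b ∧ b ≠ c ∧ a ≠ c then
    ⟨swap a b * swap b c, by
      rw [mem_alternatingGroup, map_mul, sign_swap h.1, sign_swap h.2.1]; rfl⟩
  else 1

variable {a b c d e f : α}

theorem cy_coe (hab : a ≠ b) (hbc : b ≠ c) (hac : a ≠ c) :
    ((cy a b c : alternatingGroup α) : Perm α) = swap a b * swap b c := by
  rw [cy, dif_pos ⟨hab, hbc, hac⟩]

theorem cy_apply_fst (hab : a ≠ b) (hbc : b ≠ c) (hac : a ≠ c) :
    ((cy a b c : alternatingGroup α) : Perm α) a = b := by
  rw [cy_coe hab hbc hac, Perm.mul_apply, swap_apply_of_ne_of_ne hab hac, swap_apply_left]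

theorem cy_apply_snd (hab : a ≠ b) (hbc : b ≠ c) (hac : a ≠ c) :
    ((cy a b c : alternatingGroup α) : Perm α) b = c := by
  rw [cy_coe hab hbc hac, Perm.mul_apply, swap_apply_left, swap_apply_of_ne_of_ne hac.symm hbc.symm]

theorem cy_apply_thd (hab : a ≠ b) (hbc : b ≠ c) (hac : a ≠ c) :
    ((cy a b c : alternatingGroup α) : Perm α) c = a := by
  rw [cy_coe hab hbc hac, Perm.mul_apply, swap_apply_right, swap_apply_right]

theorem cy_apply_other {x : α} (hxa : x ≠ a) (hxb : x ≠ b) (hxc : x ≠ c) :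
    ((cy a b c : alternatingGroup α) : Perm α) x = x := by
  by_cases h : a ≠ b ∧ b ≠ c ∧ a ≠ c
  · rw [cy_coe h.1 h.2.1 h.2.2, Perm.mul_apply, swap_apply_of_ne_of_ne hxb hxc,
      swap_apply_of_ne_of_ne hxa hxb]
  · rw [cy, dif_neg h]; rfl

theorem conj_cy (g : alternatingGroup α) (a b c : α) :
    g * cy a b c * g⁻¹ = cy ((g : Perm α) a) ((g : Perm α) b) ((g : Perm α) c) := by
  by_cases h : a ≠ b ∧ b ≠ c ∧ a ≠ c
  · have hinj := (g : Perm α).injective
    apply Subtype.ext
    rw [Subgroup.coe_mul, Subgroup.coe_mul, Subgroup.coe_inv, cy_coe h.1 h.2.1 h.2.2,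
      cy_coe (hinj.ne h.1) (hinj.ne h.2.1) (hinj.ne h.2.2), swap_apply_apply, swap_apply_apply]
    group
  · have h' : ¬ ((g : Perm α) a ≠ (g : Perm α) b ∧ (g : Perm α) b ≠ (g : Perm α) c ∧
        (g : Perm α) a ≠ (g : Perm α) c) := by
      simpa [(g : Perm α).injective.eq_iff] using h
    rw [cy, dif_neg h, cy, dif_neg h']
    group

theorem cy_rotate (hab : a ≠ b) (hbc : b ≠ c) (hac : a ≠ c) : cy b c a = cy a b c := by
  apply Subtype.ext
  refine Equiv.ext fun x => ?_
  by_cases hxa : x = a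
  · subst hxa; rw [cy_apply_thd hbc hac.symm hab.symm, cy_apply_fst hab hbc hac]
  by_cases hxb : x = b
  · subst hxb; rw [cy_apply_fst hbc hac.symm hab.symm, cy_apply_snd hab hbc hac]
  by_cases hxc : x = c
  · subst hxc; rw [cy_apply_snd hbc hac.symm hab.symm, cy_apply_thd hab hbc hac]
  rw [cy_apply_other hxb hxc hxa, cy_apply_other hxa hxb hxc]

theorem cy_mul_cy_rev (hab : a ≠ b) (hbc : b ≠ c) (hac : a ≠ c) : cy a b c * cy c b a = 1 := by
  apply Subtype.ext
  rw [Subgroup.coe_mul, cy_coe hab hbc hac, cy_coe hbc.symm hab.symm hac.symm, swap_comm c b,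
    swap_comm b a, mul_assoc, ← mul_assoc (swap b c), swap_mul_self, one_mul, swap_mul_self]
  rfl

theorem cy_inv (hab : a ≠ b) (hbc : b ≠ c) (hac : a ≠ c) : (cy a b c)⁻¹ = cy c b a :=
  inv_eq_of_mul_eq_one_right (cy_mul_cy_rev hab hbc hac)

theorem cy_pow_three (a b c : α) : cy a b c ^ 3 = 1 := by
  by_cases h : a ≠ b ∧ b ≠ c ∧ a ≠ c
  · have h3 := (isThreeCycle_swap_mul_swap_same (α := α) h.1.symm h.2.1 h.2.2).orderOf
    apply Subtype.ext
    rw [SubmonoidClass.coe_pow, cy_coe h.1 h.2.1 h.2.2, swap_comm a b]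
    simpa [h3] using pow_orderOf_eq_one (swap b a * swap b c)
  · rw [cy, dif_neg h, one_pow]

theorem cy_ne_one (hab : a ≠ b) (hbc : b ≠ c) (hac : a ≠ c) : cy a b c ≠ 1 := fun h => by
  have := cy_apply_fst hab hbc hac
  rw [h] at this
  exact hab this

theorem commute_cy {g : alternatingGroup α} (ha : (g : Perm α) a = a) (hb : (g : Perm α) b = b)
    (hc : (g : Perm α) c = c) : Commute g (cy a b c) := by
  have h := conj_cy g a b c
  rw [ha, hb, hc] at h
  exact mul_inv_eq_iff_eq_mul.1 h

theorem commute_cy_cy (hab : a ≠ d ∧ a ≠ e ∧ a ≠ f) (hb : b ≠ d ∧ b ≠ e ∧ b ≠ f)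
    (hc : c ≠ d ∧ c ≠ e ∧ c ≠ f) : Commute (cy d e f) (cy a b c) :=
  commute_cy (cy_apply_other hab.1 hab.2.1 hab.2.2) (cy_apply_other hb.1 hb.2.1 hb.2.2)
    (cy_apply_other hc.1 hc.2.1 hc.2.2)

/-- The double transposition `(a b)(c d)`. -/
def dt (a b c d : α) : alternatingGroup α :=
  if h : a ≠ b ∧ c ≠ d then
    ⟨swap a b * swap c d, by rw [mem_alternatingGroup, map_mul, sign_swap h.1, sign_swap h.2]; rfl⟩
  else 1

theorem dt_coe (hab : a ≠ b) (hcd : c ≠ d) :
    ((dt a b c d : alternatingGroup α) : Perm α) = swap a b * swap c d := by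
  rw [dt, dif_pos ⟨hab, hcd⟩]

theorem conj_dt (g : alternatingGroup α) (a b c d : α) :
    g * dt a b c d * g⁻¹ = dt ((g : Perm α) a) ((g : Perm α) b) ((g : Perm α) c) ((g : Perm α) d) := by
  by_cases h : a ≠ b ∧ c ≠ d
  · have hinj := (g : Perm α).injective
    apply Subtype.ext
    rw [Subgroup.coe_mul, Subgroup.coe_mul, Subgroup.coe_inv, dt_coe h.1 h.2,
      dt_coe (hinj.ne h.1) (hinj.ne h.2), swap_apply_apply, swap_apply_apply]
    group
  · have h' : ¬ ((g : Perm α) a ≠ (g : Perm α) b ∧ (g : Perm α) c ≠ (g : Perm α) d) := by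
      simpa [(g : Perm α).injective.eq_iff] using h
    rw [dt, dif_neg h, dt, dif_neg h']
    group

/-- Evaluate swaps at a point. -/
theorem dt_apply (hab : a ≠ b) (hcd : c ≠ d) (x : α) :
    ((dt a b c d : alternatingGroup α) : Perm α) x = swap a b (swap c d x) := by
  rw [dt_coe hab hcd]; rfl

theorem cy_apply (hab : a ≠ b) (hbc : b ≠ c) (hac : a ≠ c) (x : α) :
    ((cy a b c : alternatingGroup α) : Perm α) x = swap a b (swap b c x) := by
  rw [cy_coe hab hbc hac]; rfl

/-- `(a b c)(a b d) = (a c)(b d)`. -/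
theorem cy_mul_cy (hab : a ≠ b) (hbc : b ≠ c) (hac : a ≠ c) (had : a ≠ d) (hbd : b ≠ d)
    (hcd : c ≠ d) : cy a b c * cy a b d = dt a c b d := by
  apply Subtype.ext
  refine Equiv.ext fun x => ?_
  rw [Subgroup.coe_mul, Perm.mul_apply, cy_apply hab hbd had, cy_apply hab hbc hac, dt_apply hac hbd]
  simp only [swap_apply_def]
  split_ifs <;> simp_all

theorem dt_comm (hab : a ≠ b) (hcd : c ≠ d) (hac : a ≠ c) (had : a ≠ d) (hbc : b ≠ c) (hbd : b ≠ d) :
    dt c d a b = dt a b c d := by
  apply Subtype.ext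
  refine Equiv.ext fun x => ?_
  rw [dt_apply hcd hab, dt_apply hab hcd]
  simp only [swap_apply_def]
  split_ifs <;> simp_all

theorem dt_swap_left (hab : a ≠ b) (hcd : c ≠ d) : dt b a c d = dt a b c d :=
  Subtype.ext (by rw [dt_coe hab.symm hcd, dt_coe hab hcd, swap_comm])

theorem dt_mul_self (hab : a ≠ b) (hcd : c ≠ d) (hac : a ≠ c) (had : a ≠ d) (hbc : b ≠ c)
    (hbd : b ≠ d) : dt a b c d * dt a b c d = 1 := by
  apply Subtype.ext
  refine Equiv.ext fun x => ?_
  rw [Subgroup.coe_mul, Perm.mul_apply, dt_apply hab hcd, dt_apply hab hcd, Subgroup.coe_one,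
    Perm.one_apply]
  simp only [swap_apply_def]
  split_ifs <;> simp_all

theorem dt_ne_one (hab : a ≠ b) (hcd : c ≠ d) (hac : a ≠ c) (had : a ≠ d) : dt a b c d ≠ 1 := by
  intro h
  have h1 := dt_apply hab hcd a
  rw [h, swap_apply_of_ne_of_ne hac had, swap_apply_left] at h1
  exact hab h1

/-- The two cosets: any two injective tuples leaving two points free are conjugate. -/
theorem exists_move {j : ℕ} (hj : j + 2 ≤ Fintype.card α) (u v : Fin j → α)
    (hu : Function.Injective u) (hv : Function.Injective v) :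
    ∃ g : alternatingGroup α, ∀ i, (g : Perm α) (u i) = v i := by
  obtain ⟨σ, hσ⟩ := Equiv.Perm.exists_extending_pair u v hu hv
  rcases Int.units_eq_one_or (Perm.sign σ) with h | h
  · exact ⟨⟨σ, mem_alternatingGroup.2 h⟩, hσ⟩
  · obtain ⟨p, hp, q, hq, hpq⟩ : ∃ p ∈ (Finset.univ.image v)ᶜ, ∃ q ∈ (Finset.univ.image v)ᶜ, p ≠ q := by
      refine Finset.one_lt_card.1 ?_
      rw [Finset.card_compl, Finset.card_image_of_injective _ hv, Finset.card_univ, Fintype.card_fin]
      omega
    refine ⟨⟨swap p q * σ, by rw [mem_alternatingGroup, map_mul, sign_swap hpq, h]; rfl⟩, fun i => ?_⟩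
    show swap p q (σ (u i)) = v i
    simp only [Finset.mem_compl, Finset.mem_image, Finset.mem_univ, true_and, not_exists] at hp hq
    rw [hσ, swap_apply_of_ne_of_ne (hp i) (hq i)]

/-- An element avoiding a short list. -/
theorem exists_avoid (l : List α) (h : l.length < Fintype.card α) : ∃ x : α, x ∉ l := by
  by_contra hne
  simp only [not_exists, not_not] at hne
  have : Finset.univ ⊆ l.toFinset := fun x _ => List.mem_toFinset.2 (hne x)
  have := (Finset.card_le_card this).trans l.toFinset_card_le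
  rw [Finset.card_univ] at this
  omega

/-- The alternating group is generated by the cycles. -/
theorem closure_cy : Subgroup.closure {g : alternatingGroup α | ∃ a b c, a ≠ b ∧ b ≠ c ∧ a ≠ c ∧ g = cy a b c} = ⊤ := by
  refine Subgroup.map_injective (alternatingGroup α).subtype_injective ?_
  rw [MonoidHom.map_closure, ← MonoidHom.range_eq_map, Subgroup.range_subtype]
  refine Eq.trans (congrArg Subgroup.closure ?_) closure_three_cycles_eq_alternating
  ext σ
  constructor
  · rintro ⟨_, ⟨a, b, c, hab, hbc, hac, rfl⟩, rfl⟩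
    show ((cy a b c : alternatingGroup α) : Perm α).IsThreeCycle
    rw [cy_coe hab hbc hac, swap_comm a b]
    exact isThreeCycle_swap_mul_swap_same hab.symm hbc hac
  · intro hσ
    obtain ⟨a, ha⟩ : σ.support.Nonempty := Finset.card_pos.1 (by rw [hσ.card_support]; norm_num)
    have hne : σ a ≠ a := mem_support.1 ha
    have h3 : σ (σ (σ a)) = a := by
      have := congrArg (fun τ : Perm α => τ a) (hσ.orderOf ▸ pow_orderOf_eq_one σ)
      simpa [pow_succ] using this
    have hne2 : σ a ≠ σ (σ a) := fun h => hne (σ.injective h).symm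
    have hne3 : a ≠ σ (σ a) := fun h => by
      have := congrArg σ h
      rw [h3] at this
      exact hne this
    refine ⟨cy a (σ a) (σ (σ a)), ⟨a, σ a, σ (σ a), hne.symm, hne2, hne3, rfl⟩, ?_⟩
    refine Equiv.ext fun x => ?_
    show ((cy a (σ a) (σ (σ a)) : alternatingGroup α) : Perm α) x = σ x
    by_cases hxa : x = a
    · subst hxa; rw [cy_apply_fst hne.symm hne2 hne3]
    by_cases hxb : x = σ a
    · subst hxb; rw [cy_apply_snd hne.symm hne2 hne3]
    by_cases hxc : x = σ (σ a)
    · subst hxc; rw [cy_apply_thd hne.symm hne2 hne3, h3]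
    rw [cy_apply_other hxa hxb hxc]
    by_contra hx
    have hsub : ({a, σ a, σ (σ a), x} : Finset α) ⊆ σ.support := by
      intro y hy
      simp only [Finset.mem_insert, Finset.mem_singleton] at hy
      rcases hy with rfl | rfl | rfl | rfl
      exacts [ha, apply_mem_support.2 ha, apply_mem_support.2 (apply_mem_support.2 ha),
        mem_support.2 (Ne.symm hx)]
    have := Finset.card_le_card hsub
    rw [hσ.card_support, Finset.card_insert_of_notMem (by simp [hne.symm, hne3, Ne.symm hxa]),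
      Finset.card_insert_of_notMem (by simp [hne2, Ne.symm hxb]),
      Finset.card_insert_of_notMem (by simp [Ne.symm hxc]), Finset.card_singleton] at this
    omega

variable {p : α → Prop} [DecidablePred p]

/-- The alternating group of a set of points inside that of all points. -/
def incl (p : α → Prop) [DecidablePred p] : alternatingGroup {x // p x} →* alternatingGroup α where
  toFun g := ⟨ofSubtype (g : Perm {x // p x}), by
    rw [mem_alternatingGroup, sign_ofSubtype]; exact mem_alternatingGroup.1 g.2⟩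
  map_one' := Subtype.ext (by simp)
  map_mul' g h := Subtype.ext (by simp)

theorem incl_apply_of_not {x : α} (hx : ¬ p x) (g : alternatingGroup {x // p x}) :
    ((incl p g : alternatingGroup α) : Perm α) x = x :=
  ofSubtype_apply_of_not_mem _ hx

theorem incl_injective : Function.Injective (incl p : _ → alternatingGroup α) := fun g h hgh =>
  Subtype.ext (ofSubtype_injective (congrArg Subtype.val hgh))

theorem incl_cy (a b c : {x // p x}) : incl p (cy a b c) = cy (a : α) b c := by
  by_cases h : a ≠ b ∧ b ≠ c ∧ a ≠ c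
  · apply Subtype.ext
    show ofSubtype _ = _
    rw [cy_coe h.1 h.2.1 h.2.2, map_mul, ofSubtype_swap_eq, ofSubtype_swap_eq,
      cy_coe (Subtype.coe_ne_coe.2 h.1) (Subtype.coe_ne_coe.2 h.2.1) (Subtype.coe_ne_coe.2 h.2.2)]
  · have h' : ¬ ((a : α) ≠ b ∧ (b : α) ≠ c ∧ (a : α) ≠ c) := by simpa [Subtype.coe_inj] using h
    rw [cy, dif_neg h, cy, dif_neg h', map_one]

end Cfsg.Agent.H85.AltDeg
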