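import Cfsg.Agent.H85.AltDeg.Halve
import Cfsg.Agent.H85.AltDeg.Basic

/-!
Representations of alternating groups up to sign, in which double transpositions square to minus
one: normalised three-cycles and the halving by a four-group.
-/

set_option autoImplicit false
set_option linter.unusedSectionVars false

namespace Cfsg.Agent.H85.AltDeg

open Module Submodule Equiv

universe u v w

/-- Equality up to sign. -/
def PM {R : Type*} [Neg R] (S T : R) : Prop := S = T ∨ S = -T

namespace PM

variable {R : Type*} [Ring R] {S T U S' T' : R}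

theorem refl (S : R) : PM S S := Or.inl rfl

theorem symm (h : PM S T) : PM T S := by
  rcases h with h | h
  · exact Or.inl h.symm
  · exact Or.inr (by rw [h, neg_neg])

theorem trans (h : PM S T) (h' : PM T U) : PM S U := by
  rcases h with h | h <;> rcases h' with h' | h' <;> subst h h'
  exacts [Or.inl rfl, Or.inr rfl, Or.inr rfl, Or.inl (neg_neg _)]

theorem mul (h : PM S T) (h' : PM S' T') : PM (S * S') (T * T') := by
  rcases h with h | h <;> rcases h' with h' | h' <;> subst h h'
  exacts [Or.inl rfl, Or.inr (mul_neg _ _), Or.inr (neg_mul _ _), Or.inl (neg_mul_neg _ _)]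

theorem sq (h : PM S T) : S * S = T * T := by
  rcases h with h | h <;> subst h
  exacts [rfl, neg_mul_neg _ _]

/-- Two elements of exponent three that agree up to sign are equal. -/
theorem eq_of_cube (h : PM S T) (hS : S * S * S = 1) (hT : T * T * T = 1) : S = T := by
  rcases h with h | h
  · exact h
  · rw [h, neg_mul_neg, mul_neg, hT] at hS
    have h1 := congrArg (· * T) hS
    simp only [neg_mul, one_mul] at h1
    exact h.trans h1

end PM

variable {α : Type u} [Fintype α] [DecidableEq α] {k : Type w} [Field k]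
  {V : Type v} [AddCommGroup V] [Module k V]

/-- A representation up to sign in which double transpositions square to `-1`. -/
structure Spin (σ : alternatingGroup α → Module.End k V) : Prop where
  map_one : σ 1 = 1
  map_mul : ∀ g h, PM (σ g * σ h) (σ (g * h))
  dt_sq : ∀ a b c d : α, Quad a b c d → σ (dt a b c d) * σ (dt a b c d) = -1

open Classical in
/-- The lift of exponent three of a three-cycle. -/
noncomputable def cyS (σ : alternatingGroup α → Module.End k V) (a b c : α) : Module.End k V :=
  if σ (cy a b c) * σ (cy a b c) * σ (cy a b c) = 1 then σ (cy a b c) else -σ (cy a b c)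

/-- A normalised lift of `(a b)(c d)`. -/
noncomputable def qA (σ : alternatingGroup α → Module.End k V) (a b c d : α) : Module.End k V :=
  cyS σ a c b * cyS σ a c d

variable {σ : alternatingGroup α → Module.End k V} (S : Spin σ) {a b c d e f g : α}
include S

omit S in
theorem cyS_pm (a b c : α) : PM (cyS σ a b c) (σ (cy a b c)) := by
  rw [cyS]
  split_ifs
  exacts [Or.inl rfl, Or.inr rfl]

theorem cyS_cube (a b c : α) : cyS σ a b c * cyS σ a b c * cyS σ a b c = 1 := by
  have h : PM (σ (cy a b c) * σ (cy a b c) * σ (cy a b c)) 1 := by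
    refine (((S.map_mul _ _).mul (PM.refl _)).trans (S.map_mul _ _)).trans ?_
    rw [← pow_three', cy_pow_three, S.map_one]
    exact PM.refl _
  rw [cyS]
  split_ifs with h'
  · exact h'
  · rw [neg_mul_neg, mul_neg, h.resolve_left h', neg_neg]

theorem sigma_mul_inv (g : alternatingGroup α) : PM (σ g * σ g⁻¹) 1 := by
  have h := S.map_mul g g⁻¹
  rwa [mul_inv_cancel, S.map_one] at h

/-- Conjugation of the normalised lifts is exact. -/
theorem sigma_cyS (g : alternatingGroup α) (a b c : α) :
    σ g * cyS σ a b c =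
      cyS σ ((g : Perm α) a) ((g : Perm α) b) ((g : Perm α) c) * σ g := by
  set X := cyS σ a b c with hX
  set Y := cyS σ ((g : Perm α) a) ((g : Perm α) b) ((g : Perm α) c) with hY
  have h : PM (σ g * X) (Y * σ g) := by
    refine ((PM.refl _).mul (cyS_pm a b c)).trans ((S.map_mul _ _).trans ?_)
    refine PM.symm (((cyS_pm _ _ _).mul (PM.refl _)).trans ((S.map_mul _ _).trans ?_))
    rw [← conj_cy, inv_mul_cancel_right]
    exact PM.refl _
  rcases h with h | h
  · exact h
  have e3 : σ g * X * X * X = -(Y * Y * Y * σ g) := by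
    rw [h, neg_mul, mul_assoc Y (σ g) X, h, mul_neg, neg_neg, ← mul_assoc, mul_assoc (Y * Y) (σ g) X,
      h, mul_neg, ← mul_assoc]
  rw [mul_assoc, mul_assoc, ← mul_assoc X X X, cyS_cube S, mul_one, cyS_cube S, one_mul] at e3
  have hX1 : σ g * X = Y * σ g := by
    have h' : Y * σ g = -(Y * σ g) := by
      conv_lhs => rw [e3]
      rw [mul_neg]
    rw [h, ← h']
  exact hX1

theorem cyS_comm {g : alternatingGroup α} (ha : (g : Perm α) a = a) (hb : (g : Perm α) b = b)
    (hc : (g : Perm α) c = c) : σ g * cyS σ a b c = cyS σ a b c * σ g := by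
  have h := sigma_cyS S g a b c
  rwa [ha, hb, hc] at h

theorem cyS_mul_rev (hab : a ≠ b) (hbc : b ≠ c) (hac : a ≠ c) :
    cyS σ c b a * cyS σ a b c = 1 := by
  set X := cyS σ a b c with hX
  have h3 := cyS_cube S a b c
  have hpm : PM (cyS σ c b a) (X * X) := by
    refine (cyS_pm _ _ _).trans (PM.symm (((cyS_pm _ _ _).mul (cyS_pm _ _ _)).trans ((S.map_mul _ _).trans ?_)))
    rw [show cy a b c * cy a b c = cy c b a by
      rw [← cy_inv hab hbc hac]
      exact eq_inv_of_mul_eq_one_left (by rw [← pow_three', cy_pow_three])]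
    exact PM.refl _
  have h6 : (X * X) * (X * X) * (X * X) = 1 := by
    rw [show (X * X) * (X * X) * (X * X) = (X * X * X) * (X * X * X) by simp only [mul_assoc], h3,
      one_mul]
  rw [hpm.eq_of_cube (cyS_cube S _ _ _) h6, h3]

theorem cyS_congr {a' b' c' : α} (h : cy a b c = cy a' b' c') : cyS σ a b c = cyS σ a' b' c' := by
  unfold cyS
  rw [h]

/-- The product of two three-cycles with a common edge squares to `-1`. -/
theorem cyS_mul_cyS (hab : a ≠ b) (hbc : b ≠ c) (hac : a ≠ c) (had : a ≠ d) (hbd : b ≠ d)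
    (hcd : c ≠ d) : PM (cyS σ a b c * cyS σ a b d) (σ (dt a c b d)) ∧
      cyS σ a b c * cyS σ a b d * (cyS σ a b c * cyS σ a b d) = -1 := by
  have h : PM (cyS σ a b c * cyS σ a b d) (σ (dt a c b d)) := by
    refine ((cyS_pm _ _ _).mul (cyS_pm _ _ _)).trans ?_
    rw [← cy_mul_cy hab hbc hac had hbd hcd]
    exact S.map_mul _ _
  exact ⟨h, by rw [h.sq, S.dt_sq _ _ _ _ ⟨hac, hab, had, hbc.symm, hcd, hbd⟩]⟩

theorem qA_pm (q : Quad a b c d) : PM (qA σ a b c d) (σ (dt a b c d)) :=
  (cyS_mul_cyS S q.ac q.bc.symm q.ab q.ad q.cd q.bd).1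

theorem qA_sq (q : Quad a b c d) : qA σ a b c d * qA σ a b c d = -1 :=
  (cyS_mul_cyS S q.ac q.bc.symm q.ab q.ad q.cd q.bd).2

theorem qA_comm {g : alternatingGroup α} (ha : (g : Perm α) a = a) (hb : (g : Perm α) b = b)
    (hc : (g : Perm α) c = c) (hd : (g : Perm α) d = d) :
    σ g * qA σ a b c d = qA σ a b c d * σ g := by
  rw [qA, ← mul_assoc, cyS_comm S ha hc hb, mul_assoc, cyS_comm S ha hc hd, mul_assoc]

theorem qA_anticomm (q : Quad a b c d) :
    qA σ a c b d * qA σ a b c d = -(qA σ a b c d * qA σ a c b d) := by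
  set A := qA σ a b c d with hA
  set B := qA σ a c b d with hB
  have q' : Quad a c b d := ⟨q.ac, q.ab, q.ad, q.bc.symm, q.cd, q.bd⟩
  have hAB : A * B * (A * B) = -1 := by
    have h : PM (A * B) (σ (dt a d b c)) := by
      refine ((qA_pm S q).mul (qA_pm S q')).trans ?_
      rw [← dt_mul_dt q]
      exact S.map_mul _ _
    rw [h.sq, S.dt_sq _ _ _ _ ⟨q.ad, q.ab, q.ac, q.bd.symm, q.cd.symm, q.bc⟩]
  have hA2 := qA_sq S q
  have hB2 := qA_sq S q'
  rw [← hA] at hA2
  rw [← hB] at hB2
  have h1 : A * A * (B * A) * (B * B) = A * (A * B * (A * B)) * B := by simp only [mul_assoc]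
  rw [hA2, hB2, hAB] at h1
  simp only [neg_mul, one_mul, mul_neg, mul_one, neg_neg] at h1
  exact h1

variable [FiniteDimensional k V]

/-- A four-group halves the space, compatibly with the group of the other points. -/
theorem halve [IsAlgClosed k] (h2 : (2 : k) ≠ 0) (q : Quad a b c d) :
    ∃ P : Module.End k V, finrank k V = 2 * finrank k (LinearMap.range P) ∧
      (∀ g : alternatingGroup α, (g : Perm α) a = a → (g : Perm α) b = b → (g : Perm α) c = c →
        (g : Perm α) d = d → P * σ g = σ g * P) ∧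
      (∀ T : Module.End k V, T * qA σ a c b d = qA σ a c b d * T →
        (∀ y ∈ LinearMap.range P, T y = 0) → T = 0) := by
  obtain ⟨i, hi⟩ : ∃ i : k, i * i = -1 := by
    obtain ⟨z, hz⟩ := IsAlgClosed.exists_eq_mul_self (-1 : k)
    exact ⟨z, hz.symm⟩
  set A := qA σ a b c d with hA
  set B := qA σ a c b d with hB
  have hA2 : A * A = -1 := qA_sq S q
  have hB2 : B * B = -1 := qA_sq S ⟨q.ac, q.ab, q.ad, q.bc.symm, q.cd, q.bd⟩
  have hBA : B * A = -(A * B) := qA_anticomm S q
  set P : Module.End k V := (2 : k)⁻¹ • (1 + i • A) with hPdef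
  have h22 : (2 : k)⁻¹ + (2 : k)⁻¹ = 1 := by field_simp; norm_num
  have hP : P * P = P := by
    rw [hPdef]
    simp only [smul_mul_assoc, mul_smul_comm, add_mul, mul_add, one_mul, mul_one, hA2]
    match_scalars
    · linear_combination (2 : k)⁻¹ * h22 - (2 : k)⁻¹ ^ 2 * hi
    · linear_combination i * (2 : k)⁻¹ * h22
  have hPB : P * B = B * (1 - P) := by
    rw [hPdef]
    simp only [mul_sub, smul_mul_assoc, mul_smul_comm, add_mul, mul_add, one_mul, mul_one, hBA]
    match_scalars
    · linear_combination h22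
    · ring
  refine ⟨P, finrank_eq_two_mul hP (c := -1) (neg_ne_zero.2 one_ne_zero)
    (by rw [hB2, neg_smul, one_smul]) hPB, fun g ha hb hc hd => ?_, fun T hTB hT => ?_⟩
  · rw [hPdef, smul_mul_assoc, mul_smul_comm, add_mul, mul_add, one_mul, mul_one, smul_mul_assoc,
      mul_smul_comm, qA_comm S ha hb hc hd]
  · refine LinearMap.ext fun y => ?_
    have e1 : B (y - P y) = P (B y) := by
      have h := LinearMap.congr_fun hPB y
      simpa only [Module.End.mul_apply, LinearMap.sub_apply, Module.End.one_apply] using h.symm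
    have e2 : B (T (y - P y)) = 0 := by
      rw [← Module.End.mul_apply, ← hTB, Module.End.mul_apply, e1]
      exact hT _ ⟨_, rfl⟩
    have e3 := congrArg B e2
    rw [← Module.End.mul_apply, hB2, map_zero] at e3
    simp only [LinearMap.neg_apply, Module.End.one_apply, neg_eq_zero, map_sub,
      hT _ ⟨_, rfl⟩, sub_zero] at e3
    simpa using e3

omit [FiniteDimensional k V] in
/-- The action on an invariant subspace of the group of the points satisfying `p`. -/
theorem Spin.restrict {p : α → Prop} [DecidablePred p] (M : Submodule k V)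
    (h : ∀ g : alternatingGroup {x // p x}, ∀ y ∈ M, σ (incl p g) y ∈ M) :
    Spin (fun g : alternatingGroup {x // p x} => (σ (incl p g)).restrict (h g)) := by
  refine ⟨LinearMap.ext fun y => Subtype.ext ?_, fun g g' => ?_, fun a b c d q => ?_⟩
  · rw [LinearMap.coe_restrict_apply, _root_.map_one, S.map_one]
    rfl
  · rcases S.map_mul (incl p g) (incl p g') with e | e
    · refine Or.inl (LinearMap.ext fun y => Subtype.ext ?_)
      rw [LinearMap.coe_restrict_apply, _root_.map_mul, ← e]
      rfl
    · refine Or.inr (LinearMap.ext fun y => Subtype.ext ?_)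
      rw [LinearMap.neg_apply, Submodule.coe_neg, LinearMap.coe_restrict_apply, _root_.map_mul]
      exact LinearMap.congr_fun e (y : V)
  · have q' : Quad (a : α) b c d := ⟨Subtype.coe_ne_coe.2 q.ab, Subtype.coe_ne_coe.2 q.ac,
      Subtype.coe_ne_coe.2 q.ad, Subtype.coe_ne_coe.2 q.bc, Subtype.coe_ne_coe.2 q.bd,
      Subtype.coe_ne_coe.2 q.cd⟩
    have he : incl p (dt a b c d) = dt (a : α) b c d := by
      rw [← cy_mul_cy q.ac q.bc.symm q.ab q.ad q.cd q.bd, _root_.map_mul, incl_cy, incl_cy,
        cy_mul_cy q'.ac q'.bc.symm q'.ab q'.ad q'.cd q'.bd]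
    refine LinearMap.ext fun y => Subtype.ext ?_
    have e := LinearMap.congr_fun (S.dt_sq _ _ _ _ q') (y : V)
    rw [← he] at e
    simpa using e

omit [FiniteDimensional k V] in
theorem cyS_restrict_apply {p : α → Prop} [DecidablePred p] {M : Submodule k V}
    (h : ∀ g : alternatingGroup {x // p x}, ∀ y ∈ M, σ (incl p g) y ∈ M) (a b c : {x // p x})
    (y : M) : ((cyS (fun g : alternatingGroup {x // p x} => (σ (incl p g)).restrict (h g)) a b c y : M) : V) =
      cyS σ (a : α) b c (y : V) := by
  set τ := fun g : alternatingGroup {x // p x} => (σ (incl p g)).restrict (h g) with hτ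
  have hst : ∀ z ∈ M, σ (cy (a : α) b c) z ∈ M := fun z hz => by
    rw [← incl_cy]; exact h _ z hz
  have hst' : ∀ z ∈ M, cyS σ (a : α) b c z ∈ M := fun z hz => by
    rcases cyS_pm (σ := σ) (a : α) b c with e | e <;> rw [e]
    · exact hst z hz
    · exact M.neg_mem (hst z hz)
  have hpm : PM ((cyS σ (a : α) b c).restrict hst') (τ (cy a b c)) := by
    rcases cyS_pm (σ := σ) (a : α) b c with e | e
    · exact Or.inl (LinearMap.ext fun z => Subtype.ext (by simp [hτ, e, incl_cy]))
    · exact Or.inr (LinearMap.ext fun z => Subtype.ext (by simp [hτ, e, incl_cy]))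
  have heq : cyS τ a b c = (cyS σ (a : α) b c).restrict hst' := by
    refine ((cyS_pm (σ := τ) a b c).trans hpm.symm).eq_of_cube
      (cyS_cube (S.restrict M h) a b c) (LinearMap.ext fun z => Subtype.ext ?_)
    simpa using LinearMap.congr_fun (cyS_cube S (a : α) b c) (z : V)
  rw [heq]
  rfl

end Cfsg.Agent.H85.AltDeg
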